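import Cfsg.Agent.H860.JM.Defs
import Cfsg.Agent.Lib.F2Mat
import Cfsg.Agent.Lib.F2MatGroup
import Cfsg.Agent.H858.VK
import Cfsg.Agent.BabyM.DuadGen
import Cfsg.Agent.H857.Duad
import Cfsg.Agent.H858.CentS
import Cfsg.Agent.KFacts.J4.Base
import Cfsg.Agent.H858.MLoc
import Cfsg.Agent.Lib.ListFast
import Cfsg.Agent.Lib.NodupNat
import Mathlib.Data.Nat.Notation
import Cfsg.Agent.H858.Loc7
import Cfsg.Agent.Lib.F2Rank
import Mathlib.Data.Set.Card
import Mathlib.Tactic.Group
import Mathlib.GroupTheory.Perm.Cycle.Type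
import Cfsg.Agent.Lib.F112
import Cfsg.Agent.J4.Invol
import Mathlib.GroupTheory.Index
import Mathlib.GroupTheory.PGroup
import Mathlib.Data.Set.Finite.Lattice
import Mathlib.Data.Set.Finite.Lemmas
import Mathlib
import Cfsg.Agent.Lib.LocalCore
import Cfsg.Agent.FastGrp
import Cfsg.Agent.Prune
set_option linter.all false

section
prune_inst 0x7ffebcf8efb8bddfffff7e7ffefddffdf9f8ffffffdffb7bffedf5ffafdf6b6ffbe5fbaf7fec58ff8ed6e0b630f87b53fb7eebbfee6bdc7ffffd5ff45ffbff9fbfefbd88519f9cb40ffc6ffffbf07fee7f3ffffffffffffffffffffffffffffffffdffffffff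

-- part: H68/JM/Vec
section
set_option linter.all false
open scoped Cfsg.Agent.FastGrp

/-!
# Row vectors of the 112-dimensional representation of `J4`

Soundness of kernel computations with row vectors, the vector fixed by `2^11 : M24`, and a search
over the group `2^11`.
-/

set_option autoImplicit false

open Cfsg

namespace Cfsg.Agent.H68.JM

open Cfsg.Agent.Lib Cfsg.Agent.Lib.F2MatGroup
open Cfsg.Agent.J4.Rep112 Cfsg.Agent.J4.LowerData Cfsg.Agent.J4.Lower Cfsg.Agent.J4.Beta
open Cfsg.Agent.H858.VK Cfsg.Agent.H858.Data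

/-! ### The action on row vectors -/

/-- row vectors -/
abbrev Row := Fin 112 → ZMod 2

/-- the action on row vectors -/
noncomputable def ac (w : Row) (x : Cfsg.Spor.J4) : Row :=
  Matrix.vecMul w ((rho x : GL (Fin 112) (ZMod 2)) : Matrix (Fin 112) (Fin 112) (ZMod 2))

theorem ac_one (w : Row) : ac w 1 = w := by
  unfold ac
  rw [map_one, Units.val_one, Matrix.vecMul_one]

theorem ac_mul (w : Row) (x y : Cfsg.Spor.J4) : ac w (x * y) = ac (ac w x) y := by
  unfold ac
  rw [map_mul, Units.val_mul, Matrix.vecMul_vecMul]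

theorem ac_add (v w : Row) (x : Cfsg.Spor.J4) : ac (v + w) x = ac v x + ac w x := by
  unfold ac
  rw [Matrix.add_vecMul]

theorem ac_inv {w : Row} {x : Cfsg.Spor.J4} (h : ac w x = w) : ac w x⁻¹ = w := by
  conv_lhs => rw [← h]
  rw [← ac_mul, mul_inv_cancel, ac_one]

/-- the row vector with code `v` -/
abbrev tv (v : ℕ) : Row := F2Mat.toVec 112 v

theorem ac_code {LG : List Cfsg.Spor.J4} {L : List ℕ}
    (h : List.Forall₂ (Codes 112) (LG.map rho) L) (v i : ℕ) :
    ac (tv v) (getG LG i) = tv (F2Mat.vmul 112 v (get (F2Mat.one 112) L i)) := by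
  have h1 := codes_get h i
  rw [getG_map] at h1
  unfold Codes at h1
  unfold ac
  rw [h1, ← F2Mat.toVec_vmul]

/-- a vector times a word -/
def vword (L : List ℕ) (w : List ℕ) : ℕ → ℕ :=
  List.rec (motive := fun _ => ℕ → ℕ) (fun v => v)
    (fun i _ ih v => F2Mat.force (F2Mat.vmul 112 v (get (F2Mat.one 112) L i)) ih) w

theorem vword_cons (L : List ℕ) (i : ℕ) (w : List ℕ) (v : ℕ) :
    vword L (i :: w) v = vword L w (F2Mat.vmul 112 v (get (F2Mat.one 112) L i)) :=
  F2Mat.force_eq _ _

theorem vword_sound {LG : List Cfsg.Spor.J4} {L : List ℕ}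
    (h : List.Forall₂ (Codes 112) (LG.map rho) L) (w : List ℕ) (v : ℕ) :
    ac (tv v) (evG LG w) = tv (vword L w v) := by
  induction w generalizing v with
  | nil => exact ac_one _
  | cons i w ih =>
    rw [evG_cons, ac_mul, ac_code h, ih, vword_cons]

theorem vword_lt {L : List ℕ} {w : List ℕ} {v : ℕ} (h : v < 2 ^ 112) : vword L w v < 2 ^ 112 := by
  induction w generalizing v with
  | nil => exact h
  | cons i w ih => rw [vword_cons]; exact ih (F2Mat.vmul_lt _ _)

/-- a vector times the product of the matrices selected by the bits of `b` -/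
def vbeta (L : List ℕ) : ℕ → ℕ → ℕ :=
  List.rec (motive := fun _ => ℕ → ℕ → ℕ) (fun _ v => v)
    (fun A _ ih b v => cond (Nat.beq (b % 2) 1)
      (F2Mat.force (F2Mat.vmul 112 v A) fun u => ih (b / 2) u) (ih (b / 2) v)) L

theorem vbeta_cons (L : List ℕ) (A b v : ℕ) :
    vbeta (A :: L) b v = if b % 2 = 1 then vbeta L (b / 2) (F2Mat.vmul 112 v A) else
      vbeta L (b / 2) v := by
  change cond (Nat.beq (b % 2) 1)
      (F2Mat.force (F2Mat.vmul 112 v A) fun u => vbeta L (b / 2) u) (vbeta L (b / 2) v) = _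
  rw [F2Mat.force_eq]
  by_cases h : b % 2 = 1
  · rw [if_pos h, h]; rfl
  · rw [if_neg h]
    have : b % 2 = 0 := by omega
    rw [this]; rfl

theorem ac_code' {g : Cfsg.Spor.J4} {A : ℕ} (h : Codes 112 (rho g) A) (v : ℕ) :
    ac (tv v) g = tv (F2Mat.vmul 112 v A) := by
  unfold Codes at h
  unfold ac
  rw [h, ← F2Mat.toVec_vmul]

theorem vbeta_sound {LG : List Cfsg.Spor.J4} {L : List ℕ}
    (h : List.Forall₂ (Codes 112) (LG.map rho) L) (b v : ℕ) :
    ac (tv v) (beta LG b) = tv (vbeta L b v) := by
  induction LG generalizing L b v with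
  | nil =>
    rcases h with _ | _
    exact ac_one _
  | cons g LG ih =>
    rw [List.map_cons] at h
    rcases h with _ | @⟨_, A, _, L, h1, h2⟩
    rw [beta_cons, vbeta_cons, ac_mul]
    by_cases hb : b % 2 = 1
    · rw [if_pos hb, if_pos hb, ac_code' h1, ih h2]
    · rw [if_neg hb, if_neg hb, ac_one, ih h2]

theorem vbeta_lt {L : List ℕ} {b v : ℕ} (h : v < 2 ^ 112) : vbeta L b v < 2 ^ 112 := by
  induction L generalizing b v with
  | nil => exact h
  | cons A L ih =>
    rw [vbeta_cons]
    split_ifs
    · exact ih (F2Mat.vmul_lt _ _)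
    · exact ih h

/-! ### The search -/

/-- all products of subsets of the matrices in `L` that map `u` to `u0` have property `ok` -/
def tree (u0 : ℕ) (ok : ℕ → Bool) (L : List ℕ) : ℕ → ℕ → ℕ → Bool :=
  List.rec (motive := fun _ => ℕ → ℕ → ℕ → Bool)
   (fun u _ v => cond (Nat.beq u u0) (ok v) true)
   (fun q _ ih u b v => F2Mat.force (F2Mat.vmul 112 u q) fun u' =>
     F2Mat.force (Nat.mul 2 b) fun b2 => F2Mat.force (Nat.add v b) fun vb =>
     cond (ih u b2 v) (ih u' b2 vb) false) L

end Cfsg.Agent.H68.JM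
end

-- part: H440/J4P/Cover
section
prune_inst 0x14100100442200000000000002000000700000000000000000800000010800010000000030000200010080200008000000440009400000000a000200400404010002020000000100000000008800000000000000000000000000000000000000200000000
set_option linter.all false
open scoped Cfsg.Agent.FastGrp

/-- decoders of the packed data (elaboration time only) -/
private noncomputable def pk61d (b S i : Nat) : Nat := Nat.mod (Nat.shiftRight S (Nat.mul b i)) (Nat.shiftLeft (nat_lit 1) b)
private noncomputable def pk61c {α : Type} (t : Nat) (a : α) (f : Nat → α) : α := Nat.rec a (fun k _ => f k) t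
private noncomputable def pk61f {α : Type} (t : Nat) (f : Nat → α) : α := Nat.rec (f Nat.zero) (fun k _ => f (Nat.succ k)) t
private noncomputable def pk61l {α : Type} (f : Nat → α) (s e : Nat) (tl : List α) : List α :=
  pk61f e fun e => Nat.rec tl (fun k ih => List.cons (pk61f (Nat.sub e (Nat.succ k)) f) ih) (Nat.sub e s)
private noncomputable def pk61r {α : Type} (F : (Nat → α) → Nat → α) (d : α) (n : Nat) : Nat → α :=
  Nat.rec (fun _ => d) (fun _ ih => F ih) n


-- part: H440/J4P/DuadTab
section
/-!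
# The involutions of the stabilizer of a duad in `M24`
-/

set_option autoImplicit false

namespace Cfsg.Agent.H440.J4P.DuadTab

/-- search trees -/
inductive Tr where
  | nil : Tr
  | node (k i : Nat) (l r : Tr) : Tr

/-- part of the tree -/
noncomputable def D0000 : Tr :=
  (by
  refine (?fq9001 : ((pk61r (fun r0 j => pk61f j fun i1 => (pk61f (pk61d (nat_lit 8) 
    (nat_lit 0xb2b1b0afaeadac0000ab00aa0000a9a800a70000a600a50000a4a3a20000a100a000009f9e009d00009c009b00009a9998970000960095000094930092000091009000008f8e8d008c00008b008a00008988008700008600850000848382818000007f007e00007d7c007b00007a007900007877760000750074000073720071000070006f00006e6d6c6b00006a006900006867006600006500640000636261006000005f005e00005d5c005b00005a0059000058575655545300005200510000504f004e00004d004c00004b4a4900004800470000464500440000430042000041403f3e00003d003c00003b3a003900003800370000363534003300003200310000302f002e00002d002c00002b2a2928270000260025000024230022000021002000001f1e1d00001c001b00001a1900180000170016000015141312000011001000000f0e000d00000c000b00000a09080007000006000500000403000200000100000000)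 i1) fun u5 => (pk61f (pk61d (nat_lit 1) 
    (nat_lit 0x7f29a5394d29e534a74a694f94d29ca694f29a53a534a7e534a729a53ca694e94d29f29a5394d29e534a74a694) i1) fun t1_0 => (pk61c (Nat.div t1_0 (nat_lit 1)) _root_.Cfsg.Agent.H440.J4P.DuadTab.Tr.nil fun _ => (_root_.Cfsg.Agent.H440.J4P.DuadTab.Tr.node (pk61d (nat_lit 191) (Nat.add (Nat.add 
    (nat_lit 0x44484c5018341c3c540c14045c384028082c102458400060a098908830187058a8681048b838802028785008b08000d050901040f10021503060713170a0b14110c0e1216100018262822240c14120a2a081e1c2e02201a1604060e2c2000304844504c1810040854282c1c5c24400c3c143438584000603808487030788868a8585090b8a0802820181098b08000c0e090107060b1403150f0413171110020a0d051216100018121c0e020c0a26142a041a282e24201e060816222c200030041c38241808481054140c445c4c402c34283c505840005898a038487880086068a81088b890182028305070b08000907060c0e01051102120403151714130f0b0a0d10161000141c061e0e0a24281208022a1a2e22042018260c162c20002c082404280c3014183c54444c5c1034381c4050485840005068909878108858a02870a808b818206030388048b08000a011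107130403090b020d150e17120506100f0c141610000e200a081828160c06221e02042e2a1c26241a12142c200024104018084c34143c040c1c545c284838502c4430584000481860807890886870983820a8b858081050a02830b0800070c0109060e051004140a0b121715110f0d0203131610000e0c160620220218121c260a1a2e2a28140424081e2c20001048385024280c4c2c143440445c040830543c181c58400030581028786088183880a00820b868a89048709850b0800060f05020b0c140d0e1011090a17031513010712041610000c2226242818160e06201e14122e1c2a0a081a04022c2000183804241c3034503c400c08485c445410142c284c5840003068502018607078a080389828b858a84890880810b08000513140e010203120b040d060717090a150c0f10111610000c0e12021c18062216201a0a262e282a14041e08242c2000180c102834301c2c44403848085c3c54044c50241458400028707818385098a00810488058b88820a830906068b0800050312130b040e0f070a110c01170d021510140609161000041e24261a14280622080e20022e160a0c181c2a122c20000c481c5004343024403c1808385c4c2c101454284458400020705868381048a09050986078b8882830a8088018b0800040b12130305070d0e02140601170f0a1015110c0916100006220804281e200e0c1618020a2e1c1a12262a24142c20000c282404082c1810303440504c5c143c1c3854444858400008588060689870788890a02030b8184810503828a8b0800020e0d0b07040114130512060317110a0c1009150f16100004120e22240a060216141a18282e2608200c1e2a1c2c2000041c301838242844104c083c405c50480c34142c5458400008283080509068207848188860b81098a0705838a8b0)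 (Nat.shiftLeft 
    (nat_lit 0xf0b110d0e1410090a1712000215130516061002080a00121e1a221620041c0e242e1406282a0c182c262004100828183c3844402c14344c0c5c004830542450581c40081098a028700060884878201868b83038905850a8b080801030c12130a0e0610021405110017040f0b07150d160910020612200a0e26141600041c1e282e2208240c2a182c1a200408400c1830502c1014443c001c5c244834384c54582840081050004858187078302088a090b82868386080a8b098800150e1213071003140b0c0d0a0117110605040f0209161002000a081e121a240c20140618222e041c2826160e2c2a2004001c44104c282430183808403c5c50340c48142c58544000a8a00848888058701860782890b838305010682098b08001511090114100f070d0c0b0213170e060405030a12161000282a04140c0e1618061c1e240a2e202212021a26082c2000541c4c48384034443c300c10245c501808282c1404584000a0a81858607048800888902878b830385010982068b08001415010910110a060207050f12170c0e0b03040d13161000261e2a0c060228160e121c08182e1a240414220a202c200040282c3c1054481404184c500c5c08303844241c3458400088800848a8a010605070206890b830381858287898b0800120d06150b0907031401110410170f13020a0e050c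161000260e2a201c24082214020a1a0c2e2812161e0406182c2000481c4054384c08441424282c305c5004340c103c18584000901060a8200868507898187030b82848388858a080b08001014090111150d0e0f06030a1317070c05040b021216100022181e1a2a0e260c2428020a062e201c14041208162c20004418101454382c400c1c3c24285c3050484c34040858400080880848a0a818385830682090b870601050782898b0800100e131207150f140d060b050917110c0a020304011610001e0812020a1a2a142016181c262e040622280c0e242c200040103c2c28544c0824184844345c14301c5004380c5840008038909870a858881830781008b8a0602028685048b08001005030d0215010a1206090e0b17040c140713110f16100020041a060a2a1208260c020e1e2e1418221c2428162c20003c440810500c541c30341824285c382c0448404c1458400070605010808858a818a0789820b830380848689028b08000f010e11120b1513060310020717090d04050c0a141610001c201a1e0c28242a260e120a162e182214040208062c200038180424301c10541444080c485c4050343c282c4c58400068882850a0586038a878809020b870189848300810b080006141213110c0f0e0d100b0401170715020a0305091610001622140a281a0c0e20062a26042e1c1e24021812082c200030) (nat_lit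 8000))) (Nat.shiftLeft (Nat.add 
    (nat_lit 0x40c0018282c145c08302444381c583440088020383068a828108858604850b8989078a00070b0188010f1413120410150b0d020e030917060705110a0c160010021e24202808262a0e12140c181a2e1c16002204062c0a20043c40484c105054301438081c005c280c3444182c5824400870486880109058a898207818a0b8303800605088b0288010f050900040d150e100c0b0a1317070614110302161210021e120a1a08002a14240e061c282e18042622160c2c2020043c003414102454184c0c1c08405c2c3848443028585040087080503858a060a82878889830b8904868100020b0188010d0f030a10111402150b0c12061700090405130e160710021c0e0012180c042a0622080a242e282014161a1e2c2620043444303850101448544c241c2c5c280c3c401800580840086820480028788038a830181098b8706088a05850b0908010c10060302140e0f051504090a1700130d0b1211160710020e241a2806000c1626041c080a2e2a1e121422182c2020042838484c0c301c502c403454005c3c100818441458244008589028a0604870780088a81880b8303898105020b0688010c00100d0b1302041215110305170607090e0a0f1614100216200e141c2804220a082a24062e26001a18121e2c0c20042c0c0024082830101c3c5440485c3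41418385044584c4008483020889018006038701028a8b868a050988058b0788010a0d0c0207050609141300150e17110f10030412160b100214000a200c24061612041c2a1a2e0822260e1e182c28200424143c1000344c0c401c1808545c302c5048382858444008481088789860906870802830a8b81850580038a0b02080105110607140f1002040b0c0003171213150d090e160a10020c26281a14120e1624041c22202e1e2a000608182c0a20041c34083028140c00504824442c5c541040183c4c5838400838109098305850286068807800b8a888701820a0b048801060d0e0b03050a131409120f0c17041510071100160210020c1624260e04061a1c0a2808002e222a18141e202c1220041050484c3c40443834302c18005c0c2814541c0858244008287848006820a0308838505898b86070a8801018b0908010504020b10110d090f0012070e170a0315140613160c1002082026241e2822040a161814122e0e0c1a2a061c2c002004103818283c084450303414481c5c244c2c540040580c40006848887098183090a8586010a0b808782028805038b0800130a150c05090d020f1203141017040111070b0e0616100200161e22241c2620181a280c082e061404120e0a2c2a20040c342c3818141c4850004c10085c3c44402854245830400820583818786088281080a00030b8984870a89068b050801040c0307)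 (Nat.shiftLeft (Nat.add 
    (nat_lit 0x614030517150c09100a160f1110040e02181a0a14160c24261e20002e2a1c2206082c281220081848345010141c2c4c04380c005c3c54404428583024401020881800a07880082858603830b8504868a898b070908020510090a0f141101040b0c1213170003150d06160e0710040c0e242616021a061e122208182e282a00141c2c200a2008143c18002c30502428404434385c104c541c04580c48401028580820808860300078a03818b85070a89048b09868802030b0c11120d0e0f10131405071709010a00151606041004081e0c141c02282200061224162e0a260e2a182c201a200810042c144044383c28184c340c5c003048542458501c401018307848683898508828007090b880a06008a8b0205880203040a100712050c090e01130d1711000f1415160b061002282a14060a081a041e1618260e2e12002220241c2c0c200800244010184c0c04282c3034505c14441c483c58385440100850005848182838606890a088b87020783080b0a8988020110030c0614090d0e1207000f170b1104051316150a1004001e0c0a181628060822200e022e1426241a1c2c122a20080038302840440450144c18480c5c102c341c24583c544008a868909888287858a010705000b8383080201860b0488011514090011100f020d0b0c0713170a030504060e161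210022a20001222281e1c0a181606242e0c0e1a0814042c26200454144c4844343c3040380818245c0c2850101c2c58004008a0a85810687880008848983860b8501820283090b070801120a0f150907130c030e02141117100506000d0b16041002260a2a22241a120e200614161e2e1c042800180c2c082004505424004044140c10281c304c5c2c083c343818584840089870a820485800a01028803088b8185060903868b0788011303150f0006120c0a0e020d041705100709140b161110022418082a0004120a16281a0c1e2e06141c260e202c222004444024005450102c140838184c5c0c28343c1c3058484008902888a8986800508030387020b85860a0481018b078801111400091510040c0d0e020a12170706050f030b16131002221a26242a0a081c2818160e122e1406201e0c042c0020044428302c541810001c4c4850085c34400c3c142458384008603000487038588850a8786890b880a018102820b0988010f0d000904051502140b0c061217030a1011070e16131002201e1c180a2a28260824000e042e1406221a0c122c1620044414484c54341008402c300c005c181c503c28385824400888305860a85020481890988070b828a038786800b0108011103020e15070412060900050c17100d0a0f1413160b100220221200282a1a141e060c1c262e0416080a180e2c2420043c4c504010485)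 (Nat.shiftLeft 
    (nat_lit 0x1002081a12001e0a2218281c0406262e0c0e202a14162c242004441c3808540c104c280024342c5c5014183c4048583040100898a070280030905838681820b86078884850b0a880802060d070f0309120414050a0b101713150c0e1116000110040e1c161a08001828241e2612142e2a0206220a2c0c2020081c504c3440443c3848302c140c5c54182800245804104010480870806890609888783028a8b81858500038b0a0208020713140d1110060b12010e0a0917150f050403160c0010040e1e0c1a06122818241c0200202e2a26080a222c161420081c183c34240c4c04482c3010445c54500028405838144010386008685028707890a0308820b8a858804800b09818802070b0e0d00040113120) (nat_lit 8000))) (nat_lit 8000))) (nat_lit 16000))) u5) (pk61d (nat_lit 8) 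
    (nat_lit 0x59869da8aeb1b2b0afabadacaaa9a3a6a7a5a4a0a2a19f9e92989b9c9a9995979694938c8f91908e8d898b8a8887707b81848583827e807f7d7c76797a78777375747271656b6e6f6d6c686a6967665f62646361605c5e5d5b5a2c434e5457585655515352504f494c4d4b4a4648474544383e4142403f3b3d3c3a393235373634332f31302e2d1621272a2b292824262523221c1f201e1d191b1a18170b11141513120e100f0d0c05080a0907060204030100) u5) (r0 (pk61d (nat_lit 9) 
    (nat_lit 0x2ca1738a6d62bb5eadd66a555a9d429d43a45268d449ed027d3b9cc8a5b3299cc25d27954a24b238b46e3d1c8cc5e211388c3a18df7a3fe090581401f2fc7d3ddeaea77bc1daeb7239dcae270325a8d96d35daace68b3d98ca5eb098ac3602f96eba5c2d5665842a694aaa55aa14c9f512813a9b482552c9348a291a8b44218de7a3fa00fa7b3a1dcea723818cd06b34998c85d30178b6591610498512913c9a462491c88421b8f07a3a1c0c46832178b42c211309c48220d87838190b8281e12080341604038140400) u5)) (r0 (pk61d (nat_lit 9) 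
    (nat_lit 0x596c963b1586c15fae56aaf56aa5469f4ca5d2a8f45a15067f3c9d4de6d359a4c65f2c95ca64d2490c823f1d8d4622b148943e1b0a84c220f0681c05fcfd7dbe1ecf3793c5dcec74ba1cce370b79badc6db61acd3693419acb6431d8cc460afd78bb5cad968b1582bd5cad562a54ea451a853c9c4ca612e944923d1c8c44a1d088341204fc7c3c9e0ec73389b8da6c3519cca623097cb85a2b958aa54299409c4b251208a43200fc7c3b1c8d86a33180b8562a148a04a231007c3a1a0c0542813088381809040180601) u5))))))) (_root_.Cfsg.Agent.H440.J4P.DuadTab.Tr.nil) (nat_lit 9) (nat_lit 358)) : Tr)
    = ?xq9001 → (Tr)) ?hq9001; (case hq9001 => (set_option maxRecDepth 1000000 in conv => lhs; reduce)); intro _; exact ?xq9001 : Tr)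

/-- part of the tree -/
noncomputable def D0001 : Tr :=
  (by
  refine (?fq9002 : ((pk61r (fun r0 j => pk61f j fun i1 => (pk61f (pk61d (nat_lit 8) 
    (nat_lit 0xb1b0afaeadacab0000aa00a90000a8a700a60000a500a40000a3a2a10000a0009f00009e9d009c00009b009a0000999897960000950094000093920091000090008f00008e8d8c00008b008a00008988008700008600850000848382818000007f007e00007d7c007b00007a007900007877760000750074000073720071000070006f00006e6d6c6b00006a006900006867006600006500640000636261006000005f005e00005d5c005b00005a0059000058575655545300005200510000504f004e00004d004c00004b4a4900004800470000464500440000430042000041403f3e00003d003c00003b3a003900003800370000363534003300003200310000302f002e00002d002c00002b2a2928270000260025000024230022000021002000001f1e1d00001c001b00001a1900180000170016000015141312000011001000000f0e000d00000c000b00000a09080007000006000500000403000200000100000000) i1) fun u5 => (pk61f (pk61d (nat_lit 1) 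
    (nat_lit 0x1fca694e534a794d29ca694f94d29ca694f29a53a534a7e534a729a53ca694e94d29f29a5394d29e534a74a694) i1) fun t1_0 => (pk61c (Nat.div t1_0 (nat_lit 1)) _root_.Cfsg.Agent.H440.J4P.DuadTab.Tr.nil fun _ => (_root_.Cfsg.Agent.H440.J4P.DuadTab.Tr.node (pk61d (nat_lit 191) (Nat.add (Nat.add 
    (nat_lit 0x34541838301c4450400c10045c3c4800282c5824144010a0a86878085890489818802070b83038005060b08828802141512130309070a0600040e10170f0d010b1116050c1004282a0e0c00141a161e021c20082e262406120a2c182220084c4854500c2434003c281430405c181c2c044458103840109098a0a8184830083858602880b86878500088b070208021307150f0504120b06010e090a17140d111000160c0310042428262a12061e180e1c0214222e1a0c0a08202c16002008483c1854444050381c302c10245c344c00280c5804144010905028a858702080381888a008b86800987860b04830802110a0409150d000c100e011412170305061307160b0f10042408002a021814060e20121e162e1a0a0c281c2c2226200848142854382c00441c24404c305c3410501804580c3c4010900020a8600828483888183070b86850789858b080a0802110e010315070b1409060f050d17100c0a001216130410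04200c1e22242a2600120814161a2e062802180e2c0a1c200844183c4054484c140c2810301c5c2450382c3458000440108060584838a8083018a0982890b88870500068b07820802100005030d150a0c110e010f07170904130612160b1410041e240e28181c2a200c221208162e261a0014022c060a200834183c1c0c244c3854302c28405c4850141044580400401068a0983888807808a858600048b89030202818b070508020e131401000506150c0d07090a170b0f10030416121110041e0e1a0c06122a0a26080002202e28241c18222c1416200838141030240c28542c48343c445c0400504c40581c18401070188058789888a80838900030b860482028a0b068508020d1011071314030515000a0b061712090e010f16040c10041a26280e20220c182a1c0208062e241e0014122c160a20083444401c504c2428541014383c5c480c2c30185800044010687830384818a058a808702888b89098500080b060208020d0903070f061104150a000c14171210010e1316050b10041622121c280c0624181a2a00262e0220080a1e2c0e142008302444044c3c401c2c543400505c380c10141858482840106818483830788000a828200898b890886058a0b050708020c13140b040a060d0e1512100517010f091100160703100418080a1c12060024022a0e0c222e16142628202c1a1e20082c4c50302810181c04485444005c383c0c40145834244010506070008088589820a078a818b82808386848b030908020b000a010903040d0e07151311170c05060f101612141004141e0c08021c28200a12062a182e00261a24162c220e2008280c44144c182404002c30543c5c1040481c505838344010483078183868982080002808a8b888a0587090b05060)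 (Nat.shiftLeft 
    (nat_lit 0x7010e0f150405090a1711020b0c1606101310061a04162224180a002a202602082e0c0e1e122c28141c200c304c5014343c4010445424182c5c0428483858001c0840185880684820a070789810a80890b830380088b06050288030c05040e090206120715010011170d0f141316100b0a100616241e280c1426000a082a20022e04221a182c0e121c200c2c0400280824143438185448405c10303c1c5844504c4018507808688088a030905860a810b828703800b048982080307110a09140c0b0600100f131217150e01021604050d1006120e20020a261a041e0c00082a2e281822142c1c2416200c28081c4010482c0400243c54305c4c141844585038344018482010607028088830903800a8b8586880a0b09878508030900110d130e0c10120f040715170a01020b1605061410060c2002041828160e00221e0a082e1c2a14122c24261a200c1c3004103c2c442824504038345c5414184858004c08401838583000808860082078a02810b8a8985068b0487090803060c0a04000d0201101409130b1705150712160f0e1110060c000e1620220814181a241c042e262a021e2c120a28200c082c403c384c48443034501c145c2804240058541810401828587068300820989000a01038b84888a878b0508060803050f0e00070a14130c0d041006171109150b160102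1210060a241c282220002616081a14122e0e0c2a182c04021e200c1434382c0418304c503c4824285c08405400581c44104018286070204810689878a0000888b83038a890b08050588030413140e070600120b050d02011711100c15160a090f10060a081c180412162600241e0c202e02142a282c220e1a200c1400383c281c484c102c3044045c4008543458182450401820706028481038a03098505888b8786890a8b080000880304051213000b090c020e10060f17010a1415160d0711100600241a28020e0a1626081c040c2e20121e182c14222a200c0434283c4044481c5000104c085c3814182c58245430401810308850982868487838009070b860a08008b0a820588030204090c050e07100a12010d13170f00111416150b06100602180e08161e200c0428220a002e261c14242c1a2a12200c0424184448102c2800083c38505c144c1c40583054344010a8a09890184878586808702080b83830005088b0602880300110f021404130d0e0905010c1706070b1016120a1510060014160204121c1e0a0e2628202e18081a0c2c22242a2008544c5048240c183834302c00445c1c3c1014405804284010a87830908088a0086858605018b83898282048b070008020f0d12130a00150b14010e1105170607090304160c101004240c1e2a202226160e021c00062e1a28080a122c181420084c) (nat_lit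 8000))) (Nat.shiftLeft (Nat.add 
    (nat_lit 0x44c2c0c3444405c181c3c5830040854402008386058781888500098907028b8a01048b08030a86880401030b0c0f071106091213020d17100e0016140a15051008001c161a040e14282412261e182e2006022c0c220a2a2010002c484c140c0834381c5004185c30244458403c28544018a0a86070580010904898883068b808502028b0783880803150c130410110b0e00140f0a0217070605121609010d10062a24262804121e1c1a081602202e0c0e0a182c221400200c54104c30444034383c48001c245c280414505808182c4018a0a89098481008205028306888b800586070b08078388031312151409020b0500040f0711170a010e0c1610060d1006282a080a14020018161c1a220c2e041224262c0e201e200c4c505448082434143c300028405c1c1838105844042c40189860a8208880782868a0583048b808507090b0103800803130a15070d0b0205110610140017120c0e01160f040910062014120c1c2a1a221e020028262e0824040e2c0a1816200c483810543c34445040140818005c0428304c582c1c2440189820a860808800285890680810b8303870a0b0485078803130615010f001105020a090c0b1704140e07160d1210100626022a0c001e200a120e04081a2e18241c142c162822200c484c50542408283004381c3c445c2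c00101458403418401888208060a89830480890505870b8007810a0b028683880312050c15060700040b130d090a171011140e1601020f1006221e12162a0a28040800240e262e1402201a2c1c0c18200c4404081c543834403c280030145c48102418584c502c40188068100028a82048a058603870b850088878b09830908030e12051410110d150f0400060217010a130c1609070b10061e12002018242a160a221c02282e0c0e1a042c081426200c401044304c5428081c48183c145c342c2450583800044018789058a05030a8687020988838b848800060b00810288030f060d070209150013010504101712140b0a16110c0e10061c280a242220162a00181e02122e0c0e26082c04141a200c38301410082400542c50341c405c28044c485844183c401870882880a09008a83810505820b868009848b06078308030e100511121406150a09070d0c170b0f13021604000110061c120a040818142a0c20021e282e001a26222c24160e200c3810143024083c5434482c28445c1c184c50584004004010a8307890888098606870082848b838a0500018b0582080305140e1210110f130d0c0b0702170a01150416090600100614180c081a00120e2228042a1e2e1c2602242c160a20200c3038484c042800502c5434401c5c240810145818443c40186838783010489858a850706080b8a0900008b08820288030d120014)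 (Nat.shiftLeft (Nat.add 
    (nat_lit 0xd140717091303160512110c10081e0a1a0002122a0e26040c06202e1c16282c1418222420103c0838280418544c1c1424482c5c344030580050440c4020780048280868a8588050706098b8303890b0101888a08040d030a0c06000e0f15120213011705110716140b091010081c060418120a1a2a1e241416222e0002202c28260c0e201038144028344c185444001c48045c2c3c5058080c243040206880185848a03008a838900088b8607810b0982870508040d0a10050e130911150207140f170b011216000c0603100818020e1e06162404002a2012142e260a0c2c221c281a20103044380450340c4c405418081c5c242c00583c2848144020607850889028a04830a8009870b8106880b0083818588040b0d1106130f1003140915050c1701120a160e000702100816181e060e02260414282a1a0a2e2200122c241c200c2010180c003034282404444814403c5c08542c58501c384c4020481828607010308808900038a8b8507898b0a08068588040a120914000e02100703061513170d0b01160c0f051110081426281604180a1a1c20242a0c2e06121e2c0e220002201028182c24141c000c30344c54485c405044583804083c4020483890986860707888801800a8b8a00810b058283050804070c01030b0f1005001411060217150a0e161209130d1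008120020040c261a021e0a0e062a2e1622182c14241c2820101c383c2440444c500c180414485c5430285834002c0840203850880098085830482878a068b8a87060b010188090804060b0c100e120d110f1314000117031502160705090a10080622001e280424120c0214161c2e0a1a0e2c2a2018262010144834500818002c4c0c38041c5c244054583044283c402030108000489870780850386088b858a818b028a0689080405100c0700140a0d0e13030f0617120915160b01021110080a12160c140e0418061c2622282e20242a2c1a1e00022010084818501434281c400c243c2c5c384c4458305400044020187838086058a0001088803028b8985048b0a86890708040301091112060c070b0f0d0213170e100016150a14051008041a161c000e0a24280c2602062e20181e2c122a14222010081c0c4028480034382c3044185c502404584c54143c40189838a850586848288008889078b8a0207030b0006010803151413120902000e0b0c0d061117010a05041610070f10080216060e1e1822040a20280c002e24141a2c261c2a122010044840503c4c4424180c1c14385c2c3428583000540840200898a080789088005038186810b8602830b05848a870804011012130f141105020b0c090a1703000e16070d1506100802180e061e16221c1a282014122e260c0a2c24042a0020100048385028241)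 (Nat.shiftLeft 
    (nat_lit 0x200c3808142430101c5404441800485c3c2c4c4058503428402008a09890788088687060580030b8384810b01828a8508040b05010210110706090a150c0d170f0e14160012130310081c26280e0c06122a021618001e2e2422042c200a1a1420103c302c0c041c542418504c00385c403408584814442840208000785058a898304810889068b8087018b0286038a08041006010d07150b0c120e0f05031711140a160900130210081e28202402262a0c12180e141a2e161c0a2c0604220020103c484c5004405438340c2c08245c1c180058302844144020781838600858a8687090802830b8984850b0a00088108040f0a0602010e15100b0) (nat_lit 8000))) (nat_lit 8000))) (nat_lit 16000))) u5) (pk61d (nat_lit 9) 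
    (nat_lit 0x21b3aa856ec364b2d8ec55eb057ebb5cab566b558abd4eab54a95468b4ba753e9b4ca452a9347a35028744a15067b3f9f4f2772497cd671399bcda653499cc6612a96cba592b93ca6512692c663f2291c86411c8f476371a89c5a31178ac52211288c3e1ce07bc0a110b8642a130583c1a09037ec0202ff7f3e9f8fb7cbe1d8f27abd9e8f377bc5e0ee76b99d2eb753a1cee372b91c4e165355b6de6fb75b8d86d365aed66834da8d268b359ece6632d7ec5643258ec66131186c1602e578be5eaed74b65c2dd6ab4) u5) (r0 (pk61d (nat_lit 9) 
    (nat_lit 0x1650b9b52ead5bae566af50a9d469d4ca0d1a8f44a14ee7d3c9ccde412b984c65d2c92ca24d2390c5a371c8cc5e211388c3a18df7a3fe090581401f2fc7d3ddeaea77bc1daeb7239dcae270325a8d96d35daace68b3d98ca5eb098ac3602f96eba5c2d5665842a694aaa55aa14c9f512813a9b482552c9348a291a8b44218de7a3fa00fa7b3a1dcea723818cd06b34998c85d30178b6591610498512913c9a462491c88421b8f07a3a1c0c46832178b42c211309c48220d87838190b8281e12080341604038140400) u5)) (r0 (pk61d (nat_lit 9) 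
    (nat_lit 0x2c762b0d82bf5eaed6ab155aa54a9f4da55269145a1d027f3d9d4e26b3499cca5f2d954a64f249147e3d1d8d4622b148943e1b0a84c220f0681c05fcfd7dbe1ecf3793c5dcec74ba1cce370b79badc6db61acd3693419acb6431d8cc460afd78bb5cad968b1582bd5cad562a54ea451a853c9c4ca612e944923d1c8c44a1d088341204fc7c3c9e0ec73389b8da6c3519cca623097cb85a2b958aa54299409c4b251208a43200fc7c3b1c8d86a33180b8562a148a04a231007c3a1a0c0542813088381809040180601) u5))))))) (_root_.Cfsg.Agent.H440.J4P.DuadTab.Tr.nil) (nat_lit 9) (nat_lit 356)) : Tr)
    = ?xq9002 → (Tr)) ?hq9002; (case hq9002 => (set_option maxRecDepth 1000000 in conv => lhs; reduce)); intro _; exact ?xq9002 : Tr)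

/-- part of the tree -/
noncomputable def D000 : Tr := .node (nat_lit 1570834926248826320871031899108072819766618342345977911448) (nat_lit 179) D0000 D0001

/-- part of the tree -/
noncomputable def D0010 : Tr :=
  (by
  refine (?fq9003 : ((pk61r (fun r0 j => pk61f j fun i1 => (pk61f (pk61d (nat_lit 8) 
    (nat_lit 0xb2b1b0afaeadac0000ab00aa0000a9a800a70000a600a50000a4a3a20000a100a000009f9e009d00009c009b00009a9998970000960095000094930092000091009000008f8e8d008c00008b008a00008988008700008600850000848382818000007f007e00007d7c007b00007a007900007877760000750074000073720071000070006f00006e6d6c6b00006a006900006867006600006500640000636261006000005f005e00005d5c005b00005a0059000058575655545300005200510000504f004e00004d004c00004b4a4900004800470000464500440000430042000041403f3e00003d003c00003b3a003900003800370000363534003300003200310000302f002e00002d002c00002b2a2928270000260025000024230022000021002000001f1e1d00001c001b00001a1900180000170016000015141312000011001000000f0e000d00000c000b00000a09080007000006000500000403000200000100000000)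 i1) fun u5 => (pk61f (pk61d (nat_lit 1) 
    (nat_lit 0x7f29a5394d29e534a74a694f94d29ca694f29a53a534a7e534a729a53ca694e94d29f29a5394d29e534a74a694) i1) fun t1_0 => (pk61c (Nat.div t1_0 (nat_lit 1)) _root_.Cfsg.Agent.H440.J4P.DuadTab.Tr.nil fun _ => (_root_.Cfsg.Agent.H440.J4P.DuadTab.Tr.node (pk61d (nat_lit 191) (Nat.add (Nat.add 
    (nat_lit 0x40001c30502c0804443c0c185c482458542838344c40283068587018082090a010983800b850a8b07888608048805060f12130e0914110701030410170d15160a0b000c02100a0c14220626040e1608121c28182e1e2a2c1a2420000220141048085034183028443c04381c5c24405854004c2c0c4028189070a0808820985800684850b81008b078a838306080504090a060b070d000f01111314171012161502030c0e100a06281c24222018261a1e16040e2e120c2c002a14020820140c4438405048084c18280430005c1034581c543c2c2440281880708890a048980838302078b86058b050a8006810805020f00060b0c140a0910110e0d170112160304150713100a060c1c021a1614262204201e082e00282c122a18240e20140c2c38340418004c4810501c085c284058305424443c402818087030586838988048880060b87890b010a820a05080502100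a090f141104010b0c1312170607160e00150d03100a021c1a160c0604282600240e082e14222c12201e2a182014082c100440443000183c500c1c5c2434584c2854483840280898a000107048801838505878b86020b0306888a890805010310070913060d0e0b0c001117120f16021404150a100a002008180e280c140224121c162e221e2c2604061a2a20104c0854141c3c40182400040c345c4438485828502c304020a8188060889878706890380048b8583010b0a028085080415140712110b0f09060c10020e17130d0016030a0105100a000c142002241804161e1a260e2e12282c06081c222a201054482c50441c3c34380c4c28185c40241458300804004020a86098188880783048a0582868b8387050b09000081080414150501030a0c09060f02100e17000d1316110b12071008282a0e22241606140a02201c042e26001a2c1e12180c20105054183c3024482c1c443808405c344c005804280c1440209860a8188088585010a0787000b8082830b0906838488041309150e0b0107120c0d110514170f030a16060010021008221c0a0c2a000228181a1416062e0424262c120e1e2020104804085430000c241844141c385c28342c583c4c50404020908838a8a05860285078806800b8981070b008301848804120f0d15030e1410130109020b1706070016110a0c051008222816242a0e021c1a18260a122e200c142c06001e04201044481c50542c0418240c4000345c4c38085830143c28402088485068a810081890302898a0b8006058b070807838804110d0209150a010c140e001012170503071606130f0b1008221820062a26021a1c280e040c2e1612002c24141e0a201044180038541404480c24081c305c28504058342c3c4c402088189860a88008483090585070b8386828b0a0107800)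 (Nat.shiftLeft 
    (nat_lit 0x6140703010912020c170f1116000e0a0d04100a261a2a2224021806281e0c000e2e12162c041c08201420144c3054280024340c3c500848405c04105818382c1c444028906888a898081030a020184850b80070b0605878803880513071504020f1003090100060d17140a16120e110c0b100a26022a24221a1206200e16141e2e180c2c081c0428002014481c18540c30342c3c403810045c504c5828440024084028901058a8705038880048988060b87818b00830a0206880510030d0200150901130704060f170c0a160b14120e11100a22000c1c2a080e2404120602182e1e262c20161a1428201444242c0c543c401830344c10505c0438582848001c0840288098a05830a820687050906010b80088b07808481838805100e010f0c151214031109000b17060716020d04130a100a1e021208001a2a18201c1416262e06042c240e0c282220143c441c04501854242c0c3408385c4c405800302848104028782060889050a8381098308018b87058b0a0486800088050e140311121007150d09060a0c170f0b160413020100100a1c20062422281e2a02181600122e0e0c2c0426081a14201430041c082834383c405400440c5c4c1058182448502c402870001838785088a82030488058b89060b068980810a08050e0403090c0206150011070112170b0f161413100a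0d100a1c14061e0e00242a041618280c2e22122c02261a0820201438080c3024102c5428483c34445c181c58404c500004402870081858306860a88078902038b84888b0509800a0108050d03010b060e0010150212090a1704111607140c130f100a1a2628181e0622022a240e000c2e16122c0420081c14201434384010284c2450541c08443c5c30005848042c0c184028609048a00858183830a8801098b87068b000785088208050c0a0f1112041309001506140e17030b16100701020d100a140e080c16120204181a222a202e28242c26001c1e0620142c10484c0c001c1828245434305c3c3858504404084040285868301870080088a050a86020b81098b048903880788050b0c110e13070112091415040d171003160a06000f02100a1422001a28161808241e202a0e2e12022c1c04060c2620142840083c2450480004181c54445c2c30580c104c34384028480878002068983880181030a8b87050b0886058a09080509060c0d10110e0f12130102151703141600070a0b04100a12040e2224000618081c0c022a2e26162c1a1e28142020141c2c3c4034484c30443850080c5c5404580024281810402838086050106818488098209070b8a800b0587888a030805000c02060b0f10040714110301170d12160e0a130915100a061a1c160c021e2628182414122e0e222c082a042000201410) (nat_lit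 8000))) (Nat.shiftLeft (Nat.add 
    (nat_lit 0x83c080448544c5c405844500034300c40305098a04868081028881820a890b800b07058607880388060a120b140f03110d0e07131504170c16020910050001100c120a24261e1c2220181a04022a2e062c28000e161408201824083c1c0c344c0040100414545c4858283044502c3840302868486080882010a090003898b850b0a878087018588060711050f1401120d0e0a020c041715161309000b1003100c0e26281c0806042416021a000a2e2a2c1222201e181420181c24102c142834083c0c4840505c5458444c303800044030287810006058a0083888802018b868b0a850489870908060403011112090a000c0d050f101702160b151407130e100c0a14022000240e12081618281c2e1e2c2a1a040626222018102c443c4c34483040385004005c0c5808541c142824403020107808507098800048388860b858b018a828a09068806031314040e070211050a090c0b1710160d12150f0001100c00222426281816060e201e12142e1a2c04021c0a082a2018044c50342428082c481c3840445c30581014003c540c40301080600818a000204898505868b828b0387088a8907880603051102130a0b0d0e010f1004170016140915120c07100c0418000a161e2006022822080e2e122c24141c2a1a26201808004024104c302c143c380c485c0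458344428541c50403000a09890886078687080580820b818b02848381050a8806010d0e0b05030913140a120c0f170016110210041507100c02162426040e0a1a1c062800082e202c1e1218222a142018004c5044483008102440141c345c28582c38043c0c544030009088a0986028500880107018b820b07838485868a8805151013060b140c0e010f110a07170912160403020d00100c000a161e041824021420261a0e2e122c280608221c2a2018003c08142c30503834404428245c1c5848100c4c0454403000582810786088381880a02008b870b09850689048a880600020f0b050c1309041012030e170116110d0a140715100a2a2826160c20121c1a0e24001e2e18222c040608021420145054402c184c28040c10483c005c08445830341c38244028a868989088083870a048582060b87830b0501800801080515011311120d0f0e100c06020917070b1600030a1404100a282a1a120e1c1620260c1e00242e22182c0402080614201450540428100c2434381c00483c5c3008584440184c2c402838004888901070785018306898b8a858b008608020a08050e0d03060b010915140711020f170c121600130a1004100a221a24262a02141628001c1e042e08062c0e0c12201820144c2454002830040c1c401044505c3408582c38183c4840289878a8102038a0186068505808b88000b088709048308051310150b)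 (Nat.shiftLeft (Nat.add 
    (nat_lit 0xc11030d170116120e0a020700100c2a1e0424222028120818160e1c2e142c0a1a02260600201854083c4448404c3834301404245c0c582c101c50280040309800a818087880204810382868b858b05070906088a0806141500070a020c04090f03110d171216010e0b100513100c282a1808121e200a16261a06222e022c1c2414000e0420184c4054142c5030281c3c4438045c3458480c1000240840309860a8706810009088a0481858b808b0202850803878806120307150c050109041100020e171316100d140a0f0b100c241e042a202228061416181a022e082c000e1c26120a201848243454002c383c4c14401c505c2858300804100c44403088781080a890a0380828004850b870b060182098685880611040e0015050d130f0b0c0702170a16101401090312100c1e00180a16042a0206262212142e082c240e1a201c2820184034101c0454383c5000282c085c48580c4c1424443040308098a02858a810482000880870b818b09068387850608061014130b05150f0e0d00120709170a1611040102030c100c201e0422242a281a1c000a06082e022c161214260e1820184038240c285434503c0004444c5c14581c0848102c3040308010789088a898204800585068b838b0287018a0086080610090e0a031504130200071214170b16010f110d050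c100c20081a020e2a12042600060a1e2e222c1428161c241820183c400034385054444808100c145c0458242c28301c4c4030786080503898a82048a0089068b888b01870280058108060d020f030709130c150e0a0b10171116010012140504100c1c041e140208262a181a0624002e0a2c0e2016282212201838442c085024145400104c04405c0c583c301c482834403070503888906818a8804828a060b898b05800780810208060d12051402040b0015090f010c170316131007110a0e100c1a0e1422241c02202a080a26002e282c161804061e122018303c082c1400501024544804345c0c5844381c4c2840403060a098889000784820a8285070b838b05868181008808060c1314121100020e0d150b030917011605040a0f0710100c181406081a000216222a1c280a2e042c1224260e1e202018301c043824000c4814541008445c5058342c3c284c40403018706858280820a09838900010b860b08878a8488050806090103111204070c000e050215170f160b10130a140d100c160e060020221412080a2a1e1c2e282c181a26020424201830041c24380028442c54343c485c4c581014080c50404030601078285800986870a8883820b850b0904808a018808060b0f020c0005140a0312150e0717091610010d130411100c161c08201824122804222a0e1e2e142c0026021a060a20182810242c141c3)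 (Nat.shiftLeft 
    (nat_lit 0x100a26282a0c16201e061a182208122e0e242c141c0002042018300c283410001c144854244c2c5c3c58384450040840403088085060a85818482090809870b810b000687838a028806141510050b1300070a02110d03170e161201090c040f100e001a161c040802242806260a0c2e2c12142018221e2a201c043c100c302c501418444008005c5834384c48285424403808887830a02898005020486858b8b09080601018a8708070104110a13000c0b030f0e120517160209140d061510100e002402281a060a0422121416182e2c081e0c201c262a2018544c502c1440083438304828105c1c5844240c3c0400403800102888904858687020780880b8b018986030a050a8806151413050b100f04090) (nat_lit 8000))) (nat_lit 8000))) (nat_lit 16000))) u5) (pk61d (nat_lit 10) 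
    (nat_lit 0x1c07b60483e158621985e1684a1484e118420a8360e8320b81e0982206815f97fe0280e01801fc7f9fd7edfa7cdf67e1f77d5f47c1f27c5ef7b9d7789e87adec7a9e9795e7799e478ddd781e177dde769dc76dd9761cc749d5759d474dcf745d0739cd719c972dca721c770dc5711c2705936a9b56edbe6fdbd6f1b86e9b96ddb66c1b36d1b26c5ad6bdae6b1ab67da56a1a969da6689a468da1681996719e6759b6699666197655945f588639916499063d8b6358c6298960d8661d8561180609815fd7e5c9785ed7c5e9795d5775d9745cd6c5bd715c16e5b5695ad6a5a167) u5) (r0 (pk61d (nat_lit 9) 
    (nat_lit 0x2ca1738a6d62bb5eadd66a555a9d429d43a45268d449ed027d3b9cc8a5b3299cc25d27954a24b238b46e3d1c8cc5e211388c3a18df7a3fe090581401f2fc7d3ddeaea77bc1daeb7239dcae270325a8d96d35daace68b3d98ca5eb098ac3602f96eba5c2d5665842a694aaa55aa14c9f512813a9b482552c9348a291a8b44218de7a3fa00fa7b3a1dcea723818cd06b34998c85d30178b6591610498512913c9a462491c88421b8f07a3a1c0c46832178b42c211309c48220d87838190b8281e12080341604038140400) u5)) (r0 (pk61d (nat_lit 9) 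
    (nat_lit 0x596c963b1586c15fae56aaf56aa5469f4ca5d2a8f45a15067f3c9d4de6d359a4c65f2c95ca64d2490c823f1d8d4622b148943e1b0a84c220f0681c05fcfd7dbe1ecf3793c5dcec74ba1cce370b79badc6db61acd3693419acb6431d8cc460afd78bb5cad968b1582bd5cad562a54ea451a853c9c4ca612e944923d1c8c44a1d088341204fc7c3c9e0ec73389b8da6c3519cca623097cb85a2b958aa54299409c4b251208a43200fc7c3b1c8d86a33180b8562a148a04a231007c3a1a0c0542813088381809040180601) u5))))))) (_root_.Cfsg.Agent.H440.J4P.DuadTab.Tr.nil) (nat_lit 9) (nat_lit 358)) : Tr)
    = ?xq9003 → (Tr)) ?hq9003; (case hq9003 => (set_option maxRecDepth 1000000 in conv => lhs; reduce)); intro _; exact ?xq9003 : Tr)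

/-- part of the tree -/
noncomputable def D0011 : Tr :=
  (by
  refine (?fq9004 : ((pk61r (fun r0 j => pk61f j fun i1 => (pk61f (pk61d (nat_lit 8) 
    (nat_lit 0xb1b0afaeadacab0000aa00a90000a8a700a60000a500a40000a3a2a10000a0009f00009e9d009c00009b009a0000999897960000950094000093920091000090008f00008e8d8c00008b008a00008988008700008600850000848382818000007f007e00007d7c007b00007a007900007877760000750074000073720071000070006f00006e6d6c6b00006a006900006867006600006500640000636261006000005f005e00005d5c005b00005a0059000058575655545300005200510000504f004e00004d004c00004b4a4900004800470000464500440000430042000041403f3e00003d003c00003b3a003900003800370000363534003300003200310000302f002e00002d002c00002b2a2928270000260025000024230022000021002000001f1e1d00001c001b00001a1900180000170016000015141312000011001000000f0e000d00000c000b00000a09080007000006000500000403000200000100000000) i1) fun u5 => (pk61f (pk61d (nat_lit 1) 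
    (nat_lit 0x1fca694e534a794d29ca694f94d29ca694f29a53a534a7e534a729a53ca694e94d29f29a5394d29e534a74a694) i1) fun t1_0 => (pk61c (Nat.div t1_0 (nat_lit 1)) _root_.Cfsg.Agent.H440.J4P.DuadTab.Tr.nil fun _ => (_root_.Cfsg.Agent.H440.J4P.DuadTab.Tr.node (pk61d (nat_lit 191) (Nat.add (Nat.add 
    (nat_lit 0x82c0034100c5444044c24285c581418403c5030484038780018287050a8886068088010b8b0209030984858a08070f0a100c06131501091204140d171611020b00050e03100e1c241e280418262a00200a02082e2c0616120c22141a201c383418444828145450240c40305c584c3c042c001008403868702010005828a0a848801860b8b0087898509030888070d1410021113090e1505040a0f1716060c0b03120100100e1a22260428201e002a181602122e2c060a080c24141c201c3428300804142c0c544c3c50105c580040243848441840386830481018788008a820280098b8b0a05860889070508070c0006090e010d110f150a0b12171613020304051014100e1a0016041c0818222a1e260c0a2e2c14122002240628201c3404140828301018544024442c5c58384c3c0048500c40386080002820a0105848a8701868b8b0089088507830988070c06100f0a13120305150411021716140d0b0e090001100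e160c242602041214080a2a1c1e2e2c28181a00202206201c2c3c3440144850244c005418385c5828440804100c30403858701020006850a08008a87830b8b0481890289860888070a110c031409040001130515101716020b0f12060d0e100e14201c02162818260c1e222a0a2e2c1a120004062408201c1030484c2434001440500818445c58283854042c0c3c403830882808a07880001858601020b8b0a89848685090708070903100501130d060f0204001517160e120b140c110a100e12081c1e20222426181a00062a2e2c020428140a0c16201c240004303818084414480c10545c584034282c3c4c5040383098a018207060805078006828b8b0a8488890081058807050110090313020a0c0d040e12171600150b110f1406100e0c1208140a160018021c2024282e2c2a222604061a1e201c142c44304c3834403c48500c085c5804540028241810403828005078701890884810309868b8b058a808806020a0807040e0d0b00020314130612050117160c0a150f100911100e0426281a20220216240c1c12142e2c1806000a2a1e08201c0c3010043c2c442428504034385c5808004c5418481440382050108018904830582868a078b8b07060a8889800088070311090a140c0b0006100f121317160d04051501020e100e0616000c20221808021e28040a2e2c24121c2a141a26201c08504c3444403038483c2c0c145c5804241028541800403810705868002078a09060985048b8b030288018a808888070211100d14130500120904060c17160a0f0b0115030e100e0420221a262814082406001e022e2c0a0c1c182a1216201c082c38341000184c480450140c5c583c284424543040403810200068587018809050886030b8b04808a078a82898)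 (Nat.shiftLeft 
    (nat_lit 0x302130a1401040e16171215000b11100c0510120a1e0200081a280420140e182c2e16062a220c1c262420241430183440442c0448503c1c585c284c5400080c38104048203080100098385058286870b0b878a060a808901888809040e050c030200140a12060d1617010b13151110070f1012081a24260e18061628201c0c2c2e2214042a1e0a000220240c441c305028041018480840585c4c340038542c3c1440481880206858a0600090788810b0b828083898a850307080901120b14050c020d0e101300161703041106070f150a101204201e0a142826080c0006222c2e021a241c162a0e18202408443818502c304c043c400c585c14481c00285434104048101800085850206028708880b0b830386878a0a890988090113140a060d05031007001216170c110f020e04150b1012002414281c080a22040e02262c2e18061e200c1a162a20240400282c080c18301c38484c585c343c10144044545040480098a0587838886870189008b0b880201030602850a880900010b0a02030d050f041312161706070e0c10111415100e2a28162422080a1c1a122602182e2c061e200c041400201c483c28542404503008380c4c445c581000182c3440144038a0a84870682820908858600898b8b018807830005010807150010120e130f110d0c040309171601050b0a0206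14100e2a1c2624002012281a0a160c1e2e2c14180802040622201c50542c444810180800284c30045c583c0c40143824344038a0a85000103028687048089860b8b0807818208858908071303150b0a0d0901100512110f1716000c0214040e06100e261c2a2000240c2808060412142e2c1e021a18160a22201c4c1454103c0844302c383418005c5828504804400c24403890a020a8885878701060803048b8b05028980868180080712110b1514040900020513030f1716010c100a0d060e100e222416282a08141a1c0c261e062e2c18022012000a04201c482404543c28441408001840505c582c380c10344c304038907080a8009860a01078200828b8b018485830685088807120c031505060e0f02140a0b001716101101130d0409100e240a0c2a18060012042202081c2e2c262814201a161e201c48004c543840144408242c28305c58183c100c34045040388070909800a808a05850686018b8b028301048207888807110d0c00150f1002141309010b1716030405060e0a12100e2204061c2a020a2400120c08182e2c161e142628201a201c4024082c3054383c10444818505c58280034044c0c1440388008682030a848189828100078b8b08860907058a0508070a050406090b0e0f030010151117161214130d01020c100e1a061e040c1226142a16181c202e2c22080a28240002201c38) (nat_lit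 8000))) (Nat.shiftLeft (Nat.add 
    (nat_lit 0x83c1c10080c585c34141830282c484c4048900850a83878806870100098b0b8882018302860a05880912000b150d0605021107130116170c100f03040e0a14101222060a1e2a1624080c0220042c2e001a261c2814180e202444083410542830044c3c0c40585c14001c482c5038184048782808006820a81888586038b0b85010a0807030989080910020c070b150004061311031617120d010e0a14050f101220060c1c142a1824001e04222c2e0a260e022816081a20243c3044084c04541810501c14585c2c3828340048400c4048783820708088a89008502860b0b8a0005898101868308090e040c05030201150b130d061617000a121411100f0710121c1a220626000e2a280a0c082c2e1e1618142402042020243818484c143c4054280c1034585c0850442c301c0004404868701080089038a0a8282030b0b878506058009888188090d06070f0302120b15000e0416171314010a1110050c10121614000204061e1c1a182a282c2e0e0c0a082022242620242c28484c40441410181c5450585c30343c38080c00044048603808003070588010a87828b0b8a0885018206898908090c0f0310001214060415050716170a0e0b0d130102111012180a1a0c20221400262a0e1e2c2e162428020406081c20242c284c4844401c1810145450585c3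c3830340c080400404858501810080068607870a8a0b0b820283038989088808090b0a1110131206070504151416170e0f0d0c010003021012161420222426080a0e0c2a282c2e1a181c1e0002040620242c28080c0004383c30345450585c181c1014484c4044404858500800181060687078a8a0b0b828203830888098908090a0b040607050201000314151617111210130c0f0e0d101214161c1a181e20262422282a2c2e060004020e0a080c2024282c4c4840443038343c5054585c14181c10080c0400404850589098888078687060a0a8b0b838202830181000088090a0b0d0e0f0c11121310141516170201030005070604101214160c080a0e06000204282a2c2e202622241e181a1c20241c3c38104044504c002c3014585c54042848080c1834404850580800101838203028a0a8b0b878686070808898908090a0b0001030205060407141516170c0e0f0d1110121310120e1802001c0c142206280a1e2c2e2a2016041a08262420241c14400c044c2c1810283c30585c543850344800440840387898a0485800a8202810881890b8b00868705060308080715110412140b0c000d0f100a0517160609130302010e10120604000214161a0e1e0c20222c2e1c18080a2a2824262024141c084448002818102c303c585c50385434044c0c404048302018889008385850287068b0b878a860a098008010809060d0f07)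 (Nat.shiftLeft (Nat.add 
    (nat_lit 0x2141615170405060700010203101412161c1a1e1822262420282c2a2e0a080e0c040600022028242c303c34384840444c5058545c181c101404000c0840503830708890686098807808b018b8a8a010004828582080a0504100d0e130c11120f00160217030115140709060b10140c0e20181e26221a1c24062c022e282a0400160a120820281c04301434081000444c0c58185c5424483c2c40503840503018600068201028889808b038b848a87080a078589080a0601001005120e0f0204071603170b15110c090d14131014080a1e222418261a1c20042c002e0602282a0e160c122028140844184c0c041c30341058005c3848542c40503c2440502800387818709080083010b020b89860a848885868a080a0402010f060e12100703001605170d1109150c14130b101408002202260e0c06181a0a2c042e201e162a1c12242820280008484c3c34443040381458105c0c042c241c50185440501000706080886898789020b028b81808485838a830a080a03010f0d1011130c120e06160717090b0200150514041014060c18081a000a0422260e2c022e16281e242a1c122020280814440c4c181c0430340058105c3c4050244854382c40501020307808709080183828b000b8609858a068a8884880a010312130e0c0d110f10071606170b0902001405150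41014020e18041a0a000822260c2c062e2816201c12242a1e2028041814400048383c10080c581c5c24504c342c30544440500028187838709080300820b010b88868a058984860a880a00041107130103060c0d02160517120e09140f0b10151012282a262406041e080c1814162c2e0e1a0a1c2220020020245450484c0c081c3834142c28585c3c183010444000044048a8a098901018286870385850b0b860207830808808008091514010010110f06040c0b0a1617070e050d0203131210122a280002222018080c1e16142c2e0a1a0e1c0604242620245054303c181048080c4c282c585c0444004034381c144048a0a890981018603020785058b0b8287038688088000880914150f0c0406130302120a0b1617001001110e0d05071012282a0e0a1a1c0020220214162c2e260624040c08181e20245054141c383404444000282c585c48084c0c10183c3040486820909860381050a8883070b0b8805818a02878000880910110001141506050c0d03021617040f0e070b0a121310122426282a0406080e181a02002c2e1c0a0c1e2022161420244c485450080c383c14180004585c1030341c4044282c4048a0a800088088386870285058b0b878206030101890988091301150b040e05100307120016170c020f110d06140a101226002a14180a061a1c2202242c2e0408200c1e0e162820244440000454503)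 (Nat.shiftLeft 
    (nat_lit 0x20241838484c3c1444502c083410585c0c5440281c3000044048a0a808008880287068385058b0b8603078201810989080a0307021004120e0f00050116061714090c1115130b0d10140e06082004241c1e0a000c2c022e2a161a26282212182028242c4044484c34303c385058545c0008040c1018141c405048589890888078706860a0b0a8b8180810003828302080a0b090003020106070405151614170e0f0c0d121110131014121624262022181a1c1e282c2a2e040006020a0e080c2028242c44404c48383c30345058545c040c000818101c14405048586870607880909888a0b0a8b8383028201810080080a090b0f0c0e0d1311101) (nat_lit 8000))) (nat_lit 8000))) (nat_lit 16000))) u5) (pk61d (nat_lit 10) 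
    (nat_lit 0x9d2a1adec2b22cbb32cab26c5b1ec6b12c3af6c0b06bfafabaaf2bbae6b8ab2b2ad6b6ad2b3abeb1ac2aeab6a7aaaabaa6a8a92a6a96a3a8a8ba5a9ca7ea0a7a9da669ba6a98a5e91a5295a4e92a3a90a3e8da3280a1a89a2a88a1e83a1684a0a819ea7d9fe7e9f27b9de799e2769d64797a699be729ce719c26c9ba6d9ae6a992679a2669966198e629825f94e599725d96e5a95a5895e559524d942529464f93a4a9324b926488c63c90a4591a4490e3f906408fa3d8de3a8ee398e2348da358ce3289a2c8be308ba2d8a62b8aa2889e2088e25892228861d87e1e8721b) u5) (r0 (pk61d (nat_lit 9) 
    (nat_lit 0x1650b9b52ead5bae566af50a9d469d4ca0d1a8f44a14ee7d3c9ccde412b984c65d2c92ca24d2390c5a371c8cc5e211388c3a18df7a3fe090581401f2fc7d3ddeaea77bc1daeb7239dcae270325a8d96d35daace68b3d98ca5eb098ac3602f96eba5c2d5665842a694aaa55aa14c9f512813a9b482552c9348a291a8b44218de7a3fa00fa7b3a1dcea723818cd06b34998c85d30178b6591610498512913c9a462491c88421b8f07a3a1c0c46832178b42c211309c48220d87838190b8281e12080341604038140400) u5)) (r0 (pk61d (nat_lit 9) 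
    (nat_lit 0x2c762b0d82bf5eaed6ab155aa54a9f4da55269145a1d027f3d9d4e26b3499cca5f2d954a64f249147e3d1d8d4622b148943e1b0a84c220f0681c05fcfd7dbe1ecf3793c5dcec74ba1cce370b79badc6db61acd3693419acb6431d8cc460afd78bb5cad968b1582bd5cad562a54ea451a853c9c4ca612e944923d1c8c44a1d088341204fc7c3c9e0ec73389b8da6c3519cca623097cb85a2b958aa54299409c4b251208a43200fc7c3b1c8d86a33180b8562a148a04a231007c3a1a0c0542813088381809040180601) u5))))))) (_root_.Cfsg.Agent.H440.J4P.DuadTab.Tr.nil) (nat_lit 9) (nat_lit 356)) : Tr)
    = ?xq9004 → (Tr)) ?hq9004; (case hq9004 => (set_option maxRecDepth 1000000 in conv => lhs; reduce)); intro _; exact ?xq9004 : Tr)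

/-- part of the tree -/
noncomputable def D001 : Tr := .node (nat_lit 1574645154735424078125850720407415446079329249344660983968) (nat_lit 538) D0010 D0011

/-- part of the tree -/
noncomputable def D00 : Tr := .node (nat_lit 1572388456495182472495311668020224924778189911506585409648) (nat_lit 358) D000 D001

/-- part of the tree -/
noncomputable def D0100 : Tr :=
  (by
  refine (?fq9005 : ((pk61r (fun r0 j => pk61f j fun i1 => (pk61f (pk61d (nat_lit 8) 
    (nat_lit 0xb2b1b0afaeadac0000ab00aa0000a9a800a70000a600a50000a4a3a20000a100a000009f9e009d00009c009b00009a9998970000960095000094930092000091009000008f8e8d008c00008b008a00008988008700008600850000848382818000007f007e00007d7c007b00007a007900007877760000750074000073720071000070006f00006e6d6c6b00006a006900006867006600006500640000636261006000005f005e00005d5c005b00005a0059000058575655545300005200510000504f004e00004d004c00004b4a4900004800470000464500440000430042000041403f3e00003d003c00003b3a003900003800370000363534003300003200310000302f002e00002d002c00002b2a2928270000260025000024230022000021002000001f1e1d00001c001b00001a1900180000170016000015141312000011001000000f0e000d00000c000b00000a09080007000006000500000403000200000100000000)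 i1) fun u5 => (pk61f (pk61d (nat_lit 1) 
    (nat_lit 0x7f29a5394d29e534a74a694f94d29ca694f29a53a534a7e534a729a53ca694e94d29f29a5394d29e534a74a694) i1) fun t1_0 => (pk61c (Nat.div t1_0 (nat_lit 1)) _root_.Cfsg.Agent.H440.J4P.DuadTab.Tr.nil fun _ => (_root_.Cfsg.Agent.H440.J4P.DuadTab.Tr.node (pk61d (nat_lit 191) (Nat.add (Nat.add 
    (nat_lit 0x50344830403c384c442c58245c181c000804100c14405800183038808848085010b06878b890982028a06070a880b000d10010c130a051411160f031704020e070906121510142a28261c221e20241a18162c122e0206080a0c000e0420285450443c4c38484030342c58245c0c0414101c0818004050a0a8887098788090606848b058b8303810000828182080a15140c100d120e0f11130b16091707060200030501041014282a261e221c24201a18122c162e0e0c00040608020a2028505434403048383c4c4424582c5c0c0410141c0018084050a0a8609068807870889848b058b8081828203010380080a130d15030b070106140911160c17100e040512000f021014282a0608020a04000e0c122c162e1a182024261e221c2028505418081c001014040c24582c5c444c383c304834404050a0a8082818200010303848b058b8606890808870987880a13111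50e140f1012090b0c160d1702050603040700011014241e0e2a021228160c061c2c202e261a00041808220a20284c305414240008102c503458445c040c4838183c1c404050908068a860a05848988878b070b8201018382830000880a120e0215050b0914040010160f170607110d0113030c10142226281c2a1e202416121a2c182e0800020e04060a0c2028344c500424180c1c542c3058445c384010143c0048084050789030a01858a848380880b070b8689800108820602880a10120d140c15090b13110e160f17000506010203040710142218160c2a020e061228262c1a2e1e24080a1c0020042028403c102c0054502408144858385c181c304c04340c4440508070184830a858a0083878b090b8608800109820682880a0e12001404090b1505020f16101706070d11010c031310141e200a1204282a1600081c2c242e0c0e26180222061a20283c38342c302454504c444858405c14001c0c1004081840507080085838a048a8183090b078b8886000106820982880a0e0f0d090c0b1415131110161217020401060007050310141612262022241c1e1a182a2c282e0c0e0a08020406002028304c50102c08001424544458345c040c384818401c3c405068885800a0282010a84898b060b8081880783070389080a0d0c090e0b0f1012151411161317000403060501020710141822120e28060c02162a1a2c262e241e080a20001c04202830342c38243c404850544c58445c14081c040018100c405058486070687880908898a8b0a0b8180800103820302880a0b09111213100f0e0c0d151614170706040503000102101416121a1e181c242026222a2c282e020604000c0a0e0820282c241418101c0c0408005458505c40484c443c343830405058482038283008180010a8b0a0b89080889870607868)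 (Nat.shiftLeft 
    (nat_lit 0x12001315040916020c170305060d070a141010161a061c0a0c0214262a0e2c1e002e1822240428082012202c34004030044c24185448580c3c5c1038081c28144450405850489890888018080010b0a8a0b8383028207860706880b0c020311120d0709101516010e170f05060013140a04101618020e061e0822140c2a2c1c042e261a00202412280a202c2824484c40440800040c5854505c14101c18303c3438405850488880989008181000b0a8a0b8303820287068786080b090a131112100f0c0d0e161415170705060403010200101614120c080e0a181a1c1e2c2a282e2226202404060002202c28241c14181034303c385854505c4c4448400004080c405850482838203070786068b0a8a0b8908098880800181080b0a09040605070f0e0d0c161514171012111303020100101612141a181c1e202226242c282a2e060402000e0c0a08202c24284048444c34383c305850545c1018141c0008040c405848507870606898908088b0a0a8b8000810182028303880b090a070605040001030216141517131211100d0c0e0f10161214080a0c0e060400022c282a2e202224261e1c181a202c104c5008302834183c4458401c5c243804540048140c4058309018a0507880602070b08828b800a848689808103880b0713140f00091202060116041017150d030a050e0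c1110161214000402060e0a080c2c282a2e1e181c1a20242226202c1c402838045034483c14584c105c540830240018440c405838204830285010687000b08098b8a89088a00878186080b05120c1409010004031316061117020a150e0d07100f10160c220412281c0020060e2c0a242e182a14021a26081e202c18141028241c3000083c5848445c4054504c04340c38405828886850a00038609870b09030b87848a8182008108080b050604090a07010d0e0316111217101415130c000f021016041c0e001a080c2822122c02182e261e06200a2a1424202c0c3c4038084c504828185834005c1030041c5444142440582080481868a028108808b03898b8500078a89070603080b04070a0605090c03010f16131017141211150e000d021016061a020a0c1c122028082c001e2e042224182a0e2614202c0c00484c101428042408583c345c181c404454303850405808700088907880a03850b06010b8682830182048a89880b020c0d111203040a1314160e01170005060f101509071016040224260e0c061200142c181c2e2220080a1e2a281a202c04301c3c0c10482414505808385c4c00344044285418405808102820808818500048b07060b83038989078a0a86880a110d090215040500140b0c16131701030f100612070e1014282a0e000c040a080602122c162e26221e1c1a201824202854) (nat_lit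 8000))) (Nat.shiftLeft (Nat.add 
    (nat_lit 0xc1814584024285c4438345048005408406008882068a070388090b0001828b8781048985030a85880c010f1109130214000a16060d1217040b03070510150e101800282224260c1e02142c041a122e0e200a0806161c2a203000484c504418143834582c281c5c24403c0c100804544060001868205030381098b0088828b878804890a07058a880c00070e090106031302160a0b1217141004050f0d111510180012020e1c0c0822162c1a04282e2420061e0a14262a20300014083c2c184834385844040c5c1040501c244c28544060002050186830485888b0709878b8288038a0900810a880b151407111204030e000c160a0917130506100f02010d10162a28260c0a201a041e022c14122e0e242208001c1806202c54504014184c3c0434085828245c1044481c0c3038004058a8a02090883800601870b05048b8803028986808107880b141513050610000e030c16090a17071112040d02010f1016240c002a121a0818201c2c0a222e0628141e0e020426202c505408343c04441c48105824285c38000c30144c40184058a0a86000187028803098b04850b8086878108820389080b14150e03000c0613051016090a17020f0d01120704111016282a0e2422081e041a022c12142e260c0a20061c1800202c50541044481c34043c085824285c4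014184c0030380c40589838a868185030109008b08020b8a07800488870602880b1415010f0d021204110716090a170c03000e06101305101626202a0c0a280200181a2c080e2e1224221404061e1c202c4c105404382434443c18581c405c283008500014480c4058908820a8a03870780800b03028b8805048981018686080b1007090c02150d050f121604131714010e0a001106031016220c02142a18000e06202c240a2e1c2812041a08261e202c481438542808004c0c105844185c0424503034401c3c4058889020a0a83810186068b02830b8804850987078000880b11050f091503130c070e160612170d0a14001001020410162026280c0a2a1c1e04062c0e082e14242212181a0002202c3c0c4008384c544424145800345c1004301c5048182840588020500078a888102808b09838b8481868a03070609080b0f0d051007121501140216030017110413060a0c0e0910161e00040a0c182a0814202c1a062e0222241c12260e28202c3830184010480c5400505804085c144c1c443c2428344058007860283010a0384898b01868b870889008508020a880b090a0301020004060705161415170d0e0c0f131112101016141220222426000406022c2a282e080a0c0e1a1c181e202c3038441c4c140c5000545808045c481040183c2824344058687888209830a008a810b00018b8288038904860705080b0e010f11)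 (Nat.shiftLeft (Nat.add 
    (nat_lit 0x60e0d071709000f1214010206101820020a1c1e2a22240e2c0812142e1a0026160406280c20303c4c50340c14542c48583810005c181c40284404082440606848302880881808a8b01000a0b8209890387858705080c0e0a1213030107150416061405170f0b090d1100100210181e161a1c14122a24262c2822202e000a0c040208060e2030381c44144c2c1054285840340c5c5008483c24180004406070204818281050a838b0007898b8680888a09080305880c0b0d0311120207061416150405170f0e090a1310000110181a0600080c1402122a2c0e201c2e16220424280a1e2620303404402c004c240c545848183c5c14281c08381050444060582888389870188050b0a86820b89008a0487800301080c0b0407030f011100091615050d1713020a141206100e10180c24222826001204142c021a1e2e0a2a0e06081c162020302438342c283c40504c584844545c181c0004080c10144060501000708088489030b018a878b82868380858a0209880c0a030604000d0b0510160f15021701130e1214090711101812240228160a0c14042c221c2a2e001e2006081a260e203024440c28501c002c10583848545c401418344c04083c4060381068085028001898b0208830b8a848805870a0907880c071202140e0f101101160a0b00171505060304130d0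910180e1a242608120c16282c1c06202e2a1e00221402040a203018504c4844001c2c34583828145c3c5424100c04084040603098a0889000082820b0481858b810a870685038788080c05120b140109000d0e161302101706071503040a110f10180c14061a08000412242c0a281c2e022a1622261e0e2020301844484c5000383c0c581c10085c2c5404283424144040603068205018005838a0b0789008b870a810988828488080c06040d030a00050113160211071709150f14120b0e1010180c0614081a001e1c222c1626122e0e2a0a2428040220203010401c00145034083c580424285c4c0c445418382c484060285020889078805818b070a030b80048a8986808103880c05010d020a070604131603110017100f150e0b1214091018080c1c2016240a26022c22040e2e12281e2a00141a06203010002818340c2c2444583c4c385c08480454401c14504058a0a88030289818600070b04850b8209088387808106880c000f0b050206140a0116130e04170310120907110d15101804080a06121c1a201e2c0c0e222e14162628242a000220300c003c4024484c081c580414445c3410281854382c504060183050006820707888b0489858b808a01080a828389080c0213140a040b07000316101205170f0109110d15060e10180412221e2602240c142c001a282e061c080a0e2a2016203004103c0c1c2c4)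 (Nat.shiftLeft 
    (nat_lit 0x10161c040e1a00080a2a24142c18022e26061e200c28122220300c400818045014282c5834381c5c24483c00544c44104060507880383098a00800b010a818b8908820284858706880c0f120e14020715130b160d0106171009000304110a05101820160e04122a14060a2c281e222e26001a021c24080c203040503448285424384c582c443c5c14001c100c080418406088188020a898707830b0280008b810685890a038485080c10120a140d1507011116021305170f000903040b0e061018201c1e020a2a2628122c060e1a2e140022041608240c20304008242c1c5434103c5848144c5c4400283804500c1840608020981888a8781068b0085048b8380028a09070583080c100311041315050b0a1) (nat_lit 8000))) (nat_lit 8000))) (nat_lit 16000))) u5) (pk61d (nat_lit 10) 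
    (nat_lit 0x327d536bddb7cdff80dfb7dde77bdeb78ddf71dd375dcf72dbb70dbf6ddb360d9b69dab68d9f63d9764d8b61d6b5dd7f5ed735bd5f59d6356d573ed274fd4b53d4750d334ed374bd2b44d1f48d1b45d0743d0b40cff33ce73ccf73bceb36ce337cd734cb730ccb31cbf2ecab2ccaf29ca2fac471cc8b25c9b24c8f1fc8720c7b1dc5f1ac6f19c6314c5b15c4f12c1b0cc3f10c3b0dc270bc2b08c1f00c0f05c1302c06fdbfefebf2fbb92efbd6f8be6f7bdaf2bd2f3bc6f0baaedbbaecbaee7ba6e8b9ae5b66dfb8ae3b86e0b72deb76dbb6ad3b5ad8b5ed5b52d0b4ad1b3ece) u5) (r0 (pk61d (nat_lit 9) 
    (nat_lit 0x2ca1738a6d62bb5eadd66a555a9d429d43a45268d449ed027d3b9cc8a5b3299cc25d27954a24b238b46e3d1c8cc5e211388c3a18df7a3fe090581401f2fc7d3ddeaea77bc1daeb7239dcae270325a8d96d35daace68b3d98ca5eb098ac3602f96eba5c2d5665842a694aaa55aa14c9f512813a9b482552c9348a291a8b44218de7a3fa00fa7b3a1dcea723818cd06b34998c85d30178b6591610498512913c9a462491c88421b8f07a3a1c0c46832178b42c211309c48220d87838190b8281e12080341604038140400) u5)) (r0 (pk61d (nat_lit 9) 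
    (nat_lit 0x596c963b1586c15fae56aaf56aa5469f4ca5d2a8f45a15067f3c9d4de6d359a4c65f2c95ca64d2490c823f1d8d4622b148943e1b0a84c220f0681c05fcfd7dbe1ecf3793c5dcec74ba1cce370b79badc6db61acd3693419acb6431d8cc460afd78bb5cad968b1582bd5cad562a54ea451a853c9c4ca612e944923d1c8c44a1d088341204fc7c3c9e0ec73389b8da6c3519cca623097cb85a2b958aa54299409c4b251208a43200fc7c3b1c8d86a33180b8562a148a04a231007c3a1a0c0542813088381809040180601) u5))))))) (_root_.Cfsg.Agent.H440.J4P.DuadTab.Tr.nil) (nat_lit 9) (nat_lit 358)) : Tr)
    = ?xq9005 → (Tr)) ?hq9005; (case hq9005 => (set_option maxRecDepth 1000000 in conv => lhs; reduce)); intro _; exact ?xq9005 : Tr)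

/-- part of the tree -/
noncomputable def D0101 : Tr :=
  (by
  refine (?fq9006 : ((pk61r (fun r0 j => pk61f j fun i1 => (pk61f (pk61d (nat_lit 8) 
    (nat_lit 0xb1b0afaeadacab0000aa00a90000a8a700a60000a500a40000a3a2a10000a0009f00009e9d009c00009b009a0000999897960000950094000093920091000090008f00008e8d8c00008b008a00008988008700008600850000848382818000007f007e00007d7c007b00007a007900007877760000750074000073720071000070006f00006e6d6c6b00006a006900006867006600006500640000636261006000005f005e00005d5c005b00005a0059000058575655545300005200510000504f004e00004d004c00004b4a4900004800470000464500440000430042000041403f3e00003d003c00003b3a003900003800370000363534003300003200310000302f002e00002d002c00002b2a2928270000260025000024230022000021002000001f1e1d00001c001b00001a1900180000170016000015141312000011001000000f0e000d00000c000b00000a09080007000006000500000403000200000100000000) i1) fun u5 => (pk61f (pk61d (nat_lit 1) 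
    (nat_lit 0x1fca694e534a794d29ca694f94d29ca694f29a53a534a7e534a729a53ca694e94d29f29a5394d29e534a74a694) i1) fun t1_0 => (pk61c (Nat.div t1_0 (nat_lit 1)) _root_.Cfsg.Agent.H440.J4P.DuadTab.Tr.nil fun _ => (_root_.Cfsg.Agent.H440.J4P.DuadTab.Tr.node (pk61d (nat_lit 191) (Nat.add (Nat.add 
    (nat_lit 0x403c3800504c48580c282c085c1054041c3024144440683850281008604800b08020a078b8a81898583090887080d070c0102050a060b16140e100317150f110009121304101a0e0a1404180206082c2200260c2e2a12281c1e24201620341c04300828143c38584c2c44245c541840100c4850004068289020a030100060b070184850b80888a8985880387880d060c050910110b0716140f0112170e15130200040a03101a0c001408180602042c220a260e2e122a1624201c1e282034141c2c403c484410580c4c00185c502454383004082840682810600850384858b098708878b88000a81820a0903080d0305060b0e010711160412090a170f13140c15001002101a0806140c18000a0e2c220226042e1c241e2a28121620203410284038144c2c4858043c501c5c240844540018300c40681898a07828609030b080100820b800708848a858503880d030e110013090214160a070c10170b050601150f041210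1a041c000e160814282c06221e0a2e24021220182a0c2620340850441c4c400c3858280030245c481814103c54042c40681080983888a07820b060585030b89048087018a8280080d02090f0703061305160b0c00141712100e011115040a101a040c060e1e1222022c001416202e2428080a262a1c1820305410440c4c401c3828582c34145c3c1824504808040040680810488070900088b030182098b82860385058a0a87880d02010a070c050006161103130417120e10090b15140f101a0408160e001c18202c1e2606022e240a0c28142a1222203404480c50001c2810582c303c185c402408384c14544440680838602850107078b098488858b8a01890003080a82080d0005090f0401120c160e070613170b0a141102031015101a00220a162814040c2c022420082e061c26120e1e182a20340024440c4c381c4058280830505c3c041014482c18544060a8a050906880281088b0089838b8483078201870580080c15120d140a100f0b13160e11091707060503040102001018260a2a12001408020c2c0420242e061a281e0e161c222030505428403448081444581c4c045c2c0c3800183c24104060a81898208880480868b0105078b828303890a058700080c14150b000e03051102161301071709040f06100d0a121018282a120c1e0822040a2c020e262e14241a20001c160620304c38540818342450405810003c5c14441c2c04480c284060903028a83818501048b0087868b888a098008070582080c1303150410110207001609060b170e0a0112140f050d10182420142a1a28020e222c0a26042e1c08160c00121e06203048000454081014343858282c1c5c240c3c4018444c50406088583008a850482000b0a08078b82898387010189068)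 (Nat.shiftLeft 
    (nat_lit 0xc140b0e16110f1309170706010400020503101a2a022624220a06122c1800141c2e0e08200c1e042816203450543c042c084c105800440c185c14241c382840483040689830a86010701880b090003828b850a048087888205880d14150c100a120400161306110317010b020f0905070e101a26162a140e060a122c0428241c2e22081e0c2018000220344c0454444814383c581c10080c5c3000402c24285018406890a050a860807848b088589870b8102028301838080080d1201111513050b04160a0f0c06170209100e00071403101a2416122a0c0002142c08281c262e042206180a0e1e202034483c1054380c504458240418305c0828004c401c2c144068902898a888080070b060185048b81030a0205838807880d12030e15040f1013160605090a17020c0b1114070001101a220804142a12060a2c0e0024202e18021c281e260c16203448001854242c143058384010445c084c3c28041c0c50406888783860a800a048b090281070b8982058300850188080d1101121315050600160209070b170a0f1003040c140e101a20241828142a0c062c260822002e0a1e0e161c02041220342c304000044c1c1858505414105c3c382824080c4448406870880820a06058a8b080782810b8303850900048981880d0f0a0103101115061605071404170b0e0c09120013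02101a2004000a062a18082c1e14160c2e0212241c22280e2620343c18442c4c10541458284830045c00503840080c241c4068782820004808a850b030107088b81860a0983858809080d0c09121307040301161500021417110506100f0a0e0b101a1c20000c1e28222a2c1618060e2e1224020414080a262034382c2824303c40545844504c485c1008001c04180c1440686018108890580848b0a8803870b850200030a098782880d0c01070a02050903161506120f17130b10000e111404101a1226280c021416042c0a1e202a2e0824180e001c2206203428381c4448180c5058080054045c4c4010143c30242c40685828701830081098b048a82060b80088a0509078803880d0b04110f13061201160a150c05170310091407000e02101a140204180e0a08162c241c2a002e2206201e0c26281220342800484c083c4024581c0454385c30100c1814442c50406838a0981088805830b060785020b8a87028480090081880d09100b0403140a071600130f15170e0201121106050c101a121e141c181628242c2220262a2e0c0e06040a08000220341c4c50084044383c58041814005c542c280c10483024406838888010a0982018b028480858b8a80060787090503080d02050c070a010b0916130f110e171204140600151003101a08200612162818042c1e2200242e0c0e022a261c0a14203418) (nat_lit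 8000))) (Nat.shiftLeft (Nat.add 
    (nat_lit 0xc580c2c3044545c3c14184c34040840407050089098601828b0488800a868b8102078308038a05880e0a000f03070513160b060d150117110c100212040914101c12220c162804022c0a1424182a2e00261a0608201e0e2038243034282c3c40584c504448545c080c1014181c0004407030102050087880b02838009018b860a8689848a0885880e0703000f050a12160b090d100c171502110114060413101c0e0a22162618042c0c202402082e2a1a2812001e1406203818442408502c30580c3c40044c5c005410143448281c407030506888903800b0985860a028b880a848182008107880e0511031014120a160901020f0d1700041506130b0c07101c0a28062422201e2c081618140c2e0e122a1a26020400203814480c50404400583034101c045c2808542c4c18243c40702880188890a038b01030480058b87860a8089868205080e050f03000a0714160b040d1102171001150c13090612101c060c0a161a02182c221e2404002e0828260e2a142012203810041828083c40580c001c48145c2c4c245434445030407028001878385090b06860588048b88830a820981008a080e0507030a000f1016060201120417140d1509130c0b11101c08221a182802042c26241416062e000a0c2a121e200e2038103c241c40445058142c30004c5c4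80c345418040828407018682808305810b0a050806038b848889800a878902080e0314051011120a160d02010f091707061304150c0b00101c06220a2428201e2c0c181614082e001a26122a04020e20380c24143010082c581c483c04505c34004c4454402818407018382878005090b04858608068b8a0209830a808108880e01100b070a1400160403131106171209020d0c05150f101c042418281e0e222c082606000c2e2012021a162a0a1420380c101408243004580040282c445c181c4c5054483c34407018002850387880b02008109030b888489868a85860a080e020d011009120a161403050f111704000b070c151306101c040e1608001a0c2c200a2612142e281e1824022a06222038004c500814042c5818283c30105c0c3444241c484054407008481080689050b088281878a0b8303860005898a82080e01070c0900060d160f130504121714100b0a02031511101c000a0e1e0614242c181a1220162e2602280422080c2a2038000c44244c34105840040818485c14281c3c502c305440683880881098a00048b050186070b8a82008305890287880d100706010415000a1609030e0c17141302110b05120f101a2420182a1428060c2c260022082e041c02121e0e0a16203450543814241c004c58100c18445c402848302c04083c4068a828889098087830b050586020b83870a0481810800080d15100a12)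 (Nat.shiftLeft (Nat.add 
    (nat_lit 0x310000217140506111209150a101e020c0414081c2c2016121a24182e0a280e2200262a06203c04081838102858480c1400401c5c244c30443450542c40780080703068a0b0988828081038b848906018205058a880e1500131207100f160902010a0d1711040506030c0b14101c2a28261e2214242c0c020420082e0e1a0a1206161800203c001808302c14581c10484424285c38504034044c0c544070a8889850a07880b06858609048b8003028201808103880e1507131000120a16040c0b0f06171409050d03020111101c282a00180616022c0c242004082e0a1a0e1222141e2620385054443c4c28485804181040085c0c30002c1c2434144070a0a83868284830b09008102080b8987888500058601880e1314150a110f1016090c0b120d170704030605020100101c26222a1e2814242c080402200c2e0012061a0a18160e2038440c1c0454083058183c282c105c4c3400245040481440709800a880389050b03058607820b888681848280810a080e1307151200100f160d01020a091714060304050b0c11101c26162a1202080c2c1400281a242e041e06200a0e221820384c0854343018105848441c24285c2c400c3c1450000440709808a820584868b07838883080b8605018902800a01080e12001015071305160c0d06030217110b0f010a09041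4101c2416142a040a062c120e28261a2e1808200c1e220002203848103c54340c4c58440804141c5c2400285040302c1840708898a078a85090b01020308008b8285838600068481880e11050004150609160a01020d0f1703101412070b0c13101c1e04200616262a2c1200220a1a2e0208140c24280e1820384018280c245414581c08044c445c34503c0048302c1040708060782808a898b048a0381868b8582090305000881080e1000121307150316010409050b1711020a0c0f060d14101c1e1224260c0a2a2c00040206282e0822200e1418161a2038344018003c504458542c301c0c5c284c1014240408484070780050283818a8b01048209860b888089058806830a080e0d110401140c0b1615100f02051700030913060a1207101c1a161214181e202c2a222824262e020a0c0608000e0420383028080040441c5810541450185c3c242c34044c0c48407028501838780088b0084830a060b89058a8109820688080e0713140603040d160f0102090a1715120010110b0c05101c141a200a0826062c2804022a002e0c0e24221e18161220382c3c0444480050581014541c185c28243034080c4c40407060205880309050b038a8987800b8688808a01018284880e0b07020d00040916120315060f17140a01100c130511101c160c18200824142c00262a1e0e2e12280422020a061a20382448105028001)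 (Nat.shiftLeft 
    (nat_lit 0x20345450304828400010584c0c44185c1c2414382c08043c407060380830004820b050a8186880b8a09010785828988880e130c1506020d0916101400040f170112030a0511070b101e0018122006242c140228081c262e040a0c16220e1a2a203c042414001034582c4018380c505c08304c44281c5448407808a098802090b0500060187048b8383028885810a86880f0201110c130916050312000710170a040e060d15140b101e0226282408202c1c1a0e16140a2e18041222060c2a00203c04301c2c100c580028504834185c4c240844401454384078082848682000b0189010505898b83038a0887060a88080f01070c03040b160d0e1) (nat_lit 8000))) (nat_lit 8000))) (nat_lit 16000))) u5) (pk61d (nat_lit 11) 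
    (nat_lit 0x1edc0883d0a617c328670c61842c85d0b615c2a84909e1442684b08611c2284107e09c198390760dc1a82d0620bc1582903a08c1282103e05c0d81902a04bf27fb00e0340780b01200402802ffdff3f87f6ff1fd3f97eafddfb3f47e6f9df6bf07e2fbdf73ea7d8fadf4be87c2f91f33e57c6f89ef3e07bef75ee3ae78af41eb3d97b4f61ebbd37aaf51e93d1796f39e7bcd798f21e53c978ef19dd3c0786f11e13c177aefddf3bc776ed1dbbb9770ed9dabb1766ec9d83af730e8dd4bac75aeadd53a6750e9dd2ba473ce85d13a073ee6dceb9c734e65c6b9372ce5dcab94720e49c8b8f71ce1dc538c716e25c438470ce15c1b82) u5) (r0 (pk61d (nat_lit 9) 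
    (nat_lit 0x1650b9b52ead5bae566af50a9d469d4ca0d1a8f44a14ee7d3c9ccde412b984c65d2c92ca24d2390c5a371c8cc5e211388c3a18df7a3fe090581401f2fc7d3ddeaea77bc1daeb7239dcae270325a8d96d35daace68b3d98ca5eb098ac3602f96eba5c2d5665842a694aaa55aa14c9f512813a9b482552c9348a291a8b44218de7a3fa00fa7b3a1dcea723818cd06b34998c85d30178b6591610498512913c9a462491c88421b8f07a3a1c0c46832178b42c211309c48220d87838190b8281e12080341604038140400) u5)) (r0 (pk61d (nat_lit 9) 
    (nat_lit 0x2c762b0d82bf5eaed6ab155aa54a9f4da55269145a1d027f3d9d4e26b3499cca5f2d954a64f249147e3d1d8d4622b148943e1b0a84c220f0681c05fcfd7dbe1ecf3793c5dcec74ba1cce370b79badc6db61acd3693419acb6431d8cc460afd78bb5cad968b1582bd5cad562a54ea451a853c9c4ca612e944923d1c8c44a1d088341204fc7c3c9e0ec73389b8da6c3519cca623097cb85a2b958aa54299409c4b251208a43200fc7c3b1c8d86a33180b8562a148a04a231007c3a1a0c0542813088381809040180601) u5))))))) (_root_.Cfsg.Agent.H440.J4P.DuadTab.Tr.nil) (nat_lit 9) (nat_lit 356)) : Tr)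
    = ?xq9006 → (Tr)) ?hq9006; (case hq9006 => (set_option maxRecDepth 1000000 in conv => lhs; reduce)); intro _; exact ?xq9006 : Tr)

/-- part of the tree -/
noncomputable def D010 : Tr := .node (nat_lit 1578521372579653287224340387003818037909033426097087738008) (nat_lit 897) D0100 D0101

/-- part of the tree -/
noncomputable def D0110 : Tr :=
  (by
  refine (?fq9007 : ((pk61r (fun r0 j => pk61f j fun i1 => (pk61f (pk61d (nat_lit 8) 
    (nat_lit 0xb2b1b0afaeadac0000ab00aa0000a9a800a70000a600a50000a4a3a20000a100a000009f9e009d00009c009b00009a9998970000960095000094930092000091009000008f8e8d008c00008b008a00008988008700008600850000848382818000007f007e00007d7c007b00007a007900007877760000750074000073720071000070006f00006e6d6c6b00006a006900006867006600006500640000636261006000005f005e00005d5c005b00005a0059000058575655545300005200510000504f004e00004d004c00004b4a4900004800470000464500440000430042000041403f3e00003d003c00003b3a003900003800370000363534003300003200310000302f002e00002d002c00002b2a2928270000260025000024230022000021002000001f1e1d00001c001b00001a1900180000170016000015141312000011001000000f0e000d00000c000b00000a09080007000006000500000403000200000100000000)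 i1) fun u5 => (pk61f (pk61d (nat_lit 1) 
    (nat_lit 0x7f29a5394d29e534a74a694f94d29ca694f29a53a534a7e534a729a53ca694e94d29f29a5394d29e534a74a694) i1) fun t1_0 => (pk61c (Nat.div t1_0 (nat_lit 1)) _root_.Cfsg.Agent.H440.J4P.DuadTab.Tr.nil fun _ => (_root_.Cfsg.Agent.H440.J4P.DuadTab.Tr.node (pk61d (nat_lit 191) (Nat.add (Nat.add 
    (nat_lit 0x818444854581030341c04005c2c4c0c3814502824407888006838a860b0289880304850b890587008101820a080f110206101512160a0b070d0e05170c13090100140403101e20160008142a2c020c122822182e0a1a0e2404061c26203c4014300438545844004c0c10185c082450282c1c48344078700058889008b0a81048982060b828183850306880a080f0e09070410111615000203011417130506120b0c0a0d101e1c040c0214082c2a12000a221a2e062616200e282418203c3428484c00085818541410501c5c2438302c04400c444078683010481838b028a850086090b880a070008898582080f0b0705100d12160a1102150e061714091300010c0304101e18241c280e042c26162a1a0c022e2214080a00201206203c304c5034140c582c48543800105c0408442440181c284078605868704850b09098a8a08088b8201808383000281080f0b0e10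0203131614040515060717090a0c0d11120001101e14061a0220222c082612042a182e0a000e1c2816240c203c2c180814003058240440541c385c2850480c104c34444078506028889020b00800a018a810b8303898805848706880f0a0206040e011611070b0c1503170d13001209141005101e122628000e162c061408201a2a2e220402181c0c0a24203c10504c48044058382c1434281c5c241830540008440c407830880828a038b0601870004850b880a890106820985880f0713140b0900160d0e0112031117150204050a060c10101e121a161c18142c24282226202a2e0200080a04060e0c203c1c284018304c58082c443450105c544804240038140c4078380018702850b0903020108008b8a8688860985848a080f051314030c0d160010110a0b0117040215071206090e101e0c08221a26162c00240e20060a2e182a12281402041c203c1804102808385840242c3048345c00540c4c1444501c4078287090984830b0a05820681088b80880a8600050381880f0503000e070a1612020106100417110b1509140d0c13101e080c041c02142c24000e06200a2e1828122a1626221a203c1040484c04505808303414180c5c00282c542438441c40782098a0800890b0501848007060b8281038a86830885880f0412101401131606070009020b170d0e0315050a110c101e081c140c02042c280a161826002e06241a2a0e202212203c102838080418584c240c1c50345c2c400054304844144078184860800090b05020980870a0b830381068a828588880f0402060a010e16100d0c0b1209170713051503141100101e06241428160c2c04020a22260e2e122018002a1c1a08203c0c18081c3424583044381014405c4850282c544c0004407810882018a000b0585038706828b86008489890a83080)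 (Nat.shiftLeft 
    (nat_lit 0xd160b0711000f0405170e15090a1401020c10200c02161e122c24140a00261c222e082a1a0e0406281820401430282c0c58101c0050484c085c3804543c4424183440802078606810b0a0089098302818b8005850a8488870388100500110f1316120a0601090e0b17030d150207040c14102008220c14282c1c1e120e00241a2e1826062a0a02041620401004000c38580844142c3024285c181c3454483c504c40801868909830b02058a048703860b850880878a8002810810010c071112160302061404090a17130d000b0f0e1505102004241628002c021a1c12260a182e0806140e0c2a1e2220400c100438005828481c08143c185c34242c5054304c4440801068782060b09838a088505830b87048089000a828188100207050e06160a120403010f00171411130d0c150b09102000281624042c1e1c1a0c2614062e08180a0e1222022a20400418243c2c584828001444384c5c0850300c101c543440800800702018b058986068783810b8502830908848a8a0810001202140b1605010a06110d0417030c0f0907130e151020001e220a262c281a1c0c04020e2e121824060816142a203c5054042c0834580c401c4800145c3010241838444c284078a8a098508870b0801838009028b86030482068100858810000a090d07160105120603141317110c0e020b040f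151020001a0e14122c1c1e280c0824222e2618021604060a2a204000144c3c4458482804182c38245c1c3050100c08345440800008207018b050902830387810b8586068988848a0a880f150206121110160e0009030a0c17051307040b14010d101e2a26281c22142c2416181a20122e0e040a08000c0206203c541808404448582834142c381c5c245030100c4c04004078a0a888509870b0803818289000b8680858106020304880f14150409060c16070310000512170e110a130d01020b101e24040c2a20222c020a061208162e00261a1418281c0e203c4c045400180c5834381c282c145c304424084010504840789888a850a070b0802800389018b8582068304808106080f1304150702051609030a000c0e17120110140d11060b101e241a062a1c082c2228120c02182e0a160e2026001404203c481c24542804581000180c444c5c503008382c144034407888680060a838b048a090102870b8801850083058209880f1114130e150a16120d090b100c170506070103020400101e222628142a1c2c20000a06240e2e12041802160c081a203c442c0c145424581c08285030405c380048044c341018407888301090a880b0701860005048b838a028086898205880f09100a02051416060b010d131517040e110700120c03101e1a0a0e2016242c142a0c221c042e2618280608120002203c40) (nat_lit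 8000))) (Nat.shiftLeft (Nat.add 
    (nat_lit 0x8302c383400445c043c4c50080c1c284080904820a828b0600018783830a0b858508898680810708101205091504160006010a020c1317030e1411070b0d0f1020221c161a2a2c0a28240626020c2e08121e0e1800140420404434382c54581c4c50084810005c3c0c04281830142440807028103038b060a80878480058b88890a018209868508100f0511001316150c010e03060417020a14090b070d1210201e16020c122c2a0008142818222e0a240e1a0406261c20403c0810303458541844481c00045c2c380c4c1450242840807098a06048b000a83890083088b868502028101858788100d0612130316070415010a0b02170f14000e11090c0510201c060800022c0c2a12140e181a2e161e0426280a222420403430083c1058482854500c381c5c241418442c4c000440806800384850b01018a828208890b898086058707830a08100c14130e09160a120d150b0f111707000504020301061020140e1a00122c180c261e0a2a222e281c1602040608242040301034083c58440c4c540424285c14001c5038482c1840806058281850b0481038a8a08878b868009808907020308100c0d040f0216120a1415070e03170b000113091105061020180e0222242c0412162a1a061c2e2800080a141e260c204030142c280c58383c04544c48085c1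000501c4424341840805818605028b070781098a89008b830388800a06848208100c01071211160f0e0515040a091713000d0b03021406102016240028042c1a0a1e0e2a02062e18081c0c1222142620402c0418243c5844081410540c485c004c34302838501c408050882030a0b00060107038a828b858904898086818788100709000a0d160e0f110406121417150b020c010503131020121e16020c2c280a1404261a2a2e08221c0e00182406204028140c302c581800044844541c5c243c50084c10343840804898a07060b0509058886878a8b82818380830002010810090d0a0700160b0414030f1315171202010e0c06051110200e1c0c0a042c02281416181a062e2a26240012221e0820401844281050581c2c0c00384c045c3c5408483414243040803808608890b048182898001078b8a82068307050a0588100614040a11160e0f0d00071209170b1505130302010c10200c1a2624062c1e1c28001614042e0e2a020822120a18204018243c2c04584c100800481c505c28540c3814344430407888185848a828b0603070983890b850688008a0002010810000e030104160d140f0609050b17020c0a111307121510200614160a182c1a021e222628002e0804240e2a0c1c12204014181c08385824443034100c3c5c4c50542c2848000440803010703828b020984800505868b890a8887808a0186081006031213)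 (Nat.shiftLeft (Nat.add 
    (nat_lit 0x613120317150c0d0009100e0410220e0218202c2400081426121a162e2a06041c0c0a281e204418402810585014243034044c385c08543c48001c2c0c408820a05030b08008706068289848b8389058a818107800811050d070416030b0a14000f0e0217130115121009060c10220c0004022c1a160e20061e12142e1c2a080a18262428204414242804583818403034104c505c0c3c542c1c004808408828008078b09890381048081860b87020a830506858a081104090b0c16000103061213051417020d0a150e070f10102208200c142c280204160a1a24002e0626182a0e1c1e12204410384c485808045034302c280c5c0018145424403c1c408820386828b01808009850306010b8a05890a8804878708110403050d1607010912060a0b0e17100c131514000f021022021a00042c0c0818281c120e162e1420061e0a242a2620440838484c581024502c1834143c5c0030284004540c1c40881898a058b00848687000903878b850283010a820806081104000c0b160901070a13120d10170e05061502030f141022061c0c182c1e20280a241416082e00261a122a02040e20440c14341c581008184c280030045c48385040543c242c408808a09858b01820706860905010b8382830788048a800811020a070b160f100c000e12140117130506030415090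d1022040c1a002c02060a26140e18082e16281c121e2a20242044044c500c582c1028001c4038185c3024083c48145434408808705028b04820a06068309880b8005890781018a83881100040c09160b07010a13100d12170f02031405060e151022020e18242c2008001426161a122e280c0a1e06042a1c204404301c405848103438500c00145c4c08243c2c185428408808507048b0282098380010a090b8681880783058a86081101000d0616020407130a050c03170e120b0f091015141022001e200a2c26280806040c12142e0216241c1a180e2a204054342c384458284850304c3c245c1018041c0c081400408800083068b01070789058602818b8209850384880a0a88101514070f0316120a0d0c040e02171306050b1109010010202a0a0824122c1e1c02180e14222e160c282604061a00204054044c280858383c14302c480c5c1c1834102444500040806098a04870b0188820a8281090b80800586878503830810110b0d0e15160a121309140f0c170102040500060703102026022a04142c06120a0e0c221c2e18161a001e242808204050540c3c1c58482830340838105c440400244c2c18144080a0a8381878b088480008201070b89828305890506068810130a15010216050d0e040014031706070f0c0911120b102026042a14022c1c1e061618240a2e0008120c1a28220e20404810145424581)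 (Nat.shiftLeft 
    (nat_lit 0x10200c0a0e1c042c14240200081e062e262a281612221a18204050543c1c0c584c2c18143810085c4834302844240004408820109098b07008802858603038b8485068a800a07818811060c0e0f160312130014040702170a15010b1009050d1022121c0a142c0204280c1618242a2e001a2606081e200e2044281c3c08582c4c0004104054145c500c243018483438408850802030b0a06818780828a838b848905898700060108110a05010e16090c12040f071510170b00140d02031306102212241a282c1e201626141c182a2e0a000e040208060c20441c100c145834383c40241808305c542c48504c280004408848600058b020185038a09070a8b86828308078081098811070f0b0a16021401050) (nat_lit 8000))) (nat_lit 8000))) (nat_lit 16000))) u5) (pk61d (nat_lit 11) 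
    (nat_lit 0x123a5dcd29bb38e734e79cb392704e29c337e6f4d89b73726d4d99ab35e6b4d49a731e66cd09a333e674ca99932e64cc8983312634c598730a5f4c097f2f65e4a59612da5ccba9712de59cb59692ca58cab95d2be56cac9512aa54ca794d26a504a394928a50c9d93f27a4e49b92925e4cc9892d25648c9392524247c618f120e44c8c91b22e4548691121e42c848fd206414808ff1ee3ec7c8f51e636c738ed1de3ac748e11ca38c6f8dd19e3546c8d71a6344648cd19631c6289715a2e45f8c117a2ec598b716a2c4578a31522ac538a513a2844f89b1322044689312a24447887116224428830ea1ec3f87d0f21dc378730e21b435) u5) (r0 (pk61d (nat_lit 9) 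
    (nat_lit 0x2ca1738a6d62bb5eadd66a555a9d429d43a45268d449ed027d3b9cc8a5b3299cc25d27954a24b238b46e3d1c8cc5e211388c3a18df7a3fe090581401f2fc7d3ddeaea77bc1daeb7239dcae270325a8d96d35daace68b3d98ca5eb098ac3602f96eba5c2d5665842a694aaa55aa14c9f512813a9b482552c9348a291a8b44218de7a3fa00fa7b3a1dcea723818cd06b34998c85d30178b6591610498512913c9a462491c88421b8f07a3a1c0c46832178b42c211309c48220d87838190b8281e12080341604038140400) u5)) (r0 (pk61d (nat_lit 9) 
    (nat_lit 0x596c963b1586c15fae56aaf56aa5469f4ca5d2a8f45a15067f3c9d4de6d359a4c65f2c95ca64d2490c823f1d8d4622b148943e1b0a84c220f0681c05fcfd7dbe1ecf3793c5dcec74ba1cce370b79badc6db61acd3693419acb6431d8cc460afd78bb5cad968b1582bd5cad562a54ea451a853c9c4ca612e944923d1c8c44a1d088341204fc7c3c9e0ec73389b8da6c3519cca623097cb85a2b958aa54299409c4b251208a43200fc7c3b1c8d86a33180b8562a148a04a231007c3a1a0c0542813088381809040180601) u5))))))) (_root_.Cfsg.Agent.H440.J4P.DuadTab.Tr.nil) (nat_lit 9) (nat_lit 358)) : Tr)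
    = ?xq9007 → (Tr)) ?hq9007; (case hq9007 => (set_option maxRecDepth 1000000 in conv => lhs; reduce)); intro _; exact ?xq9007 : Tr)

/-- part of the tree -/
noncomputable def D0111 : Tr :=
  (by
  refine (?fq9008 : ((pk61r (fun r0 j => pk61f j fun i1 => (pk61f (pk61d (nat_lit 8) 
    (nat_lit 0xb1b0afaeadacab0000aa00a90000a8a700a60000a500a40000a3a2a10000a0009f00009e9d009c00009b009a0000999897960000950094000093920091000090008f00008e8d8c00008b008a00008988008700008600850000848382818000007f007e00007d7c007b00007a007900007877760000750074000073720071000070006f00006e6d6c6b00006a006900006867006600006500640000636261006000005f005e00005d5c005b00005a0059000058575655545300005200510000504f004e00004d004c00004b4a4900004800470000464500440000430042000041403f3e00003d003c00003b3a003900003800370000363534003300003200310000302f002e00002d002c00002b2a2928270000260025000024230022000021002000001f1e1d00001c001b00001a1900180000170016000015141312000011001000000f0e000d00000c000b00000a09080007000006000500000403000200000100000000) i1) fun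 u5 => (pk61f (pk61d (nat_lit 1) 
    (nat_lit 0x1fca694e534a794d29ca694f94d29ca694f29a53a534a7e534a729a53ca694e94d29f29a5394d29e534a74a694) i1) fun t1_0 => (pk61c (Nat.div t1_0 (nat_lit 1)) _root_.Cfsg.Agent.H440.J4P.DuadTab.Tr.nil fun _ => (_root_.Cfsg.Agent.H440.J4P.DuadTab.Tr.node (pk61d (nat_lit 191) (Nat.add (Nat.add 
    (nat_lit 0x2834582c100c304c384450085c001418403c24541c4090102098b0887050803818587848b8683028a060a80800812020a0616090c04030710011411170d13000f0e150b0510240406022c0a1e20140e080c1c002e1a162218282a2612204804301c5840442c1424503c18345c4c28380c100054084090006068b07028308898a0505838b848788018200810a881201050216030f100a0006040e0717090c140b1113150d10240020042c16281806121e22081a2e020a0c141c260e2a204800181c58103c402804140c38085c4c5030442c2434544088a8a06028b01078705098306818b8385890204880080081114150205160c0001091006030d17040b12070a130e0f10222a0014242c061e0e181a1626042e1c0c0a08201202282044541c4c1858243c0034301428405c50482c10080c04384088a0a86010b02870785098186830b808488000589038208111415050c16020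7040b120d0603170f0a130e091000011022260c2a0e2c121a161e081c02202e242800180406140a20444c245418581c3008043c1410505c40482c280038340c40889838a848b03050002008187890b8a080106858286070811120a00151603060d0e07011402170c0f040510090b1310222406142a2c001604181a1e260e2e1208020c281c0a2020443c004c145840541c34301828245c382c48040c0810504088789048a0b068a8308010381898b85870000850602028811100d0e0b161502131407120004170c050609010f030a1022201c161a2c2a0628240a260c022e001418041e08120e2044402c3438585424484c2850303c5c181c000c10040814408878a06890b048a8709850586080b838302808101820008110f070a0b160215000c0d12130317140506010910040e10221e1c180c2c062a2814260a1a042e002416022012080e20443c2c081c582854140c245040305c48003804344c1018408878301870b060a8901080004850b828a03808986820588110f0510001613150b09030e020d17060714010c0a041210221a04020c2c0014122a080a1e1c2e062416180e28262020443804241458281c54080c18404c5c3c2c480030345010408870786018b030a0a85098106828b820804838905800088110e0412131602001506050a0b0317010d0c140910070f10221a241e282c12260a2a020008202e0c0e1c14040618162044341c100c58143000543c24042c5c5008404c48182838408860187830b070988020a8280800b810905868a03850488110c0b040016090a060115140f1017050e071302030d121022180e02202c241a001e2a04080c2e281206140a16261c20442c4c5004580c14301c385400085c34103c1840244828408858105078b03890186068a89800b88008202870a03048)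 (Nat.shiftLeft 
    (nat_lit 0x110f100a150c0b0e1317020605040307000110241a18002c0a1c14202a280c1e022e04162206080e12262048342c2858100400245418504c385c08300c44141c403c4090681898b030807870a820285048b810885860a03808008120d050e160c000113151103090a17020414060b070f1010241a08022c16141c1e2a062220002e040a0c28180e2612204830341458003828405054043c185c10244c1c080c2c444090603808b08088283018a8505800b8a0707810682098488120a0609160c02070d0e11041513170f14030b05100001102416061c2c0e1200260a082a02202e22041a18280c141e20482c400058085010301838540c045c14341c3c2844244c4090580820b0685070788800a88018b8303810984828a0608120a13141605070d020f0006150417100b1109010e030c1024121c0e2c16060828001422182a2e260a0c1e2002041a204828102c580434081c400c4c54185c38240050303c44144090488868b0a078805098586070a8b80820183028003810812090c02160a06050b01140e11151700100f0304130d0710240e28262c0a141c1e04180c20122e2a162208061a020020481438005834300c5044401c10045c2c0854283c18244c4090380860b0808830581098702820b8a87850480068a018812070903160e0b0511020010061417150a0f01130d0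40c10240e18022c22201e1c04281614002e2a0c0a06081a261220481c100058183c4028080c1438045c54442c503034244c4090381848b0587050801020887898b8a8283060a068000881206090c16020a0e0f0513071014170b150d000111030410240e00082c1e0c220a04121416182e2a201c26021a06282048183c00581c10500c2c283430045c445408403814244c4090301880b0689808488820100070b828a83860a058785081205131416070a0e0f060902100c17110d1501000b04031024060e162c121c14200804261e222e2800021a2a180a0c2048101c3c5818004c2430341404385c50442c54080c28404090281878b0100898005820684850b83038a860a0888070812040d01160a0b0605140210110017030f0e15070c130910240804222c261c1420060e121e162e1802002a1a280c0a20480c344058184c0004501c1424285c30442c085410383c4090108058b000a018203850986028b86808487078a83088812030201160f05110b0c0d0e060017040a10071514130910240428002c16201e1c0e182214022e1a0a0c08062a12262048083c1458040c50301c3824102c5c34004c28405444184090107088b0982060a03878001830b86848088050a8285881112000315160a0507090204100d170e010f0b130c061410222a1c1a162c201e2826142418122e000a0c080604020e204804) (nat_lit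 8000))) (Nat.shiftLeft (Nat.add 
    (nat_lit 0x8141808483c1c5c243438005430401040982010b088907030804800180868b8287838a858a0506081303141601110b0f050d0c100a001704060e07150212091026061e2c121408280a181a0e22242e16041c202a0c0002204c0c34584018483014503c0408105c0044382454282c1c40981028b058684818308850906080b80070a00878a82038813030616120d100205110a0b0c091707140e04150f0100102606142c081e12220a040c0028202e02181c242a1a0e16204c0c085800301c181428441034045c403c382c5450244840981070b088902028a00008384850b85818788030a86068813010f160e070d141210040a0b05171102090c00061503102604062c000e181c1e16201a08022e220a0c14282a1224204c0444580c502c3024083c4018385c1028001c4834541440980820b028603038005088106818b8788090a04858a870813000f160510111409070b0c040e170d02120a01060315102426162a2c181e20141222281c1a2e0006080a0c02040e2048540c00584428383c34102c40045c1c1814305008244c4090a8a008b0307050806860287800b83888582018109848813000716030c0204010a11060d0517140b090f12100e1510242a18262c161e20141a28221c122e0e0a0c060804020020485410245814403c38340c18284c5c1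c2c4450300800044090a0a808b0703058882038782800b8608050681018984881214150e1606010913030205000f1704110b070d0c100a1024282a0c2c021c1420181a001e0a2e062612040e08221620484c3c54582c3050100440440c1c5c241418382800340840909860a8b07858883000a0802810b8087050182048386881210040516091507020a03000d11170f0113140c0e060b10242200062c2a141c1e16021a20082e0a040e12260c1828204844280058540c3010143c0850045c181c3438402c244c4090881850b0a80048083020389878b858681060a0287080812100904160515020d0e01060714170a0b1113000f0c031024200a122c082a1a0e1e161804262e1c0628220c14000220483c040c581408541c28241834305c382c44004c4050104090788848b0a068a8108030183898b850602028587000088120f0406160007150d0e0309020b17101301140c0a051110241c16122c060e042a140a281a262e2008180c221e00022048381044584c0834543c0c041c145c2800245030402c184090106048b03050707838a0288098b86888581820a80008812071314160a050b0602010f110317150e1000090d0c0410241804142c0c120200082a0a26202e0622161a0e281e1c2048341840580c4c2400542c30043c5c08501014441c28384090688878b0a0489808a828200080b810186058303870508120d140916)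 (Nat.shiftLeft (Nat.add 
    (nat_lit 0x905120c17030f0b0e0714110d102620022c04142a0016181a1c220c2e0a120e060824281e204c3c14580040445408101c282c045c300c50341838244840987818b0504820a8300800389088b858701080a02868608130e0616000a0b02150c0d1011011704140307050f091210261c1e2c021a0e282a22140818002e200406160a0c2412204c3840583024501c5400481804445c3c2c0c081410283440987058b050003020a84808a09068b810801878283860888130e07160d010f1015120002090a1714040306050b110c10261a162c120a040e142a06281c242e1e08220c18200002204c3810584448082c5404243c00305c181c0c501440342840987010b090882030a86860385048b85878188028a008008130d0616100312020c150e0005071709140a01110f040b10261a022c1e1c0e24222a0a0806042e200018161412280c204c24345814082c28045018403c545c1030481c0044380c40985800b030507008806068a88810b818902028384878a08130c0016020307090a0515040e0f1710010d0b111206141026180c2c080a02041a1c2a1206162e00282224141e200e204c2c445804500c34103c185408005c14301c384028482440985810b068482830389008a80088b87078801820a060508130a041609030f100d0e0506151217020b0c141107000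1102614242c280a0e0218061c082a0c2e201222161a001e04204c2818582c38000844140c4854105c04503424303c1c4040984880b07060a0589050887868a8b81020003008381828813090f1603040a14000b070d1015170c0201111206050e10260c0a2c1802081c1e12240e001a2e162a282004062214204c1c3458043c38444050081418005c54282c0c1030482440983890b0a0502848206068188878b8a8008070580810308130702160c0003060b01120e090a17150f040510140d1110260c1c2c00161406280e082220022e1a2a04181e0a1224204c144858501c28000c102c3040085c440454343824183c40983018b080689028108850486058b808a87800a0703820813051416120a070f030c0d041109171006150b0e02010010260a1e2c00222028061a181614022e0e042a081c0c1224204c142458082c34040c401c4410505c3000542838483c1840980050b07030586890781080a018b820880838486028a8813030c160702000d050f1409060b17120a0e0115110410102608122c1e1406240e181a0a22282e1c02162a20000c04204c140458181030240c1c40282c3c5c344854443800500840982810b048685830188850806090b82078a83870a000088130500160f101112030b040d0706170a09150c0e010214102608182c020c0a141604281c1e002e0622202a0e1a2412204c0c44582c50042)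 (Nat.shiftLeft 
    (nat_lit 0x20483800305814341c54404c18080c5c3c2c44042428105040982830b008602010185088386800b858a0a880707890488130c1016090e14041103150205121706070a0f0d0b000110261c282c1218201e2a1422161a242e0e0c06080a040002204c402858040854301c183c0c50005c383410142c44482440988848b030a838006870182028a0b88090505860081078813120b16150c0f10090a11140d0e1706070102000405031026220e2c122a0c16180a1c1e06242e28201a0414080002204c4418581c542408280c140438405c48503000343c2c1040987870b0386808a8a08850006020b890283048101880588131002160a01150604000) (nat_lit 8000))) (nat_lit 8000))) (nat_lit 16000))) u5) (pk61d (nat_lit 11) 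
    (nat_lit 0x2a156fb0b642cb599b35662cbd93b2b652c9591b1763ac7d8db19622c5589b0f61abd580b07612c1581afb5febf57caf75d6bc579aef5dab9574ae75c6b8559ac95aab6d6ead95aeb3d69ad159ab2d5fac558eb0d60ab957aaed5bab553aaa557ab155aaad51aa754aa854fa9152ea6d4ca95526a2d47a8d512a1d15a594de9ed40a834fe9f53aa794ee9cd38a654d69b534a674be98d30a5d4b690d27a554ae94d28a4949a92d23a4546e8f520a3f4768e518a354668bd169ff42a88513a2944a88d0da1f43a8650ba0b42284d07a0d40a82503a034027a4fa9fb3fa7e4fb9ef3e67c4f69eb3ba78cf39e53c277ceb9db3b2754e9) u5) (r0 (pk61d (nat_lit 9) 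
    (nat_lit 0x1650b9b52ead5bae566af50a9d469d4ca0d1a8f44a14ee7d3c9ccde412b984c65d2c92ca24d2390c5a371c8cc5e211388c3a18df7a3fe090581401f2fc7d3ddeaea77bc1daeb7239dcae270325a8d96d35daace68b3d98ca5eb098ac3602f96eba5c2d5665842a694aaa55aa14c9f512813a9b482552c9348a291a8b44218de7a3fa00fa7b3a1dcea723818cd06b34998c85d30178b6591610498512913c9a462491c88421b8f07a3a1c0c46832178b42c211309c48220d87838190b8281e12080341604038140400) u5)) (r0 (pk61d (nat_lit 9) 
    (nat_lit 0x2c762b0d82bf5eaed6ab155aa54a9f4da55269145a1d027f3d9d4e26b3499cca5f2d954a64f249147e3d1d8d4622b148943e1b0a84c220f0681c05fcfd7dbe1ecf3793c5dcec74ba1cce370b79badc6db61acd3693419acb6431d8cc460afd78bb5cad968b1582bd5cad562a54ea451a853c9c4ca612e944923d1c8c44a1d088341204fc7c3c9e0ec73389b8da6c3519cca623097cb85a2b958aa54299409c4b251208a43200fc7c3b1c8d86a33180b8562a148a04a231007c3a1a0c0542813088381809040180601) u5))))))) (_root_.Cfsg.Agent.H440.J4P.DuadTab.Tr.nil) (nat_lit 9) (nat_lit 356)) : Tr)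
    = ?xq9008 → (Tr)) ?hq9008; (case hq9008 => (set_option maxRecDepth 1000000 in conv => lhs; reduce)); intro _; exact ?xq9008 : Tr)

/-- part of the tree -/
noncomputable def D011 : Tr := .node (nat_lit 1582334571064692360675129447436226212364285240250112944288) (nat_lit 1256) D0110 D0111

/-- part of the tree -/
noncomputable def D01 : Tr := .node (nat_lit 1580775183529383464882314985628214258649116583419213027368) (nat_lit 1076) D010 D011

/-- part of the tree -/
noncomputable def D0 : Tr := .node (nat_lit 1576970941579525580192923789587330567559679521100268081288) (nat_lit 717) D00 D01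

/-- part of the tree -/
noncomputable def D1000 : Tr :=
  (by
  refine (?fq9009 : ((pk61r (fun r0 j => pk61f j fun i1 => (pk61f (pk61d (nat_lit 8) 
    (nat_lit 0xb2b1b0afaeadac0000ab00aa0000a9a800a70000a600a50000a4a3a20000a100a000009f9e009d00009c009b00009a9998970000960095000094930092000091009000008f8e8d008c00008b008a00008988008700008600850000848382818000007f007e00007d7c007b00007a007900007877760000750074000073720071000070006f00006e6d6c6b00006a006900006867006600006500640000636261006000005f005e00005d5c005b00005a0059000058575655545300005200510000504f004e00004d004c00004b4a4900004800470000464500440000430042000041403f3e00003d003c00003b3a003900003800370000363534003300003200310000302f002e00002d002c00002b2a2928270000260025000024230022000021002000001f1e1d00001c001b00001a1900180000170016000015141312000011001000000f0e000d00000c000b00000a09080007000006000500000403000200000100000000) i1) fun u5 => (pk61f (pk61d (nat_lit 1) 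
    (nat_lit 0x7f29a5394d29e534a74a694f94d29ca694f29a53a534a7e534a729a53ca694e94d29f29a5394d29e534a74a694) i1) fun t1_0 => (pk61c (Nat.div t1_0 (nat_lit 1)) _root_.Cfsg.Agent.H440.J4P.DuadTab.Tr.nil fun _ => (_root_.Cfsg.Agent.H440.J4P.DuadTab.Tr.node (pk61d (nat_lit 191) (Nat.add (Nat.add 
    (nat_lit 0x584c3038403c443448282c545c0018140c1008041c40a050b0203080881868701048a858b828903898786000088140a1606041110020e0d0309150b17071305120c0f01001028142c06041a1c0820220c122a162e0218001e26240e0a20502858080c38341844401024542c5c003c0430484c141c40a048b068889078806098705058a8b820081038002830188140916100e0c130d120f110a0b151703050600070102041028122c1e24221a261c201814162a2e0e040208060c0a0020502458180c0014081c0410282c545c384c4030483c344440a048b028001830082010385058a8b8608098708868789081406160b070c0d0a041011130f02171215010e0009050310280e2c2426140a0812020400221c2e2a06201e0c181a1620502458041c1008140c1800282c545c48343c4438404c3040a038b06860583028509890887000b8a880781820081048814071602010904060b0c0d0e001117150f03100513120a10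280a2c24260e140600120c02201a2e22182a041e08161c20501858281040442414000c084c3c5c04543848302c1c3440a030b04828001858386068781098b870a890088050208881405160f0e040b13120a07100d01170c0215110006090310280a2c00060c121c1e16081a02202e04222a18240e14262050045810081c243000283c1434405c440c2c4c1848543840a018b03048280010687050206090b808988858a87838808140416050b0e0f1011060a120c0317000d1315090102071028082c0c14202204020e120624182e1a26002a161e1c0a20500c58442c4c04001814244810305c08383428541c403c40a018b06850701008889858609020b800283048a88078388140216090401070a0d0e03060f1317100b00120c1511051028042c16200024120e0802260c1e2e1c14061a0a2a18222050085828380c342c4840003c4c185c1024041c4454143040a008b08818985838104820802868b8780050609070a83081401160f000c0a13030b110d100517040209070e06151210262a0c2c12220e041c1a180814242e20280a16061e0002205000580430283c402c084838441c5c2414180c10344c5440a000b01830482860500878387088b858908010982068a8814001602100b120609030511070e170a0f0c010d13041510262a282c001a081e1c22140e18022e160c0a2006041224204c543c5848302c503828444034245c1008141c0c1804004098a0a8b020680070788850086038b84818109030285880813150216010a10060e0c0d0b110017070f0504031412091026282a2c1a0008060424120e02182e160a0c201e1c1422204c5054580010341418402c301c045c28383c44080c244840989078b0a85860a0082080883818b85010006848307028)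 (Nat.shiftLeft 
    (nat_lit 0x90c0a021310040f11170500070b120e1406102a2c00062224140e0a021618200c2e1e121c0426081a282054580008383c2444480c281830405c142c1c04344c105040a0a8b03090700810882860585048b8009868201878803881415161304000d0f0710030b0a09170e0601120c02051110282a2c1e060e2026001a081614122e22040a18240c021c2050545808304414183804482c28245c1c3c400c104c340040a098b0a868002050389028107830b8704860800858188881411160c021505030b01130e0700170a0410060f120d091028242c1c2a0c020e260a140618082e1e221a121600200420504c58540010342430403818083c5c0c2c04441c28144840a090b030a8087010800058602018b82898385048788868814121601150e060d110f0904030c170010020b0a0513071028202c1e0e062a2618121c0a021a2e24041600220c1408205044581430540834243c481c00385c2c044c0c1040182840a088b01028a86030502080007038b84878906808981858814101607030f1511060a04010d0517130e090c12000b021028202c061e0e2a240016041a0a022e2208140c2618121c2050305800283c044408145410480c5c181c342c2438404c40a070b01068501830a89008388800b858782028809860488140f160911120d15031007020613170c0a01000e0b05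0410281e2c140200182a0e06200c26042e1c16080a1a122422205038584030244c04541848001c445c2834080c10143c2c40a070b02078582890a80830880038b848608098101868508140d160c06070b04001513100105171112090f02030a0e10281a2c1e22241226082a00020a202e0604141c0e0c161820503458380c0828004c54101440045c181c2c304844243c40a060b080487098288810a8182090b800087850586830388140c16060b0d07020511151203041710130e090a0f00011028162c0c180e1a040020242a12142e22260206081e0a1c20502c583c1038144c44040c5424285c000840483018341c40a058b09818880878702820a84850b838306860901080008140b16110113030e0f040515090a1706070c0d100012021028162c1c0a1e08222606022a12142e040024201a0e180c20502c581c341830000848405424285c4c440c041438103c40a050b0989038287800086048a858b888308020181068708140b160212001006070d0c15090a170e0f0504031301111028162c002004240e0c181a2a12142e1e1c080a0222062620502858484c141c3004003c24542c5c40104418080c383440a050b0786000089838289048a858b870106818203080888140416070902010e0f050b0c03121713000d150a1110061028122c04080e020c000a0614162a2e221e1a241826201c205024) (nat_lit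 8000))) (Nat.shiftLeft (Nat.add 
    (nat_lit 0xc08185024285c48304c3c3834444040a8b0586870808860909878a04850b81820103038280008815160b070500010602030414090a17130f120c0d0e1011102a2c160604080c020a0e002812142e1a201c2226241e182054582c080c1810001c14045024285c38443440484c303c40a8b050286878308818900048a058b81080980870382060815160a0e07040c0113021009140b1712000311050d0f06102a2c14200204260e18081c1228162e1e0a0c1a002224062054582830101c380840044c24502c5c440c0048183c341440a8b050307868289000881848a058b808988010602038708151609130711060f0e02000a0b141712100504030d010c102a2c14062422001e0a1a0c1228162e0e181c0826040220205458280044480c34183c1424502c5c1038301c4004084c40a8b04888309838707800105058a0b8809020280860186881516090f000e02131106070a0b14170c0d010304100512102a2c0a16020e001a141e0c261c062e22182804120824202054581c44244c1814042c003408485c50403c0c1028383040a8b04820802890180860685058a0b8303888987800701081516090512041001030d0c0a0b1417070613110e020f00102a2c12061a0218080a24201416282e04001c1e260e220c2054582404300c3414104048282c505c000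83c3844184c1c40a8b0308838984818201058600080b890a008707868285081516070e0a0c040613091102120d17140f0310050b0001102a2c0e0016020a0818141c241a042e2806201e0c1222262054581834143c28441c4c240040305c38504804080c102c40a8b0301820105868287850806000b808a070909888384881516030b06040201090c0d13050e1700120a1114100f07102a2c080e1c141812240a2002221e2e26001a280406160c205458142834183c402448100c4c385c084450302c1c000440a8b0284880209008580038701898b86010a08850307868815160406020b030a0c070e110f01170d13001410120905102a2c080a20122416060c041e02222e001a26281c18140e205458084028044c10182c0c34481c5c2438003c3050441440a8b0185088900010582030709828b808604868a07838808151603090d0c01000a1211050e131702040b061407100f102a2c041c12001e202614020e1a242e1608060c0a28182220545808102c0c18383c2400481c345c2840044c4450143040a050b0607808009028389848a858b868187010302088808140f160b04050e15100703130206170d0911120c0a00011028262c2a081a00160222061e0c042e0a140e2418121c2020545800041c142c383c08244018305c4828440c10344c5040a8b0082800583848186068882078b8801098507030a09081516010d03)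 (Nat.shiftLeft (Nat.add 
    (nat_lit 0xc010a07170914050015020b04102c04200024162818081a1e2206122e0e0c0a1c142a0226205808384c4844100c5034282c30045c1c1418403c54240040b000a01090588078500860887038b848302818209868a88160113140b11030f0d0e07120009170c0605041002150a102c0228260622161e001418201a0a2e0e041208240c2a1c205804301c4844403c2800502c38085c4c1418100c24543440b008386080889078706898185030b8a04810205828a8008160005110f1310120e0d0c020a041703061409070b0115102c0024162804200a1a1c182602122e0e0c1e080622142a2058003c4c144440500428302c340c5c1018481c2408385440a8b0a09868200008709030585048b8106028881838788081516140e12010604130d000b0a09170710030f0502110c102a2c201e0e06282602041400180c2e2412080a221a1c162054584838501804304c2c3c341c085c28440c001424401040a8b098a068002060589078702818b81008508048383088815161403070f101105020c0b0a091712060e01130d0400102a2c2628081a000e12220c0a061c2e1e181624140204202054584c50001034042840080c38145c181c24442c303c4840a8b0886010a02848303898200878b8687080580090501881516120614010e0410090507020d170b130c0f000a110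3102a2c2402281c0c06221400041a0e2e1220080a1e1626182054584414305008280c0048043c105c181c4c2438402c3440a8b0881028a06058687080782008b81800905038984830815160e0b0d10110614120113030517020f09000a070c04102a2c1e24261618280e06202202082e1c0004121a0a140c205458401c0c3c504434382c3018005c4c2808044814102440a8b080187838a090282048300060b88858706898081050815160f05060a0d14031007041101170c12130b0e000902102a2c1e0004121c28200e060208222e1a0a0c1418241626205458343c2814184c1050001c48085c2c40443804240c3040a8b0705060203808a03090289818b88068588848007810815160e090f02001214010603051317040c0a070b110d10102a2c1a1c1620220026280824040e2e120206180a140c1e205458343024040c1000504c081c485c2814183c402c443840a8b04870107800889838305058a0b86860180828902080815160a13020110040e070c09140b170d06050f03121100102a2c161c1a22201e2624182812142e040c06080a0e0200205458300c043424081444500018405c1028381c4c3c482c40a8b06020387050288810a0308000b89058789808681848815160b13120f0c110e0d1014090a170700050103020406102a2c162426181e201a1c222812142e0a020e0004060c082054582c141c04001)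 (Nat.shiftLeft 
    (nat_lit 0x102a2c022004142616000e0a1e22082e1a0618120c24281c20545830484c3c2c440814504000185c0c2434041c38102840a8b0a02810886078183880585048b8680098207090083081602041112130e0f100d0c000a0517070109140315060b102c062226022816181c0c1e2004122e0e1a0a082a14240020581038484c44083c502c143418245c1c2830540c40040040b02080503088a078106860589838b8489028a80070081881604021312110e0f100c0d050a001703060b1507140109102c062826162202041c1a142418082e000c0a122a1e200e205808502c4800402838340c4c3c185c1c2404103054144440b01868989030805070a010587800b820882838a8600848816030613100d120f0e110) (nat_lit 8000))) (nat_lit 8000))) (nat_lit 16000))) u5) (pk61d (nat_lit 11) 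
    (nat_lit 0x17d711639c8992b26e4ec9992f23e49c9191b22e3fc8590f20e40c798fb1ee3bc758bb1a637c718db1ae31c678cb1862fc518af16e2cc558a712e27c4d89311e0cc2f87710621c3f87b0d61cc378670c612c2b85b0a613c1f8470860ec1b80703e0ac1782704604c0d81701e02bf77fb005ffbfb7f2fc5fabf37defb5c8bbf7aaf85f3be97caf8dedbdf7baf65ebbcb7a2f4de7bcd78af25e3bc3782ea5dabbb77aee5dbbaf766ec5d6bab73ae8dd3ba5742e7dcbb9b732e55c9b656f6e1dc6b8f716e25c0b85706dfdbeb716eede5bab736d6dbdb6b696ced3dadb616c6d7daeb556b2d5da9b51686d25a6b4b68ed159eb4167eced9c) u5) (r0 (pk61d (nat_lit 9) 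
    (nat_lit 0x2ca1738a6d62bb5eadd66a555a9d429d43a45268d449ed027d3b9cc8a5b3299cc25d27954a24b238b46e3d1c8cc5e211388c3a18df7a3fe090581401f2fc7d3ddeaea77bc1daeb7239dcae270325a8d96d35daace68b3d98ca5eb098ac3602f96eba5c2d5665842a694aaa55aa14c9f512813a9b482552c9348a291a8b44218de7a3fa00fa7b3a1dcea723818cd06b34998c85d30178b6591610498512913c9a462491c88421b8f07a3a1c0c46832178b42c211309c48220d87838190b8281e12080341604038140400) u5)) (r0 (pk61d (nat_lit 9) 
    (nat_lit 0x596c963b1586c15fae56aaf56aa5469f4ca5d2a8f45a15067f3c9d4de6d359a4c65f2c95ca64d2490c823f1d8d4622b148943e1b0a84c220f0681c05fcfd7dbe1ecf3793c5dcec74ba1cce370b79badc6db61acd3693419acb6431d8cc460afd78bb5cad968b1582bd5cad562a54ea451a853c9c4ca612e944923d1c8c44a1d088341204fc7c3c9e0ec73389b8da6c3519cca623097cb85a2b958aa54299409c4b251208a43200fc7c3b1c8d86a33180b8562a148a04a231007c3a1a0c0542813088381809040180601) u5))))))) (_root_.Cfsg.Agent.H440.J4P.DuadTab.Tr.nil) (nat_lit 9) (nat_lit 358)) : Tr)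
    = ?xq9009 → (Tr)) ?hq9009; (case hq9009 => (set_option maxRecDepth 1000000 in conv => lhs; reduce)); intro _; exact ?xq9009 : Tr)

/-- part of the tree -/
noncomputable def D1001 : Tr :=
  (by
  refine (?fq9010 : ((pk61r (fun r0 j => pk61f j fun i1 => (pk61f (pk61d (nat_lit 8) 
    (nat_lit 0xb1b0afaeadacab0000aa00a90000a8a700a60000a500a40000a3a2a10000a0009f00009e9d009c00009b009a0000999897960000950094000093920091000090008f00008e8d8c00008b008a00008988008700008600850000848382818000007f007e00007d7c007b00007a007900007877760000750074000073720071000070006f00006e6d6c6b00006a006900006867006600006500640000636261006000005f005e00005d5c005b00005a0059000058575655545300005200510000504f004e00004d004c00004b4a4900004800470000464500440000430042000041403f3e00003d003c00003b3a003900003800370000363534003300003200310000302f002e00002d002c00002b2a2928270000260025000024230022000021002000001f1e1d00001c001b00001a1900180000170016000015141312000011001000000f0e000d00000c000b00000a09080007000006000500000403000200000100000000) i1) fun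 u5 => (pk61f (pk61d (nat_lit 1) 
    (nat_lit 0x1fca694e534a794d29ca694f94d29ca694f29a53a534a7e534a729a53ca694e94d29f29a5394d29e534a74a694) i1) fun t1_0 => (pk61c (Nat.div t1_0 (nat_lit 1)) _root_.Cfsg.Agent.H440.J4P.DuadTab.Tr.nil fun _ => (_root_.Cfsg.Agent.H440.J4P.DuadTab.Tr.node (pk61d (nat_lit 192) (Nat.add (Nat.add 
    (nat_lit 0xa8388018301098b8705828206050080040b08070685888a848a09860905078b8383028100820180040b080a0781838a898704860082868b8883050209010580040b08020489028a868107860583898b8503088a01870080040b08010980850a878206860188848b82830387058a0900040b0780080288898a8704810581868b838309020506008a040b0789068a08848a8589860705080b8303800201810082840b0782898008880a8306850386048b85870a0201018089040b070a09860488030a80890380088b8587828201810685040b07080984860a058a86888785090b8303828101820080040b06818809030984808a860580078b838882820a010705040b068a0789088489800a820280880b8383058601810507040b070109888902078a80048580860b83830288018a0506840b068884890a0788070a858605098b8381820283010080040b06830989018807850a82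8207048b838a060588810000840b0603808908880507020a8287848b8a03058681018980040b060a098487080108828a8201890b8383068585078080040b06098a0704880789058a8685088b8083020281810380040b0600838889080184868a8581070b8983028207850a00040b058a09808881830386068a85048b8707820288010900040b038a09890502830586860708800b8a87880182010084840b050a0302080887808006058a848b8289838901810706840b058a00090108070782820a85048b8303868601888089840b058a01080009078702028a85048b8383060680898188840b050a0989028381068701858a848b8803088206078000840b050a0909838281870681058a848b8882080307860080040b048a080607098688878905850a8b8380810201828300040b050a0203088806000087858a848b8389028981018687040b048a098706080789068885850a8b8201008380030281840b048a078889068986080705850a8b8183028003810082040b048a068908878807098605850a8b8002830182008103840b03068909818803858a060702048b878a828508810080040b038086090888070786898305018b8a85828004810a02040b03898a090285078706808588020b8a83088480010601840b0386008908088583068a0782848b8a87050201810980040b030a05020888058386860789810b870a808901848280040b030882050a08078701860589028b838a848986808100040b0289098a0503800706860588830b88048a8201808107840b030189890688070788860385008b858a81020a028480040b028a09890385078705820688008b88810a8601830480040b0287898008088a0702058603848b85030a8681810089040b028009878888090706068205010b83808a858184830a0)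 (Nat.shiftLeft 
    (nat_lit 0x388078182068980040b0a89070a0083078985860681038b8488028201850880040b0a8882810a06058706880780820b8383098481890500040b0a868705888802098a000903810b8503028781848086040b0a87898905860a0183880882008b8683028507010480040b0a8705868888008a09030982818b8386050204810780040b0a86098907858882810a0803000b8385070201868084840b0a8589890607880706888a05048b8102018302838000840b0a850188890003870206058a048b8783028689808108040b0a8586870888078909860a05048b8280038081018203040b0a8587068808860989078a05048b8380828001810302040b0a850980810806828783058a048b8206070381888900040b0a850801008987830682858a048b8387060200090881840b0a84888389830180868605850a0b8908020287810700040b0a850009088182060387058a048b8682830788010089840b0a84898308838081860685850a0b8809028207000781040b0a84828802090787000105850a0b8303898881860086840b0a84820902880707810005850a0b8383088980868186040b0a0a80890307078801838585048b8608828106820980040b0a8109850088078704800389068b85830182028a0886040b0a8284890208078506830187098b81060a0885838080040b0a8309838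884878286850006080b890a070081810205840b0a8202890488050703860087888b8680098a01810583040b0a8185090880008486860289870b810305820a038788040b0a0a89800682028108860585048b8381878803070089040b0a8089810508048186860208878b8380028587090a03040b0a8001890885078701048308060b838582808986820a040b0a0a86028881000206898585048b8083090701880387840b0a0a83878188090703008585048b8986800208810602840b0907898a86058a0486888805070b8383000200810182840b09838a830884868707808582080b8a09028501810600040b098a0a820006848708060103078b8385028901858088840b09860a8905878807048a0885068b8083028201800381040b09808a850108078706838009048b8602028301888a05840b090a030a8700878886848182060b8389828505810800040b088a01060a82878486890003870b8503080201898085840b0902820a8488000606870583088b83850a0981810087840b0900050a8881828706860089848b838207830801058a040b088685870a8807890a048985060b8381828203000081040b088309848a83878601870582890b880a050206810080040b058a08818980838306860a85048b8787028209000801040b070209890881038a85060306848b8785828a01880000840b078a048908868) (nat_lit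 8000))) (Nat.shiftLeft (Nat.add 
    (nat_lit 0xb800a808388890307848586068507040988020281810a0b0b800a0a898483070588068387828904060885020181008b0b800903830a888086870784858506040a0981020182880b0b80088300890a838586068707850484080a02810182098b0b8007080089060a078a818885828484030385020681098b0b8008050489010a87828686018a0984020307038588808b0b8008070187888a890a008604828584038305020981068b0b8008028980820a868507860587048401030a088183890b0b80078889808a068a87080183050484038582028601090b0b800609070a00880189868a85850384048302028781088b0b80068a0980888788038a8586010484070182820305090b0b80060a008907080208850a81068484038301878285898b0b800604888389880780858a86810a04090302820185070b0b800603898488880287010a850589040a0307818206808b0b80010a09098382078705850686048408828308018a808b0b80030881028a080587068607848504038a89008189820b0b800483880608898787068901820a840a0082850581030b0b80050709890882878a0581068a8084038208030186048b0b800386098488088783018a058509040a8702810682008b0b80030a028108880783818605808204070a89848689050b0b8002870909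8885018a06820588048403810a860783008b0b800307890985880a01838608850484068a81020702808b0b80030589890788088687060a020084018a82850381048b0b80020a0989038101870682858300840885060a8788048b0b80018a048908858603830788050984070682028a81008b040b0a8a07090300800986820584850b8108828601838807840b0a8a09820680010288860485058b80830709018783880b80008a0608070906888789858203040384828501810a8b040b0a8a09868002030709008584850b8387818802810608840b0a8a09800206878188038505848b8601028887030089040b0a8a07838188098206800505848b8903008708810286040b0a8a03090087078803818485058b8689800206010882840b0a8a06010882820006898485058b8381880783090087040b0a8a03818788088102860584850b8980068209070083040b0a8a02860881008703090505848b8006898201880783840b0a8a01878388090700830485058b8886028109820680040b088180090a85078703060108048b828683820a058089840b0a8389848883020705060106890b8a08018782858080040b0a8589098786088687080a05048b8183010203828080040b0a880183878a088706858600030b8904828209810085040b0a898a068200078589060701828b8383048885010088040b0a8a00890703028881060505848b8)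 (Nat.shiftLeft (Nat.add 
    (nat_lit 0x78386818301048407058a0886050b090b808a8109098787088806068283048403850582018a0b000b808a800802820987858486070506840303890881810b0a0b80888509848a8187870386010a09040682830208058b000b80890a020a848680070806010508840183028983858b078b8089828a820008048606870585078401830a0903810b088b80888a07058a8287898680090501040381880203048b060b80888686010a8807800a09848385840503028201890b070b80878a098008868a850803018704840106028205838b090b80888380090a8307860507058684840a08018202810b098b8088020980028a86870785860504840381888a03010b090b8087898a0688800a870901058502840303848201860b080b808784828808890a85800607018a040383098205010b068b8082080381888a07870685860485040980028a89010b030b8085068989038801858a06070a80040882028307810b048b80868889800a0788010a86058384840503020281870b090b80870a00090608058a8288878184840383068105020b098b8086080009070a0108868a820504840303828581878b098b8085880984810a070786820a8189040383028605088b000b80830a098901828387068105820004078a880508860b048b808482878889080987068601030a840385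0a0001858b020b8083868909850803070a01058884840a87828182060b000b808287848908088a0102060585098403818a8683070b000b80820a0183888807810286058003040904868a89870b050b80800a0887898689060807058302040385028481810b0a8b80820589890886078687080a0300040385010a81828b048b808206090988858782810a080504840183070a83868b000b80818a090983028505868607078484020888038a810b000b80810a09848588060202878885090403038687018a8b000b800a8a020508860583868807890284070304898180810b0b800a8a098487030508820602878904038805868101808b0b800a8a068583880487098309028784088605020081018b0b800a898a0704830189068605810884008802820785038b0b800a8885020a060787018805898104038300890684828b0b80058884890a01830706068a810984038782820805008b0b80080a0586838a8087090609850184088302810482078b0b800a8104890508068207830588898402860387018a008b0b800a838089088301070286020184840a0806858507898b0b800a868989018603858a0807050084078301020882848b0b800a820980828807810683018384840506088a0587090b0b800a81890986860707888803820484058302850a01008b0b80098a0a8307048788868081850804038901020582860b0)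 (Nat.shiftLeft 
    (nat_lit 0x40b0a8a01028886078381880584850b87030900868982000b800a8707818888098a048300850684038602810902058b0b808782848908880a8186838505898406010a0207030b000b808a0a8489068202870885860389840503078801810b000b808a868106088802048a09000507040381828783098b058b808a89068a020487870981058188040383000885060b028b808a8a0489020687830805038609840587028881018b000b808a880305078a08810686058901840009828204870b038b808a8709890781088a0582868500040183060203880b048b808a81898488850206030705880904028683878a010b000b808a83000908838207018601028484080a050786858b098b808a82898002080) (nat_lit 8000))) (nat_lit 8000))) (nat_lit 16000))) u5) (pk61d (nat_lit 11) 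
    (nat_lit 0x354ed6dd9bdf7ef00e03bff7f6fadf9bef7cef8de5bd77b6f4de7bbf78ef0dddbb770ee7dd5baf74ee8dc9b9b72ee3dc5b736fee0dbdb776cedbdb5b636bec0d97b476a6d5da7b4b676d0d9fb37666c6d93b2b646c7d87b17626c2d83ad75debed7faf75e6b8d75ae75beb6d5facb5a6b3d63ac3566aed5baaf5567cd27a7b526a7d51a9b52ea1d47a8b5069fd33a734ee9bd35a5b4c697d2ba534468ed23a4b4868fd17a374668ad13a0b42e87d0da1341e7fd03a033f67dccd9c73be7acf79e73c674ced9d739e72cd99bf3866ecdb9a735e6acd199f2de61cc999731e62cbd9832fe5dcb99572c65acb395f2b652ca994f28e50) u5) (r0 (pk61d (nat_lit 9) 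
    (nat_lit 0x1650b9b52ead5bae566af50a9d469d4ca0d1a8f44a14ee7d3c9ccde412b984c65d2c92ca24d2390c5a371c8cc5e211388c3a18df7a3fe090581401f2fc7d3ddeaea77bc1daeb7239dcae270325a8d96d35daace68b3d98ca5eb098ac3602f96eba5c2d5665842a694aaa55aa14c9f512813a9b482552c9348a291a8b44218de7a3fa00fa7b3a1dcea723818cd06b34998c85d30178b6591610498512913c9a462491c88421b8f07a3a1c0c46832178b42c211309c48220d87838190b8281e12080341604038140400) u5)) (r0 (pk61d (nat_lit 9) 
    (nat_lit 0x2c762b0d82bf5eaed6ab155aa54a9f4da55269145a1d027f3d9d4e26b3499cca5f2d954a64f249147e3d1d8d4622b148943e1b0a84c220f0681c05fcfd7dbe1ecf3793c5dcec74ba1cce370b79badc6db61acd3693419acb6431d8cc460afd78bb5cad968b1582bd5cad562a54ea451a853c9c4ca612e944923d1c8c44a1d088341204fc7c3c9e0ec73389b8da6c3519cca623097cb85a2b958aa54299409c4b251208a43200fc7c3b1c8d86a33180b8562a148a04a231007c3a1a0c0542813088381809040180601) u5))))))) (_root_.Cfsg.Agent.H440.J4P.DuadTab.Tr.nil) (nat_lit 9) (nat_lit 356)) : Tr)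
    = ?xq9010 → (Tr)) ?hq9010; (case hq9010 => (set_option maxRecDepth 1000000 in conv => lhs; reduce)); intro _; exact ?xq9010 : Tr)

/-- part of the tree -/
noncomputable def D100 : Tr := .node (nat_lit 1586145091533697463704608157605166894956416148468619282488) (nat_lit 1615) D1000 D1001

/-- part of the tree -/
noncomputable def D1010 : Tr :=
  (by
  refine (?fq9011 : ((pk61r (fun r0 j => pk61f j fun i1 => (pk61f (pk61d (nat_lit 8) 
    (nat_lit 0xb2b1b0afaeadac0000ab00aa0000a9a800a70000a600a50000a4a3a20000a100a000009f9e009d00009c009b00009a9998970000960095000094930092000091009000008f8e8d008c00008b008a00008988008700008600850000848382818000007f007e00007d7c007b00007a007900007877760000750074000073720071000070006f00006e6d6c6b00006a006900006867006600006500640000636261006000005f005e00005d5c005b00005a0059000058575655545300005200510000504f004e00004d004c00004b4a4900004800470000464500440000430042000041403f3e00003d003c00003b3a003900003800370000363534003300003200310000302f002e00002d002c00002b2a2928270000260025000024230022000021002000001f1e1d00001c001b00001a1900180000170016000015141312000011001000000f0e000d00000c000b00000a09080007000006000500000403000200000100000000)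 i1) fun u5 => (pk61f (pk61d (nat_lit 1) 
    (nat_lit 0x7f29a5394d29e534a74a694f94d29ca694f29a53a534a7e534a729a53ca694e94d29f29a5394d29e534a74a694) i1) fun t1_0 => (pk61c (Nat.div t1_0 (nat_lit 1)) _root_.Cfsg.Agent.H440.J4P.DuadTab.Tr.nil fun _ => (_root_.Cfsg.Agent.H440.J4P.DuadTab.Tr.node (pk61d (nat_lit 192) (Nat.add (Nat.add 
    (nat_lit 0x98506828207080409030605818b00008b81808a038208088585068607870484098283090b010a800b81810a088609870688078905838284050304820b0a80800b81800a058908848286870209850804030387860b01008a8b810a8a09868285030589060708020403878884800b00818b810a8884838a07880086860580098409018282030b07050b810a8a03090605878483888802070406898285008b01800b810a898a068502878709008588800403830801820b06048b810a87898907008a0883848185060406830002058b08028b810a86008688880583090a0785018403870280048b09820b810a0a83878884890583060702080409868285018b00800b810a81880383098487068586050784090882028a0b00800b810a8282090881800703860083048406850a09880b05878b810a8086068808870789098302848403858502018b0a000b810a8005090488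028603870589888406820783018b008a0b810907898a80870a0806818482058403830285060b08800b8109838a83018806858786070504840a090002088b00828b81090a030a8586078186880885008403898002070b04828b810905000a848802070686008a088403828307818b05898b810902028a888185060687058784840380098a080b00830b810483098889068787080600828a84018a0502038b05800b8106880189078a08808a860585030403848202898b07000b810789068a01880a8709808582048403038285088b06000b8108030981838a8786048705850684088a0280090b00820b8107098a060881878a80890385048405830202880b06800b81068a0789018809828a850006048403830700888b02058b81060a098708818309058a8680048400878282080b03850b8106848889098301870a8586000a0403880282078b00850b8106830989088487820a8005058804038a0087018b02860b8105898a008488078386068a80088407030282018b09050b810507898208880a070005860a818402830389048b00868b81028a03000888078082060583818405098a86848b07090b81038705890808808a0683098504840a860280018b07820b81038a0989020003070680858182840a878488850b06080b8103898a09000207858686070485040a830188028b00888b81038587090888060986878a0281840a808502048b03000b8103068909888483870a0085850804078a8002018b06028b81008a09858488030687038905088406078202818b0a800b810207898508088a008286058904840003068a818b07038b81018a078806890986088705828384048305020a8b00800b81000a03028808878705058606848402098903818b008a8b808a8a0587088282090684898386040503080781800b010)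 (Nat.shiftLeft 
    (nat_lit 0x3830a8b060081078b820109098a000385068706058784840803008b018a82888b82008a0381888807828106058300040985070b09068a848b82000a0989010382870681858083040804878b0608850a8b820086098908858781028a080485040380068b01870a830b82008589098886078706880a0003040184828b03810a850b818a8a098205878802848608830684038507090b0000810b818a8a070905038789858206888304080482860b0081000b818a838983010807828680800204840a0907050b0886058b818a880284860a0787000885808904038309810b0205068b818a89070a03850009868605880084088102820b0304878b818a87870008880a09820586050104038082868b0483090b818a86098900068482880a01050784008307020b0583888b818a80898508848682878385890804060207030b010a000b818a820289088103070086038004840587898a0b0806850b818a81028889020587068487850604030389880b0a00800b818a80070788088909860682038484050302858b01008a0b818a0a860284880782058986830884038509070b0100800b81870209890488008a8306050588840006828a0b0107838b81888201090a8286848786058507040380880a0b0983000b8189850a80888487870683000a0804020602838b0109058b8189860a890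6800107088a04830584038502820b0780880b8189830a8381080687078505860484090a02808b0882000b818902820a8881078605870685048400830a098b0803800b81870a09860881050a838900878484068002820b0805830b81880a0486028a8781068900050984038088820b0703058b81878a068901080a85898207008484038300060b0885028b81870889810a06078a800805850204030382848b0900868b81870489880209058a868107808a04038302888b0605000b81838a0082088807830006058281040a8705090b0489868b818589000a0884870782860a808804038306820b0105098b818689078a010809800a8602850484030385820b0880870b8186098a0708810009068a85830484038502028b0800878b818506030908880580868a078a8104028983820b0487000b818482080907098788868600038a840503010a0b0280858b818289098a0300878705860684850401088a820b0388000b818306050908088783800a05898484070a80820b0102868b81828a09890083000706820581038404880a860b0508878b8182868985880882070a000905048403808a878b0103060b81828589868888060709078a03810405030a800b0480820b81088a07848a83898701860085090408030280068b05820b810a83098381880780068202808484090a0586088b05070b810a8a078388848) (nat_lit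 8000))) (Nat.shiftLeft (Nat.add 
    (nat_lit 0xb82820a05090588060100878889848403830b0a800706818b82818a09890300820706800583810405088b078a8488060b8281868985888800070a020904850401030b060a8380878b82818589868808878709060a01038404808b020a8503000b820a8a0006088500848689010807040283038b018587898b8280080103088a060506878587048403890b018209808a8b8280898a090301848687060585078403888b0108020a800b820a8a0981878588850006080701040382830b090480868b820a8a0689008487858981870108040303828b060508800b820a868987088380890a04858286040801850b030107800b820a898a05878188870683890503040604810b080280800b820a89048a008687838806030509840705800b018108828b820a86038907880880050a058682840981048b018300870b820a838608078908868709818004840a03028b058100850b8208060789038a8983068a008504840887028b018005810b82098a0a81858788030686088284840087050b090103800b820a818109088280870306000384840506880b0a0987858b820a8288000089878704850586068403830a0b010188890b820a800982808807830681038184840587090b0506088a0b820a0a8987818589048680880107040383028b088506000b8208870986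8a83878a0903058501840806028b048000810b820907838a86080a070308858104840986828b008501800b82088a05060a8007870309028984840106858b018380880b82088485830a880781860689828a040389050b070100800b82088182890a8107848686050587040003098b0a0800838b82068a0986030804808a89038507840588810b018287000b820785098108880a870482838a06840583060b000900818b82078a070908830a898581868503840488000b060100828b820789030a08870a880386048105840689828b018500800b820781080508898a830680058904840387018b028a00860b82070188090489830a8086058508840387810b0a0286800b820509058a028801070686098a83040384888b018780008b820600898889058187030a880504840386800b07810a028b820586088909808387048a0a8286840783050b018108000b820481898907080688878603800a840580828b0a0103050b82038a0081880885870486078506840a83028b090009810b81820709098488000a0682858508840083060a8b0103878b81898a0a8207858887010608050004008302890b0683848b818a8a028604880387050903068884078589820b0100008b8200880183888a07868705860504840903010b09828a800b82018883808a0806048687858507040983000b0a8109028b82028a0589050800068701898884840)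 (Nat.shiftLeft (Nat.add 
    (nat_lit 0x1068700890804840a8b0282000786018b83028a010008088784868586050704038b0a82008981890b83000882810a080586870607850484018b09820389008a8b8301080002888a0607048785850684008b0902018a83898b8301898a0902808786870505860484000b08820a8108038b83008a098902818107068385800204060b088488078a850b83000a010288880781838605820084068b09050709848a8b828a8a09850106848188060009078403820b03070880858b830007898905880a03818608848504070b02808681020a8b83000589098788088706860a008204038b01048182850a8b828a8a07058880850986810907800402030b03818608048b828a8a01848608058700888780090403038b02098106850b8289878a8308860a0703880585008406890b02018004810b828a83070806890609888780810484038a0b02018505800b828a868709030801098a050586020400088b04818780838b828a880186048a030706890385088405878b01098200800b828a86098308878801848a0582068400890b05070103800b828a838989058486818780888508040a030b02070006010b828a8089820008078186838103048406050b0907058a088b828a8201888901078705048586860403830b0a098800008b828a810189088203870006030084840785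8b08098a05068b828a0a80858887048801860900078403830b02068109850b82898a0a810506878708038208848406000b05818900830b828780848889080a8386818585098407030b0006010a020b828906830a870803888a060185048407898b02058000810b8289848a8905838087060688820a0408030b05018107800b8289808a800208048706860505878403810b0881830a090b82888a05870a80838906860982048407818b05030108000b8288070689030a878a09838580048406088b02008101850b82870509890880078a8204830a060403858b06818081080b82870a09838788088a80858605030409048b01018206800b8287080987838a090a86830480058408860b02018100850b82870009888905038a81060588048407830b008186820a0b8286818805888987808a838905048406030b010a0207000b820a83058488880086018709850904038a028b068007810b82810a00030888078200860581838404890b07050a86898b82830a090981808785868487050604038a8b02088008010b8285080209058a07800686088a838404830b09810180870b8285868881898807830a048a82060403870b05090100800b828480878908880986068703010a8401858b0203850a000b82838a0608890687078809858101840a830b02048500800b828189098a0083060705878685048403880b000a8108820)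 (Nat.shiftLeft 
    (nat_lit 0xb82030a080606898707888905800084038a828b018104850b82860a038908868184880a8305070409858b00078100820b828a8887008a05878983060805038404868b00018109020b83020a078889070988060685808004038b028a818105048b830601850889080087020a85898484010b02868a0387800b83060a098682080105890a87050284008b0488818783800b8306810988890487800a8205850804018b0286038a00870b8306098a0206880782888a84818584038b0709050100800b830605018908880384868a828a0704078b0582098081000b830481098908868786080702808a84038b0580018a05020b830587898800090a0486828a838704050b0602018100888b8305098a05888387870681890a8204080b0284860100008b83038a098588850) (nat_lit 8000))) (nat_lit 8000))) (nat_lit 16000))) u5) (pk61d (nat_lit 11) 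
    (nat_lit 0x1d73c4fa0f57ec7da7b5f67ecbd77b0f5feb7d67a6f53eabd47a7f47e97d27a2f43e57cdf9ef3fe77ce798f35e67cbf96f1fe4bca793f23e43c678ef1be2fc5773efde13c3f88f0de17c0f83f05e03bff79ef9df7bdf7aeedde3bbf75ee9da3b7771ee5dc3b7f6bedbdb3b5769ec5d97b3f66ec9d8faff61ec1d7baef2fe8dd47abf5aeb7d67ac754eadd57a9f52e99d3fa874ee9bd27a5f4ae91d1f9df41e89d17a1f42e7dd039ff3de79cd79c73ae73cdf9b732e69ccf98f30e33c939572de5dcb395f27e53ca393725e3fc8b91f21e41c738f71de37c6b87714e2fc638b715e23c4f89710e1fc2385f0de19c2b84f05e0fc1b82703) u5) (r0 (pk61d (nat_lit 9) 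
    (nat_lit 0x2ca1738a6d62bb5eadd66a555a9d429d43a45268d449ed027d3b9cc8a5b3299cc25d27954a24b238b46e3d1c8cc5e211388c3a18df7a3fe090581401f2fc7d3ddeaea77bc1daeb7239dcae270325a8d96d35daace68b3d98ca5eb098ac3602f96eba5c2d5665842a694aaa55aa14c9f512813a9b482552c9348a291a8b44218de7a3fa00fa7b3a1dcea723818cd06b34998c85d30178b6591610498512913c9a462491c88421b8f07a3a1c0c46832178b42c211309c48220d87838190b8281e12080341604038140400) u5)) (r0 (pk61d (nat_lit 9) 
    (nat_lit 0x596c963b1586c15fae56aaf56aa5469f4ca5d2a8f45a15067f3c9d4de6d359a4c65f2c95ca64d2490c823f1d8d4622b148943e1b0a84c220f0681c05fcfd7dbe1ecf3793c5dcec74ba1cce370b79badc6db61acd3693419acb6431d8cc460afd78bb5cad968b1582bd5cad562a54ea451a853c9c4ca612e944923d1c8c44a1d088341204fc7c3c9e0ec73389b8da6c3519cca623097cb85a2b958aa54299409c4b251208a43200fc7c3b1c8d86a33180b8562a148a04a231007c3a1a0c0542813088381809040180601) u5))))))) (_root_.Cfsg.Agent.H440.J4P.DuadTab.Tr.nil) (nat_lit 9) (nat_lit 358)) : Tr)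
    = ?xq9011 → (Tr)) ?hq9011; (case hq9011 => (set_option maxRecDepth 1000000 in conv => lhs; reduce)); intro _; exact ?xq9011 : Tr)

/-- part of the tree -/
noncomputable def D1011 : Tr :=
  (by
  refine (?fq9012 : ((pk61r (fun r0 j => pk61f j fun i1 => (pk61f (pk61d (nat_lit 8) 
    (nat_lit 0xb1b0afaeadacab0000aa00a90000a8a700a60000a500a40000a3a2a10000a0009f00009e9d009c00009b009a0000999897960000950094000093920091000090008f00008e8d8c00008b008a00008988008700008600850000848382818000007f007e00007d7c007b00007a007900007877760000750074000073720071000070006f00006e6d6c6b00006a006900006867006600006500640000636261006000005f005e00005d5c005b00005a0059000058575655545300005200510000504f004e00004d004c00004b4a4900004800470000464500440000430042000041403f3e00003d003c00003b3a003900003800370000363534003300003200310000302f002e00002d002c00002b2a2928270000260025000024230022000021002000001f1e1d00001c001b00001a1900180000170016000015141312000011001000000f0e000d00000c000b00000a09080007000006000500000403000200000100000000) i1) fun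 u5 => (pk61f (pk61d (nat_lit 1) 
    (nat_lit 0x1fca694e534a794d29ca694f94d29ca694f29a53a534a7e534a729a53ca694e94d29f29a5394d29e534a74a694) i1) fun t1_0 => (pk61c (Nat.div t1_0 (nat_lit 1)) _root_.Cfsg.Agent.H440.J4P.DuadTab.Tr.nil fun _ => (_root_.Cfsg.Agent.H440.J4P.DuadTab.Tr.node (pk61d (nat_lit 192) (Nat.add (Nat.add 
    (nat_lit 0x28a8006098504840b018782030a00868b83888689870a8202890a06058084840b030788018005010b838900008a888307870684850586040b0802818201098a0b83880a0685800a87870982890304840b050601018200888b83878a098287080a888481020506840b008905818603000b8386850989008804830a86020a07840b070285800108818b83868a0289088605800a88078502040b018984830100870b83868886090a0282070a89848085840b030807818105000b8386808809050987818a82858884840b00060207010a030b838600080488898107028a858509040b0086820187830a0b83820a0909800104870586068507840b03028a808801888b838480098608880687078902018a840b0301058502808a0b83850889830a0587870086080a82840b090482010186800b83830a0985088586000187880904840b0a8282068081070b83828a0807870989088606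858181040b030a82050480800b8381098a09020006058687870504840b008288818a83080b83818a0200888807800306058102840b0684898a8509070b83810a0989000200870683058281840b060508048a87888b83810705890888030a0680898485040b078182028a86000b83810587090808878986860a0182840b030480050a80820b830a82048588880681078009050984038b028a008701860b830a898a0487000788828602050904008b0685818103880b830a8a098704800109058606818884038b0202850780880b838009098a010207868704858506040b0182880308808a8b830a8a078085080987048001888684028b0382058109060b830a8a010905860780850808868184020b0283848987000b830a8706890288048a098005838784050b0881018200860b830a89058a01060287068809850204018b0784838880800b830a87898288860a05008805870384048b0901820106800b830a838088890005048686058787040a0b0282010189880b830a82888789860906870801008484038b0a02018585000b83088789860a828a07020900050484038b0806808101858b830a0a860905810007048988818684038b0282050800878b830a81098183880782068000828484088b0507090a05860b830a80838908800187020602810484098b058687850a080b8309860a8288878802068a05818484038b0907050000810b83090a010a86058787020888038484050b0006818980828b8308048205888a8707810609038a04050b0289818680800b83080a0785008a8982068603890484058b0187028108800b8308068709028a82098a0605850104038b0887808481800b8308010983818a8787048605058684090b0082088a02800b830780080905898a82068108850484008b02870186038a0)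 (Nat.shiftLeft 
    (nat_lit 0x6080281820680890b848a0a828601880082068905850b0400030987088107838b848a0a808902068281880605850b0403810788870309800b8488010009050a8607030781888b0403868282058a00898b848900050a81080786870380898b04060302820188858a0b84888189808a850602068781080b04038302870a0589000b848782808908088a87020503860b0405830a06818109800b84870209098188078a850283068b040385860a088100800b84858a00090881868287830a850b0402060703880100898b84858a09808108020603870a850b0406828307818889000b848603898008088503068a82878b040a070582018100890b84858a08010089838702060a850b0407830286800908818b84858a01888900078306828a850b0403870602098081080b84850a0706888807898906058a8b0402808380010183020b84850a0989078608870688058a8b0401820103038280008b84850a0909860788068708858a8b0401030182028380800b84850a0687080886090987858a8b0403800280818102030b848386098008880587020a07828b040a830506810180890b838a880006858a07820906088502840b008487018103098b8480898a0581080287068609000b040382078301888a850b84820709890188038a058606830b040785028a888100008b84828780890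8880a03068586038b0405070a82010189800b84818880090a058782068608010b04028303870a8500898b8481080980858a0787030608818b0402868382050a89000b838a8a0509070187888104808986040b020283080685800b848009058a08818787068389808b04060202830801050a8b838a8a0586800801870905098600840b028302078104888b838a8a0481088788000685860089840b030202818905070b838a8887810a0489870682028508040b018586030900800b838a818981030807808682820004840b0886058a0907050b838a830801018984850686058707840b0a0282088900008b838a87820906080a048108858307040b050009818680828b838a8709868882050a0901858783040b048088060102800b838a828989048580060107080508840b030a02008681878b838a820886898706080907800184840b03028a050100858b8389870a820886878a0802810504840b030609008581800b838a800309088082870106018204840b0987850586880a0b838a0a8580068807810884898086040b030282018705090b83890a018a870502888686030804840b058780898102000b838906020a87880882868a058500040b030709808101848b83808882018a0806070507858684840b01028989030a800b83858701080889048a02060a8307840b050286818980800b838701058889080) (nat_lit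 8000))) (Nat.shiftLeft (Nat.add 
    (nat_lit 0xb850a0a8981068282000886058b048400830807818903870b850a0a8602088001028689858b048403818709030780880b850a0a8189038707880083058b048408860002098106828b8509860a8705880789048a088b068403818202830100800b85068884870a0807890a85860b098400830282018003810b8508070985860a848a0688890b078403038002018100828b85088685890a8788070a04898b060400830202818103800b850789098a06048a858688870b080403830281008201800b8507080684888a058a8986078b090403830002008101828b85058a08830983808186860a8b048408090202870107800b8506098a0904878807058a868b088403818282030000810b85058a09838883018086068a8b048409080282078007010b85058a02890208070780010a8b048403830988808601868b85058a02080289078701000a8b048403038889818680860b8500028989088707880606810b020403808a048185830a8b8503018608088907870689838b0084058a82800a0104820b85048a0706880886098907858b0a8401830102038280800b85048a0909878608868708058b0a8403808280018103020b85048a0687088807890986058b0a8401020183028380008b8503808988068907870886030b01840a85810204828a000b8501830609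088807078689808b0384048a01020a8285800b8502800889098707880686020b010401830a858384808a0b8502010887898809070686028b00040380858a818a03048b8501020987888809070606800b02840183048a038a80858b8500838989068807078886018b03040a04828005810a820b848a8589098283810706818a050b0408020883060780800b848a8a038788810902068085058b0409830007018806028b848a8a098003070288018605058b0403888781068200890b848a8a060281880007030985058b0400868902088103878b848a8a008906820781088385058b0406018288030709800b848a8589890382818687010a050b0408830802078600008b848a850980888187078282058a0b0403038686080109000b848a8583020888060080078a050b0403898289010187068b848a8582030808878000860a050b0402890389818106870b848a850881898087870202858a0b0403830606890008010b848a850108000903830686058a0b0407870282008981888b838904898a82858707868008030a040b050882018100860b8483068989088107858a0287020b04038a8605018800008b8486830909888103850a8602070b04078a0285818800800b8489808a8508818286870600090b040383078208010a058b848a0a878388810987030005850b0409068082018802860b848a0a898007030788810385850b040)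 (Nat.shiftLeft (Nat.add 
    (nat_lit 0x78080060b050a0408820803018107068b858a8482030888010687018b050a0403890289860780008b858a0a89818782088702808b05048403800688090106030b85888302048a88000706860b028904038a0509818081078b858a0a81090306000386880b05048407088280818982078b858a0a83868008030109060b05048409878182028700888b8589838a890284878106860b0208040a030885000700818b858902898a8483878701860b03088408050a02068081000b85870103890888018a86848b00860409828302078a05000b8588020483088a878706808b0389840509028a000106018b858780098903080a8084860b018684020882838501070a0b8586818982888804870a810b000784020309038a0600850b858600898908820784800a8b0107040382830801850a068b8582080509028a068707808b0983840483088a818106000b85848a08008109878286830b050a8403860702000889018b85850a02880209018086860b0a848403038988878107000b85850a08838983078700010b0a848409080202818600868b85850a02090288008186068b0a848403830889870007810b85848a09810088068307828b050a8402070603818908800b8583898a030885068107860b0802040a890284818700800b85848a01890880038602070b050a840782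8306898100880b85848a00088901820703860b050a8406830287880081098b85830889850a03800606870b090284080a8482018100878b858289020a0508078601870b08830403848a89868100800b850a8a0982868100020886048b058403818907030800878b85810703888908078a00050b06008409830282018a84868b8581868802888985008a060b078004038309020a8107048b858086098889020185068a0b0701040383028807848a800b858007880903098a0705010b068184038882820486008a8b850a8a0087830809070183848b058406088002068109828b850a8a0600088202810689848b058400830788018703890b850a8a0389018707880300848b058409868281088206000b850a8589870608078906888a0b048400028301820081038b850a8588060709868887890a0b048401830280038100820b85048a0989060788070688858b0a8402800380810182030b850907868a88858a048986080b070403038281018200800b850a848008010907870282058b0a0403830686008881898b850a848981888083830606858b0a0407870202890108000b850a8586890887880709860a0b048402010083800302818b850a848880898183038686058b0a0407078282080009010b850a848109000807078202858b0a0403038606818980888b850a0a8307808809070381858b048406898281060208800)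 (Nat.shiftLeft 
    (nat_lit 0xb848a850009010803038606858a0b0407078202818880898b850a8587888906898608070a0b048403808102018283000b85850a09830883870781000b0a848408090282008681860b858a0a87028880878981820b05048401030906068388000b858a8506888907880609870b0a048400030281820100838b858a8509860708078886890b0a048402008103800283018b858a8a00828887000806838b04850406030901018209878b858a8508070609868907888b0a048403810082018302800b858a8507890886898708060b0a048401828300038081020b858a8483020808818706810b050a0402898389078600800b858a8489890283860000878b050a0408030882010186870b858a84890983828) (nat_lit 8000))) (nat_lit 8000))) (nat_lit 16000))) u5) (pk61d (nat_lit 12) 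
    (nat_lit 0x81083d85385e86486786886686586186386286085f85985c85d85b85a85685885785585484884e85185285084f84b84d84c84a84984384684784584484084284183f83e82783283883b83c83a83983583783683483382d83083182f82e82a82c82b82982881c82282582682482381f82182081e81d81681981b81a8188178138158148128117e37fa80580b80e80f80d80c80880a8098078068008038048028017fd7ff7fe7fc7fb7ef7f57f87f97f77f67f27f47f37f17f07e97ec7ee7ed7eb7ea7e67e87e77e57e47cd7d87de7e17e27e07df7db7dd7dc7da7d97d37d67d77d57d47d07d27d17cf7ce7c27c87cb7cc7ca7c97c57c77c67c47c37bc7bf7c17c07be7bd7b97bb7ba7b87b7) u5) (r0 (pk61d (nat_lit 9) 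
    (nat_lit 0x1650b9b52ead5bae566af50a9d469d4ca0d1a8f44a14ee7d3c9ccde412b984c65d2c92ca24d2390c5a371c8cc5e211388c3a18df7a3fe090581401f2fc7d3ddeaea77bc1daeb7239dcae270325a8d96d35daace68b3d98ca5eb098ac3602f96eba5c2d5665842a694aaa55aa14c9f512813a9b482552c9348a291a8b44218de7a3fa00fa7b3a1dcea723818cd06b34998c85d30178b6591610498512913c9a462491c88421b8f07a3a1c0c46832178b42c211309c48220d87838190b8281e12080341604038140400) u5)) (r0 (pk61d (nat_lit 9) 
    (nat_lit 0x2c762b0d82bf5eaed6ab155aa54a9f4da55269145a1d027f3d9d4e26b3499cca5f2d954a64f249147e3d1d8d4622b148943e1b0a84c220f0681c05fcfd7dbe1ecf3793c5dcec74ba1cce370b79badc6db61acd3693419acb6431d8cc460afd78bb5cad968b1582bd5cad562a54ea451a853c9c4ca612e944923d1c8c44a1d088341204fc7c3c9e0ec73389b8da6c3519cca623097cb85a2b958aa54299409c4b251208a43200fc7c3b1c8d86a33180b8562a148a04a231007c3a1a0c0542813088381809040180601) u5))))))) (_root_.Cfsg.Agent.H440.J4P.DuadTab.Tr.nil) (nat_lit 9) (nat_lit 356)) : Tr)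
    = ?xq9012 → (Tr)) ?hq9012; (case hq9012 => (set_option maxRecDepth 1000000 in conv => lhs; reduce)); intro _; exact ?xq9012 : Tr)

/-- part of the tree -/
noncomputable def D101 : Tr := .node (nat_lit 4516306497635284048345272918105436554179765796429303384168) (nat_lit 1974) D1010 D1011

/-- part of the tree -/
noncomputable def D10 : Tr := .node (nat_lit 4512496210640090238500574610043371720588751319958807425048) (nat_lit 1794) D100 D101

/-- part of the tree -/
noncomputable def D1100 : Tr :=
  (by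
  refine (?fq9013 : ((pk61r (fun r0 j => pk61f j fun i1 => (pk61f (pk61d (nat_lit 8) 
    (nat_lit 0xb2b1b0afaeadac0000ab00aa0000a9a800a70000a600a50000a4a3a20000a100a000009f9e009d00009c009b00009a9998970000960095000094930092000091009000008f8e8d008c00008b008a00008988008700008600850000848382818000007f007e00007d7c007b00007a007900007877760000750074000073720071000070006f00006e6d6c6b00006a006900006867006600006500640000636261006000005f005e00005d5c005b00005a0059000058575655545300005200510000504f004e00004d004c00004b4a4900004800470000464500440000430042000041403f3e00003d003c00003b3a003900003800370000363534003300003200310000302f002e00002d002c00002b2a2928270000260025000024230022000021002000001f1e1d00001c001b00001a1900180000170016000015141312000011001000000f0e000d00000c000b00000a09080007000006000500000403000200000100000000) i1) fun u5 => (pk61f (pk61d (nat_lit 1) 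
    (nat_lit 0x7f29a5394d29e534a74a694f94d29ca694f29a53a534a7e534a729a53ca694e94d29f29a5394d29e534a74a694) i1) fun t1_0 => (pk61c (Nat.div t1_0 (nat_lit 1)) _root_.Cfsg.Agent.H440.J4P.DuadTab.Tr.nil fun _ => (_root_.Cfsg.Agent.H440.J4P.DuadTab.Tr.node (pk61d (nat_lit 192) (Nat.add (Nat.add 
    (nat_lit 0x687078b0083898405000882090105830b86800a0987888089030b0501060484018702820385880a8b8680838988050900020b06058884840a03010701828a878b860a8a058901030786870b0980838404880281820885000b860a8a050208800707868b0389808405830109018284880b860a87888289830a07068b0105018402080903848580800b860a89010a05830285008b0887048403880782018986800b860a8882050a000385818b0709048407830289868100880b860a8709858508078a068b0908848402800381008201830b860a868909818007870a0b0582028403830485088081080b8609818a8900068780880b05830484028503820a0107088b860a81898906800583888b07850104070300820a0482880b860a82078903880981048b058286840880050a018700830b860a81068088880482098b0185078403800287058a09030b860a0a850008820787068b0089838404818288030105890b86080a0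281848a8501038b0587888406830982090700800b860900098a86818781088b05850384048202830807008a0b86088a00020a850480830b0588078403868289018107098b8608058987050a8489068b0a08878403830280810182000b8608020389078a8887028b008485040983068a018105800b860301850908880102868b04898584008a87020a0783800b860501830908088487000b010a8784038982820a0580868b86070a08818981078a868b0305028403858482090800008b86078a098905048a87068b0588880403038001820081028b86068a0802030987870a8b0100048402888389018580850b860582098908808783050b0a8682840387048a018008010b86030a098206880084888b02850704010a8589018387800b860489098a05078805868b07088a8400028302018100838b860389068a08828307098b058500040a878802018081048b8603098a0682080387090b05818484078a8288850081000b860305018889080785820b070a0284038a8486898100800b86000a070900880289858b06810484038307818205088a8b860183050808890281068b05898484038a07800a8700820b86028a068908838005898b0705030408048a81820100878b8602080983068a0287088b008504840389078a800105818b86010a098188870388050b0006848407808282090a83058b860082088909858380068b080504840781028a01830a870b860003888489880200868b058509040a0301878281070a8b860009008a07080788810b05058384048302820186898a8b860004898388880187050b01068a04090302028785808a8b858a8a09878182090103060b04850403868008088700828b858a8a06090301078201898b04850400888287068803800)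 (Nat.shiftLeft 
    (nat_lit 0x682820a8905038b87018489890208050b000600878a04030382888a8105868b87018209880489078b0381058508840680028a0a8600830b868a8a0981050287078b060308818403858800048900820b87008a06090008050b0209818784840383010685828a888b87000288890985078b03008588048401868a020381060a8b868a8a0209048087860b070183088401050289858388000b868a8a0003858806070b078881830409048082050102898b868a828309070800088b048582060401098a05018380878b868a87850908858a070b060809848401020003008381828b868a880583800a05020b018987848409030287060100888b868a8708838982078a0b060005008409028308018104858b868a860081080887870b0a0582820403830504800909818b868a800989060182848b0880850704010307820803858a0b868a820983888701880b05058602840900848a078103000b868a808601088803058b09870500040387828182090a048b868a0a8982850107870b060188830400848902058803800b86898a0a85010281848b038589070406030802078880800b8684880507088a05890b0607898a8402010283818300800b8688010600888a80070b098585030402848382018a09078b868902870a830807898b020184850403888a06058100800b868905850a888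788048b060a09870403830182028100008b868901898a860000870b0882850484038205830a0107880b86888081060a8801870b09058384840502028307898a000b86860a0388890287870b0a8001048409820803018500858b86878a088009808a870b060385020405830284810188090b86870a05048888078a8b060589890403038081000202818b8685828981888803870b050a86020407830a04890000810b8685008909838807848b01000a87040883028201860a058b868289060a088387820b098185048408030a87058081000b8683850809008985870b02878a02040a830604818108800b86838a0609088284818b09820507840a800805870100830b86838882890a0607830b08058084840a870982000105018b8683808989050802000b06048885840a81828783010a070b8683080982060a07838b0885850104070a8289000480818b86810a0189078808820b058600048403830087098a82850b86820a0983060805810b08878503840489008a818702800b8681828885898801030b060905048400070a020a8780838b8681080789018a09870b000505830403848282088a80860b8681048989088307808b0500060a0403880202818a87058b8608008681088a8781898b020504840283038587090a000b860a82898788830900850b0586820401880a04838107000b860a8a048182880) (nat_lit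 8000))) (Nat.shiftLeft (Nat.add 
    (nat_lit 0xb87818a010906880b05088280870484038306000a8985820b878102088509880b070183858904840600828a068a83000b8780898a0008868b018806050582840383048207010a890b878084828908880b05068101870a040303898205860a800b870a89018a0503800b02058608848408030286898100878b870a8a09830004868b07860102080403890185028580888b878003098805890b07008288850484038a06018201068a8b870a8a02808885860b06878801020400030984818509038b870a8a01890385078b06068208010408808285898483000b870a8682880309078b0a060085000402088983818105848b870a8882858a00810b03050906048403868982018788000b870a87818008088a0b06860583830405048282098081090b870a8609850588078b068a0889048400820183028003810b870a8389820886848b0800858307840a050189028106000b87078a080283898a8b06860081848408820903050105800b8709858a850608078b04888a09068401030282018380008b870a8001878888090b058206850084038102860983048a0b870a8089890107880b0483800506840603018202888a058b870a0a83890185078b06860108020409830004888580828b87098a0a848003020b05008586890403880287818106088b87090a050a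8381828b04810589868408830782080600800b8709838a868882030b0906010485040a078288018580800b8709810a890087880b06800385048405820283018a08860b87088180078a88090b068085850204028303848a0106098b8708000781888a898b068105828484038205030906008a0b8703898a078288090b0306010504840a868882000580818b87058381090888050b06828a8783040a048602008981800b87068a04850888078b0a860589098400018202830081038b87060a00880009078b068a8285030403848582010189888b87050009098882818b0486008a8684038308020781058a0b87048886850a08078b098586090a8403828301820100800b8702880983878a088b02060580048409030a86818081050b87030a02090887880b018586050284000a8489868100838b87028a09878388090b01048305060408858a80818682000b87028509888900038b0685860a030407848a82018100880b87028009890885078b00830488058403860a810182068a0b8681030889098481828b0605850804038a0700878a82000b86890a048a820080050b030587098403860288818108078b868a898a01028505830b008788048403870882018906000b87010385880889078b0201898504840a030086860a82800b87018889860a01008b068905058204038302848a8807800b87018a09810886058b0308078084840)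 (Nat.shiftLeft (Nat.add 
    (nat_lit 0x78506068587048409808a820881030a0b8802008309010b07078685860504840009828a81888a038b8800050580888b06828786098a0184038307020481090a8b8800860987818b0907000a020504840382830588810a868b8801068987000b07890a018585030402048283860a80888b88000a0487820b0907008601850984010302888583868a8b8800070986810b008a090605828484020305038188878a8b878a8a030500880b0706068289000401898582038108848b8800028189038b078506860487058408830a010982008a8b878a8a098582018b0687060900028403810488880300850b878a8a010488838b0606870002890408030500818982058b878a898a0182058b0005038806848406030288890100870b87888a01038a848b0281850586080409030702068980800b878a83098608828b04818905838704050a0800868102000b878a86858908850b070a060988048402818380830002010b878a87090980810b0a06860583038404850282000808818b878a86038802090b07068a0185010409828308858480800b878a83860902080b050009858703040a048108818280868b878a0a808503080b0706860009028403888481018209858b878a81800708880b09030481050604038682808a0582098b878a81098900870b080285860501840003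0682048a08838b8789808a8901070b080186058502840382048306888a000b878901098a87008b0880060582048402830385018a08068b87868a010801890b070a860205038404830285888980008b87888001870a880b09010603050484028583820986808a0b87888586890a850b0709848a08060403800282010180830b87888309828a860b03868800048504070a0902018100858b87880a0300850a8b0200048588860403898287018109068b87870a030889020b0a86860180848402898388058105000b878501098208088b008684818a860403830289058a07000b87860a098904850b07068a8588088400810202800303818b878583098900080b0502060a870384048a0286808101888b8784898a0906050b07058886880a8402030083818102800b87838a098702880b090580868502040a810884818306000b870a8302890688050b088105878384048a0980018600820b878082848808890b0700030585098401060a0201838a868b878201098508880b070381848905840683000a860a00828b87820a030908870b080480038506840589818a828100860b8782898a0703880b0906820585008408830a86000104818b878209070a08830b098682858104840388060a800500818b878205080108898b030586068a03840487028a818900800b87808a098688800b058903870184840601028205030a880)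 (Nat.shiftLeft 
    (nat_lit 0xb87020883090a07880b0286058501840389868a848081000b87830882090a070b08068380050484060a8289818081058b878a880503008a0b0105828689848403890602018708800b88018a0587030b0789068109850004038880820a8602848b88030a0705818b0209868609038484050a8087888102800b8805028983048b06000687838a888405890a02018100870b8805808005088b078706820a8901840303828604810a098b8804868589060b05070a0889878a8403810282000300818b88038a0605010b07870289830904840a858680018880820b8803010209008b0707848605850684038a8189828a08800b8803068783888b09820a0605058104090a8287018480800b8803048985028b0787010603890a04058a8882008681800b8802800389018b0) (nat_lit 8000))) (nat_lit 8000))) (nat_lit 16000))) u5) (pk61d (nat_lit 12) 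
    (nat_lit 0x8c38f090791291891b91c91a91991591791691491390d91091190f90e90a90c90b9099088fc9029059069049038ff9019008fe8fd8f68f98fb8fa8f88f78f38f58f48f28f18da8e58eb8ee8ef8ed8ec8e88ea8e98e78e68e08e38e48e28e18dd8df8de8dc8db8cf8d58d88d98d78d68d28d48d38d18d08c98cc8ce8cd8cb8ca8c68c88c78c58c48968ad8b88be8c18c28c08bf8bb8bd8bc8ba8b98b38b68b78b58b48b08b28b18af8ae8a28a88ab8ac8aa8a98a58a78a68a48a389c89f8a18a089e89d89989b89a89889788088b89189489589389288e89088f88d88c88688988a88888788388588488288187587b87e87f87d87c87887a87987787686f87287487387187086c86e86d86b86a) u5) (r0 (pk61d (nat_lit 9) 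
    (nat_lit 0x2ca1738a6d62bb5eadd66a555a9d429d43a45268d449ed027d3b9cc8a5b3299cc25d27954a24b238b46e3d1c8cc5e211388c3a18df7a3fe090581401f2fc7d3ddeaea77bc1daeb7239dcae270325a8d96d35daace68b3d98ca5eb098ac3602f96eba5c2d5665842a694aaa55aa14c9f512813a9b482552c9348a291a8b44218de7a3fa00fa7b3a1dcea723818cd06b34998c85d30178b6591610498512913c9a462491c88421b8f07a3a1c0c46832178b42c211309c48220d87838190b8281e12080341604038140400) u5)) (r0 (pk61d (nat_lit 9) 
    (nat_lit 0x596c963b1586c15fae56aaf56aa5469f4ca5d2a8f45a15067f3c9d4de6d359a4c65f2c95ca64d2490c823f1d8d4622b148943e1b0a84c220f0681c05fcfd7dbe1ecf3793c5dcec74ba1cce370b79badc6db61acd3693419acb6431d8cc460afd78bb5cad968b1582bd5cad562a54ea451a853c9c4ca612e944923d1c8c44a1d088341204fc7c3c9e0ec73389b8da6c3519cca623097cb85a2b958aa54299409c4b251208a43200fc7c3b1c8d86a33180b8562a148a04a231007c3a1a0c0542813088381809040180601) u5))))))) (_root_.Cfsg.Agent.H440.J4P.DuadTab.Tr.nil) (nat_lit 9) (nat_lit 358)) : Tr)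
    = ?xq9013 → (Tr)) ?hq9013; (case hq9013 => (set_option maxRecDepth 1000000 in conv => lhs; reduce)); intro _; exact ?xq9013 : Tr)

/-- part of the tree -/
noncomputable def D1101 : Tr :=
  (by
  refine (?fq9014 : ((pk61r (fun r0 j => pk61f j fun i1 => (pk61f (pk61d (nat_lit 8) 
    (nat_lit 0xb1b0afaeadacab0000aa00a90000a8a700a60000a500a40000a3a2a10000a0009f00009e9d009c00009b009a0000999897960000950094000093920091000090008f00008e8d8c00008b008a00008988008700008600850000848382818000007f007e00007d7c007b00007a007900007877760000750074000073720071000070006f00006e6d6c6b00006a006900006867006600006500640000636261006000005f005e00005d5c005b00005a0059000058575655545300005200510000504f004e00004d004c00004b4a4900004800470000464500440000430042000041403f3e00003d003c00003b3a003900003800370000363534003300003200310000302f002e00002d002c00002b2a2928270000260025000024230022000021002000001f1e1d00001c001b00001a1900180000170016000015141312000011001000000f0e000d00000c000b00000a09080007000006000500000403000200000100000000) i1) fun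 u5 => (pk61f (pk61d (nat_lit 1) 
    (nat_lit 0x1fca694e534a794d29ca694f94d29ca694f29a53a534a7e534a729a53ca694e94d29f29a5394d29e534a74a694) i1) fun t1_0 => (pk61c (Nat.div t1_0 (nat_lit 1)) _root_.Cfsg.Agent.H440.J4P.DuadTab.Tr.nil fun _ => (_root_.Cfsg.Agent.H440.J4P.DuadTab.Tr.node (pk61d (nat_lit 192) (Nat.add (Nat.add 
    (nat_lit 0x500020a8587880403890286818109870b88878001090b060a87018803048504038582820689808a0b88878306838b080a82898600050484090a0702010180858b88870206028b08038a8689858501840783090a048100008b88868387830b0809870a82058084840a090286010185000b88848709858b07880a068509060a8403830281820081000b88858005008b08030706860a898104038782028184890a0b88850382090b0486070087828a88040a030589818106800b88838089828b0107078506058684840a83090001880a020b88830009820b018587060687850484038a80890801028a0b88818706890b00810a098605850204038283048a8788000b88820702860b08078a0309050581840386898a848100800b88820a05868b0107870903098284840006050a818800838b88820485090b038781868602898a040803058a870000810b88820189830b0007848606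858507040109028a8a0380880b88808687090b0187898a00058384840502830208010a860b88810a06858b02018709860905008400030288078a84838b88808a06048b0307800689810509040388018202858a870b88808500058b0807860387090a01040683028201848a898b88808389810b0287870506048685840a01880203090a800b880a818205068b0787088005890084038301098a0284860b880a89098a088b028687030580818402060783848105000b880a8a0909888b038586800702010407830085018482860b880a8a0988890b018482860201070403800685878500830b880a8a0889098b078500830107020401860284838586800b880a898a09088b050705860687848400800202810183830b880a868502018b05838a000789848407030289088100860b880a8889890a0b070781800385028405830482068081060b880a878582810b0a0085030986848403860902018887000b880a838087048b07890206028508840a000586818109830b880a828107858b090706830885038404860a01820980800b88078a0200048b0a8300850586088403870289818106890b88098a0a89088b070782838005018406020683048100858b880a808384870b01088686058189040980028205078a030b880a0a8989088b078503008207010403868005818486028b88090a098a888b000600870383048405850282010186878b88088a09890a8b050706848587860402018083830002810b88060a0381050b0481828a8588878409830682070900800b8807028206088b030a86890580048403878a09810180850b8806830387888b09070a8285850104098a0602018480008b8806058689048b0507098a8a07888402830380818102000b8806020287088b0789038a808504840683098a010185800)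 (Nat.shiftLeft 
    (nat_lit 0x828301820003810b89080a098b088a868107818303848405058282060700008b890782098b02868a838806058104840703088a018500008b890682898b020788070a830185048403860a08858100008b89068a050b030000848a820589870403888286018107880b890685848b060807850a888a07098403820183028100800b890681870b088080098a8602848504038305820a0108078b890603898b03070788020a858500040a088286810180848b890384820b08850787068003080a040a858289808101860b890486068b05880785098a08870a8400030282018081038b890502048b088381068706030a89840805828a018780800b89038a008b078588828686080304840a850701820109800b890386098b07030288868a050580040a880782018100848b890281800b0388070785860685048408810a820a0300898b890380018b028807078684858506040a8308808981020a0b89030a000b06850787088203880484058a8106018280898b890201008b030805070606858784840188828a838a09800b890186808b088707880a0102850484020305838a8609800b888a8809890b0a008106068285038404830582000707818b890006010b08878807008a05850384048283020189868a8b890105098b058182060687088a008403830287880a84800b890107800b08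860a0186880582048403828305070a80898b890102030b008805070686048785840389800a018a88828b89008a038b058788070006088501040983028182048a868b888a8a08090b09878384810301868407058280850602000b888a8a09880b09020005060186830403848107858280870b888a8a09098b08008705828683018400050602048107838b888a898a090b08020687038580010406028307818480850b888a89098a0b08078586850706048403038000810182028b888a8004828b068787080185810984038309008605020a0b888a8386018b0582070689880502840a010487890300800b888a8703050b01008a02858609048403898682018807800b888a8603858b018205000a0907048409830287880100868b888a8286800b04878309860385080405870a00818102090b888a8105030b07008806860589800401890282038a07848b88890a098a8b08028386068085010407020783018485800b888a0a89890b08000205060306818400858287048103878b88898a0a890b08068007808282048403830585010186070b88880a09890b0a848706850586078400028301008201838b88878a01828b050a8381048588060407030902098680800b88800786090b010a00868983050484020582838188070a8b88828a05078b01890386860209848407008a85880103000b88860a00830b048) (nat_lit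 8000))) (Nat.shiftLeft (Nat.add 
    (nat_lit 0xb89890a0b0a8888078485060586870402010003808301828b89888a0b090a88010601870202848403830505868780008b8987828b0906820a8308860585008403870a08010184800b89870a0b050082030a84800589068403878288018108860b8985810b090501878386860a88800407030202880a00848b8987010b068008078a89008384850405830282018a06088b8987038b090603020a8688810504840a080287818580008b89868a0b04818381050a828587090408030602088780800b8986030b0907038788828a85818484080a0682050100008b8983810b00888287858606870504840a830801820a09000b8985030b04828807868701820a8904038a0885860100800b8984878b0708858a09050608068a8403830082000102818b8983018b0008820707868505860484038a81080a0280890b89828a0b000586078703880882048406810a85018300890b890a8a098b0808858301060782800403870501820680848b8981860b0087880887010a05830484020502838a8689000b8982808b010883848706068585078408000a8201890a030b8982848b0305080087068602088a0403890a85818007810b89820a0b00850703080686028884840187858a838109000b89818a0b0386848107088600050804090302808a8782058b8981070b00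0688018a08860385048405828302078a80890b8981850b09010586870783080a0004038602820a8880848b8981830b0208800787068504860584008a02890a8103880b8980878b0186080a000688858502840203048389010a870b89800a0b0286058780868888050184038109020483070a8b890a87000b0582018a03850886048406830288078100898b890a898a0b0888070781008305020403858284800686018b890a8a088b0988050703818007828406808482060103058b890a8a080b0889848086820280078401030586018387050b890a88898b0a08078506858607048401018202830380008b890a88098b088a060203878581808406828307050104800b890a82058b000707880386098503040684808a018102888b890a86008b05028305810a0708848403878802018689800b890a83048b01878807068282050984010a0605888380800b890a81878b03048980068605808804010882820a0385070b890a80860b028507870109858801840383088004868a020b88878589870b048a8906850a06080402800382018100830b89010a028b0487078806818085088403800982060a85830b890581898b0105078702860a880084030386820a0884800b89070a048b0281038a85018586898407830882060800800b89088a098b0a88070783020105008402868386018584800b89098a0a8b088807850486058706840)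 (Nat.shiftLeft (Nat.add 
    (nat_lit 0x78706068584850403830202880989088b8a098b0a890888048386818103078407050082060582800b8a090b098a8888010702848182060400030685058780838b8a060b030488808787068a8201890400098285850108038b8a078b048200080a8706860301098403858089018502888b8a080b0989088a878004820082868403810506018305870b8a070b01090482878a86860380088405830801820980850b8a068b0981838487870a860280880408810582090305000b8a058b03890780888106820a85048409800286018708030b8a058b09828006030701880a85048403878900868102088b8a058b07018308000982860a85048401088682090380878b8a058b01068882078389008a85048407030188028986000b8a050b0982008701080386058a848406830009018788828b8a018b030587080788828509060204038986848a8100800b8a048b028907010088830605850a8403868981820807800b8a050b0187888289000683058a848403860801098200870b8a050b0309068007828881858a848400898702060103880b8a048b098381868782080005850a8409010287088300860b8a048b078002080981868385850a8406030088870102890b8a030b050900068587080187898104038a8282060480888b8a048b008608830287010905850a840008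0782018689838b8a038b0106050807858089070880040a830282018986848b8a028b07818885098005860688008403830a82090104870b8a020b0985070081088685860901840383028a848788000b898a8a0b088908030700048380860405878182028105068b8a008b0789038589870502080682840883048601810a800b8a010b05820886850388060987830407048289018a80800b8a000b098605828305068908870384048788020181008a8b898a8a0b090808878182058603808405010286870304800b898a888b090a08060283078581000402068703818500848b898a8a0b080889010286850086038404830700018785820b898a890b0a0888000186068205030403848285870081078b898a880b09088a058705060786848403038181028200008b898a878b0003850a0185820688048408830286070100890b8982878b0902068a0708038505808406030a88818104800b8987058b048887880a85060a06890401020283018380800b898a0a8b090888028106850386008405818782030704800b898a820b04860103870688830509040785818a028800800b898a830b0586808782888609050204000a0704818108038b898a810b060482078700890580088403830188028a06850b898a800b0785038901868605888104080082820704830a0b89880a0b09088a830206068185000402878387058100848)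 (Nat.shiftLeft 
    (nat_lit 0xb890a0a898b0888050701838287800406030581068200848b898a868b00830585028a010807848403888702018609000b8a050b0601038802070089858a848408818287830906800b8a088b09890a88030480860003870405078281820106858b8a0a8b03020283878687060485058408098889018100008b8a0a8b08090889868707860505848400008101820283038b8a0a8b08890988038302820584850407870686018000810b8a0a8b07870606898908088505848402030283800100818b8a0a8b06860707880889890505848403828302018081000b8a0a8b00018100870786860584850403038282090888098b8a0a8b02030382860706878485058408890809810180800b8a0a8b010080018) (nat_lit 8000))) (nat_lit 8000))) (nat_lit 16000))) u5) (pk61d (nat_lit 12) 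
    (nat_lit 0x9779a49ba9c59cb9ce9cf9cd9cc9c89ca9c99c79c69c09c39c49c29c19bd9bf9be9bc9bb9af9b59b89b99b79b69b29b49b39b19b09aa9ad9ae9ac9ab9a79a99a89a69a598e99999f9a29a39a19a099c99e99d99b99a99499799899699599199399299098f98398998c98d98b98a98698898798598497d98098298197f97e97a97c97b97997894a96196c97297597697497396f97197096e96d96796a96b96996896496696596396295695c95f96095e95d95995b95a95895795095395595495295194d94f94e94c94b93493f94594894994794694294494394194093a93d93e93c93b93793993893693592992f93293393193092c92e92d92b92a92392692892792592492092292191f91e) u5) (r0 (pk61d (nat_lit 9) 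
    (nat_lit 0x1650b9b52ead5bae566af50a9d469d4ca0d1a8f44a14ee7d3c9ccde412b984c65d2c92ca24d2390c5a371c8cc5e211388c3a18df7a3fe090581401f2fc7d3ddeaea77bc1daeb7239dcae270325a8d96d35daace68b3d98ca5eb098ac3602f96eba5c2d5665842a694aaa55aa14c9f512813a9b482552c9348a291a8b44218de7a3fa00fa7b3a1dcea723818cd06b34998c85d30178b6591610498512913c9a462491c88421b8f07a3a1c0c46832178b42c211309c48220d87838190b8281e12080341604038140400) u5)) (r0 (pk61d (nat_lit 9) 
    (nat_lit 0x2c762b0d82bf5eaed6ab155aa54a9f4da55269145a1d027f3d9d4e26b3499cca5f2d954a64f249147e3d1d8d4622b148943e1b0a84c220f0681c05fcfd7dbe1ecf3793c5dcec74ba1cce370b79badc6db61acd3693419acb6431d8cc460afd78bb5cad968b1582bd5cad562a54ea451a853c9c4ca612e944923d1c8c44a1d088341204fc7c3c9e0ec73389b8da6c3519cca623097cb85a2b958aa54299409c4b251208a43200fc7c3b1c8d86a33180b8562a148a04a231007c3a1a0c0542813088381809040180601) u5))))))) (_root_.Cfsg.Agent.H440.J4P.DuadTab.Tr.nil) (nat_lit 9) (nat_lit 356)) : Tr)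
    = ?xq9014 → (Tr)) ?hq9014; (case hq9014 => (set_option maxRecDepth 1000000 in conv => lhs; reduce)); intro _; exact ?xq9014 : Tr)

/-- part of the tree -/
noncomputable def D110 : Tr := .node (nat_lit 4523962767060668381386038482356648238304342306222708400128) (nat_lit 2333) D1100 D1101

/-- part of the tree -/
noncomputable def D1110 : Tr :=
  (by
  refine (?fq9015 : ((pk61r (fun r0 j => pk61f j fun i1 => (pk61f (pk61d (nat_lit 8) 
    (nat_lit 0xb2b1b0afaeadac0000ab00aa0000a9a800a70000a600a50000a4a3a20000a100a000009f9e009d00009c009b00009a9998970000960095000094930092000091009000008f8e8d008c00008b008a00008988008700008600850000848382818000007f007e00007d7c007b00007a007900007877760000750074000073720071000070006f00006e6d6c6b00006a006900006867006600006500640000636261006000005f005e00005d5c005b00005a0059000058575655545300005200510000504f004e00004d004c00004b4a4900004800470000464500440000430042000041403f3e00003d003c00003b3a003900003800370000363534003300003200310000302f002e00002d002c00002b2a2928270000260025000024230022000021002000001f1e1d00001c001b00001a1900180000170016000015141312000011001000000f0e000d00000c000b00000a09080007000006000500000403000200000100000000)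 i1) fun u5 => (pk61f (pk61d (nat_lit 1) 
    (nat_lit 0x7f29a5394d29e534a74a694f94d29ca694f29a53a534a7e534a729a53ca694e94d29f29a5394d29e534a74a694) i1) fun t1_0 => (pk61c (Nat.div t1_0 (nat_lit 1)) _root_.Cfsg.Agent.H440.J4P.DuadTab.Tr.nil fun _ => (_root_.Cfsg.Agent.H440.J4P.DuadTab.Tr.node (pk61d (nat_lit 192) (Nat.add (Nat.add 
    (nat_lit 0x78687060584850401800100838282030b8a8b0a09890808860706878584850401008180028383020b8b00008585088807078283098904840206068381810a0a8b8a8b0a09888908038282030485058407860706818081000b8a8b0a09880889008180010505848403038282070607868b8a8b0a07068607880989088584850403820283018100008b8a8b0a08890988018081000505848403830202878687060b8a8b0a08090889820303828485058406870607800100818b8a8b0a06870786088909880584850402830382010180800b8a8b0a02830203878706068505848408090988818000810b8a8b0889890a08058183860780820406800284870105030b8a8b0a00010081878606870485058403828302080908898b8a8b0a01808100068707860485058402030283898889080b8a8b098a090888008586830701828401060482050387800b8a8b09098a0888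020705800681038404830187828500860b8a8b0705890200078a06860982818401030508848380880b8a8b080989088a078281058600030403848700818682050b8a8b07828105880a0706860882008403800985018904830b8a8b068985808307870a060903810405080182028488800b8a8b06018388858787068a0803000409050280898102048b8a8b04808387080288868005850a0409030781820109860b8a8b050609008287800389858a048406818802030108870b8a8b0583818886078102880a05048409830680890702000b8a8b0587090002030986808a05048401078288018386088b8a8b0581028788088381860a05048407000902068980830b8a8b050987838009028086058a048408830701018206880b8a8b04898602010781830905850a0400068288870800838b8a8b050301088702080681858a048403898007860900828b8a8b050182068801070883058a048400860289098783800b8a8b04878901830982010605850a0403880087088682800b8a8b04828008868087080385850a0406010982018307890b8a8b0107050883020984860389068405880287818a00800b8a8b0284868880008509060187098403830a02058107880b8a8b038704808807898500010689040a030282018588860b8a8b03018907848887010500060804038a0282098680858b8a8b020981048605018688008788840383028a070905800b8a8b01850682080784890302898704038605888a0100800b8a0a8b09890808810080018485058402830382060787068b8a8b008289050604870388020887840683098581810a000b8a8b00098387850882868483080604090587020181008a0b8a0a8b09888908078606870505848401810080038302820b8a0a8b09880889030382028584850407078606808101800)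 (Nat.shiftLeft 
    (nat_lit 0x38689848a8081000b8b01880703058a0789808608810484038902800a8506820b8b0187898086080a02850885868004038107020a8309048b8b0181098905058302860688088484020787038a8a00800b8b01838289000807870201008503040a0489868a8605888b8b0183098008820102868603850084058a07080a8784890b8b0180870889068609880783050384048582820a810a000b8b0180028803890507048605878684088209830a81008a0b8b010709868008028a09048580860403818782030a85088b8b010a04890287050803860307898406858882018a80008b8b010a05038608058206888789830409048287000a80818b8b010882068a05878009060801848403808289850a83070b8b01080603850a000706898188848409030082058a82878b8b01020089030807870381828500040688858a060a89848b8b0106000908878805038a0587008406830281820a84898b8b010289838880818306860005020409070a04878a88058b8b0101898905850707838208880484068283060a0a80800b8b010088838982878486850586070409020803018a8a000b8b008103080209078506848587060402898388818a0a800b8b0089058a078388870681898004840803010206028a850b8b008a0603088482070509828688040389058781018a800b8b008a09870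20507890583868802840603048880010a818b8b008a0389078588830486080286840987050201800a810b8b00898a05020707880186000904840381028886830a858b8b00838982888102000686030501840a05890784880a870b8b008706890881820a0985058601040003028788048a838b8b0086098187880884830a058107040386800209050a828b8b0083010902080787000281850384048a060885898a868b8b0081880607898886870903850304058482820a010a800b8b0009050a06830781088600898484038802818207058a8b8b000a068905030285898607088384048807820180810a8b8b00800505888802038606890984840702830781810a8a0b8b000a098285860784820808838704050309068081018a8b8b000a020784880905068303870884058602898101808a8b8b00098a0582860107068809008484018308820387850a8b8b000283890188078700830205010409860a058884868a8b8b0007810908860a02048805818684008302870509838a8b8b00068987010805090a0305878184038600820488828a8b8b00020981888303808686010502840788048a0905870a8b8b0001888209830487050605868784028803890a01008a8b8a8b0589868300800709020a05048403888186028108078b8a8b0a02038283070786860505848409080889808101800b8a8b0a090988880) (nat_lit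 8000))) (Nat.shiftLeft (Nat.add 
    (nat_lit 0xb8b03818009028807870102030500840a8588860a0684898b8b03808981088280020686018503040a84880705890a078b8b030a050906800480888601098784028a8382018587080b8b030a048088860587018807810984038a8202868509000b8b0302898504880707808005890884038a8a02010186860b8b030709890386018a058806820484088a8105078280800b8b030880848a060783868805828904070a8501018209800b8b03068387888809050a0002070484098a8085818102860b8b03038909870606888788018500840a0a8282058104800b8b0300820901080787028003850184058a868984888a060b8b0302088189800785850607068484038a828a090081080b8b0301898208800281068600850384048a87890a0705880b8b028a09800605878185088806808402030a83870104890b8b028a07090104800985860680880403038a82018885078b8b020a0685888100870985090601840382830a848807800b8b02838188000905070685860784840a030a82098081088b8b028881850a07880702060589030400048a86898100838b8b0289070a0481078986820583088400850a86018803800b8b0287898906820a0188850386048405810a88070300800b8b0286070208880589800a0783848405008a89018103068b8b02810980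8883830186860205000408078a85870a09048b8b0283098485080101860685888904038a0a82070780008b8b028207060808868987890005010403830a8a018480858b8b028001890388078703008105020408868a848985860a0b8b020a0985008707880004818906040283038a858108868b8b02038509088480800606858988040a03028a810187870b8b02080480078a08870286058389840501868a830100890b8b020a0004878808810685860189040303828a850700898b8b02098a07008507890682858803840481060a818308800b8b020706028888008a0509830684840005890a818107838b8b02068989078288858a01070304840185080a838600800b8b02010309008807870183800502840609848a868a08858b8b0203010800890785058606870484038a028a800988818b8b020289098786888608070105000403830a0a818580848b8b02000983088180838686028501040709058a8804878a0b8b018a098486838782888502060904080307058a8100008b8b000107888906098687080285020403830584818a008a8b8b010008068709860889078205028403830485818a808a0b8b010a05868882048709028983078403850608008a81800b8b01868709088084898a0385800784060302810a8208050b8b018882878a050907068081080484000309820a8586038b8b018a0285088788070305860902040)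 (Nat.shiftLeft (Nat.add 
    (nat_lit 0x60203078a8a048402868387080880800b8b058509098181078302060a8a048403870286888800008b8b058486090688078708898a850a0403038100008281820b8b058489878887090806860a850a0401808202838003010b8b058500008888028687038a8a048406020783018109098b8b058488870987880906068a850a0400818282030103800b8b058486880609070789888a850a0403830001018200828b8b050a0309000681038806048a858407098082018782888b8b050a0982070087888281848a858400030689060108038b8b050a0781888289870082048a858403810806090306800b8b050a0106038803000689048a858408878281820980870b8b050589890181038687028a0a848407820603088800800b8b048589870887880906860a050a8403038001008201828b8b05048388890207808681058a8a0409828308018607000b8b050580008808878203060a0a848403868287010189098b8b050580800888060302078a0a848402870386818109890b8b05048983028800060187058a8a0403890882068081078b8b05048802830981870006058a8a0402088903878100868b8b048a078200080983868185058a8407010289060300888b8b05048209088386810780858a8a0408030289800706018b8b048a098183868780080205058a840883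0086090102870b8b048a030608808107028905058a8403898681820788000b8b048a010907028308808605058a8400078802018986838b8b04850389088201860007058a0a8409830288078081068b8b048586080689070788898a050a8401808282038103000b8b048588878987090806068a050a8403830100018280820b8b048586890608078709888a050a8400818202830003810b8b04850982830806808781058a0a8403888902000607018b8b04850803028987810680858a0a8402090883818706000b8b038a0601050801848689800887040a820283078900858b8b04850208890380070186058a0a8408028309868100878b8b038a0986848187858900870008840a830202880106050b8b038a0089058788050106088700040a828302018689848b8b03898a06818483070906058208040a878005088100828b8b028a01878885090704810088068403820a83098605800b8b0309068a05000387098605888284078a8481820100880b8b03820489088507078101858809840a83028a060680008b8b0386098903070508010a028784840a888581820680800b8b0387830688880a008905860284840a898500018107020b8b03830786880889860907008501840a8a0282048105800b8b03828881098085870685078604840a830a02000908018b8b030a058701880509068009878104020a8283888480860)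 (Nat.shiftLeft 
    (nat_lit 0xb8b018a070583080389868489020604078882850a8000810b8b03880501060a07830688858982040a870084818902800b8b050589098101828706838a0a848406030782080880008b8b058500800808838706828a8a048407830602010189890b8b058a09860002878380890a84850407030801820106888b8b0602820708880509008a8387848405800a09818106830b8b0603898907030588818a878284840a080501068200800b8b0601078908800984820a8580870401830286838a05080b8b0600898781880905028a858701040380068208848a030b8b058a01020886830708018a84850403878089060982800b8b058a07890380898002860a84850408810682018308070b8b058a03018708010886820a84850400098286090780838b8b0585098901018) (nat_lit 8000))) (nat_lit 8000))) (nat_lit 16000))) u5) (pk61d (nat_lit 12) 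
    (nat_lit 0xa2aa57a6ea79a7fa82a83a81a80a7ca7ea7da7ba7aa74a77a78a76a75a71a73a72a70a6fa63a69a6ca6da6ba6aa66a68a67a65a64a5da60a62a61a5fa5ea5aa5ca5ba59a58a41a4ca52a55a56a54a53a4fa51a50a4ea4da47a4aa4ba49a48a44a46a45a43a42a36a3ca3fa40a3ea3da39a3ba3aa38a37a30a33a35a34a32a31a2da2fa2ea2ca2b9fda14a1fa25a28a29a27a26a22a24a23a21a20a1aa1da1ea1ca1ba17a19a18a16a15a09a0fa12a13a11a10a0ca0ea0da0ba0aa03a06a08a07a05a04a00a02a019ff9fe9e79f29f89fb9fc9fa9f99f59f79f69f49f39ed9f09f19ef9ee9ea9ec9eb9e99e89dc9e29e59e69e49e39df9e19e09de9dd9d69d99db9da9d89d79d39d59d49d29d1) u5) (r0 (pk61d (nat_lit 9) 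
    (nat_lit 0x2ca1738a6d62bb5eadd66a555a9d429d43a45268d449ed027d3b9cc8a5b3299cc25d27954a24b238b46e3d1c8cc5e211388c3a18df7a3fe090581401f2fc7d3ddeaea77bc1daeb7239dcae270325a8d96d35daace68b3d98ca5eb098ac3602f96eba5c2d5665842a694aaa55aa14c9f512813a9b482552c9348a291a8b44218de7a3fa00fa7b3a1dcea723818cd06b34998c85d30178b6591610498512913c9a462491c88421b8f07a3a1c0c46832178b42c211309c48220d87838190b8281e12080341604038140400) u5)) (r0 (pk61d (nat_lit 9) 
    (nat_lit 0x596c963b1586c15fae56aaf56aa5469f4ca5d2a8f45a15067f3c9d4de6d359a4c65f2c95ca64d2490c823f1d8d4622b148943e1b0a84c220f0681c05fcfd7dbe1ecf3793c5dcec74ba1cce370b79badc6db61acd3693419acb6431d8cc460afd78bb5cad968b1582bd5cad562a54ea451a853c9c4ca612e944923d1c8c44a1d088341204fc7c3c9e0ec73389b8da6c3519cca623097cb85a2b958aa54299409c4b251208a43200fc7c3b1c8d86a33180b8562a148a04a231007c3a1a0c0542813088381809040180601) u5))))))) (_root_.Cfsg.Agent.H440.J4P.DuadTab.Tr.nil) (nat_lit 9) (nat_lit 358)) : Tr)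
    = ?xq9015 → (Tr)) ?hq9015; (case hq9015 => (set_option maxRecDepth 1000000 in conv => lhs; reduce)); intro _; exact ?xq9015 : Tr)

/-- part of the tree -/
noncomputable def D1111 : Tr :=
  (by
  refine (?fq9016 : ((pk61r (fun r0 j => pk61f j fun i1 => (pk61f (pk61d (nat_lit 8) 
    (nat_lit 0xb1b0afaeadacab0000aa00a90000a8a700a60000a500a40000a3a2a10000a0009f00009e9d009c00009b009a0000999897960000950094000093920091000090008f00008e8d8c00008b008a00008988008700008600850000848382818000007f007e00007d7c007b00007a007900007877760000750074000073720071000070006f00006e6d6c6b00006a006900006867006600006500640000636261006000005f005e00005d5c005b00005a0059000058575655545300005200510000504f004e00004d004c00004b4a4900004800470000464500440000430042000041403f3e00003d003c00003b3a003900003800370000363534003300003200310000302f002e00002d002c00002b2a2928270000260025000024230022000021002000001f1e1d00001c001b00001a1900180000170016000015141312000011001000000f0e000d00000c000b00000a09080007000006000500000403000200000100000000) i1) fun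 u5 => (pk61f (pk61d (nat_lit 1) 
    (nat_lit 0x1fca694e534a794d29ca694f94d29ca694f29a53a534a7e534a729a53ca694e94d29f29a5394d29e534a74a694) i1) fun t1_0 => (pk61c (Nat.div t1_0 (nat_lit 1)) _root_.Cfsg.Agent.H440.J4P.DuadTab.Tr.nil fun _ => (_root_.Cfsg.Agent.H440.J4P.DuadTab.Tr.node (pk61d (nat_lit 192) (Nat.add (Nat.add 
    (nat_lit 0xa8483018805070409868282060108800b8b078a058900838a8687060981030408048002018508828b8b08010782858a898706800881848400830902050a03860b8b078a050288818a8706068309810403858900880482000b8b078a048002080a8606870103098401850288838580890b8b0786890982028a870a060581800403038808850100848b8b07880004820a0a8582810705090403830688818600898b8b0787098588848a8a06860905080400028300810182038b8b0786080180898a87068a0382848405830502090008810b8b0783868308880a800985028604840a090580818102070b8b070a01830588060a86878880038404890281098200850b8b0780060908810a83850985868184070302808488020a0b8b0781898600880a83048905800684038701020a0288850b8b070a09808502078a86068388800405830188028109048b8b070a02890481068a8786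0003888405008982018803058b8b0707898488858a0a86860805090402010183828300008b8b0709028a0104858a80020785080403830986018880868b8b07080185830a048a80838905078406088282098106800b8b070681888900878a8a060302048403858285098008010b8b070602820808878a868a0580810403038989018485000b8b06860489058807870a8a0885098401028301820380008b8b068a0201088586070a878800828403818489830905000b8b070109800688030a88850586008403878182028a04890b8b070202860888000a8589068304840085098a018103878b8b070081890886838a8804858106040783028009850a020b8b068a0983818487860a870082880409030500088105820b8b068885810a0202800a848985060403830788018900870b8b068a0009030507078a860288008401088582018384898b8b06898a03848183008a858605088409078282080107000b8b0687830388088a070a860580018409098202848100850b8b068708010009878a0a860203048403850285808901888b8b060a038501080707868a8209018409800285848880830b8b06818089088705080a8205878004010302860a0389848b8b06830783888809858a8087020484090a0005018106028b8b06820989028788050a81830704840105888a060380800b8b06800981070804888a8285818784038086020509030a0b8b060a098582800786870a8901820400830884850103880b8b060884808a030183858a8685098407080282078109000b8b060a008488830687078a8182090403880105058289800b8b06098a0285800102048a8885068403830907018780880b8b0607810889000a07068a8283848405030582008981880b8b060709098383078a068a8581008408880202818504800)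 (Nat.shiftLeft 
    (nat_lit 0x3848186828586000b8b09888a890a08078704858605068400020183028081038b8b09880a89088a060180878582038404830285070006810b8b09820a86010487828689058388040500870a018883000b8b09860a8204810002858a0685088403830709018800878b8b09838a87800509070306058802040a068184828100888b8b09808a85830687818806090004840388828107020a050b8b09800a8503878807068100890484088301820286058a0b8b0908098a888a058486860785070401020083000382818b8b090a080a8889828701048201860403808785850683000b8b090a088a8988000306850186020401070284858380878b8b09098a0a8888030603870080048406878202818105850b8b0908898a8a08060001078583028403850482008681870b8b0903078a84818987038605828884068a0500080100820b8b0907830a81848a0583808705080406898282088106000b8b0907020a8005848a01028805078403830609818680888b8b0902860a8500878206898588830401048a07018388000b8b0900850a860281870688800984840103080207838a058b8b088183860a858087068908010484098300020a0507828b8b0889098a0a88008687018582830403848502060007810b8b088a09098a88020586810703800405018287830600848b8b088a09880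a89078501828007038404830600868102058b8b088a08090a89808483060380070405868102018287850b8b08898a090a88078705848685060402810380800302018b8b088605818a838083048a0985068408070282090107800b8b088809890a8a020602870101848403038687850580800b8b088684800a8282010a058605098403830807818700890b8b088301050a870788068385890284060a0480818982000b8b088280048a86820708060583090401850a07838100898b8b0809098a088a848586860705078402800381820081030b8b080a0909888a818705830682808403860501078204800b8b088103070a85078900060188048403898280858a02068b8b080a0988890a878204800280868401830587038105060b8b080a0889098a838105060086828407800482018705830b8b08098a09088a810687000583820405030284808781860b8b08070084838a858a01830785090408860282068109800b8b080889890a0a868387830181048407060202858500800b8b08078105828a8a0482000905070403830886818980860b8b08038480870a87888683058209840a060105018289000b8b08020501868a82870886058983840480078a090100830b8b070309890603810a850882068484080a0185828780800b8b0782898902068a8108058603848405018a08830700800b8b0789038a00858) (nat_lit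 8000))) (Nat.shiftLeft (Nat.add 
    (nat_lit 0xb8b0a84828688800781890305058a0401060982070380880b8b0a84818907830882868005058a0403880700898102060b8b0a838605888187800509890681040a028302080480870b8b0a838084870801888586068109040a030202878509800b8b0a8284800886878588010701898403038a02050600890b8b0a83010708850789018480080604028a0382068980858b8b0a83078901848980868586000804038a0202888107050b8b0a8285878108090500860987018402030a03848886800b8b0a8285090600800486888189870403820a03058108078b8b0a820009058705080681888780840382830a060104898b8b0a820986048105870009078088840303828a018805068b8b0a820681850804810986008887840283038a090705800b8b0a81858608838784830909828704080685020a0000810b8b0a81850206880385888607098284078304890a0081000b8b0a0a89888908018100008584850403828302078706068b8b0a808609050285830689878882040387080480010a018b8b0a8107858288098204860903868405030887008a01800b8b0a8109848602030705088386890405878288018a00008b8b0a8103050887078805828689038404898602000a00818b8b0a808983058684870803888207840609028501800a010b8b0a800682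88848783898503060804070589020101808a0b8b0a808387048805090286020788840983068581018a000b8b0a80098783850907020586080304088482868180810a0b8b0a80020907058288868488030604038507898081018a0b8b0a0a89890808828302038505848406070786810180800b8b0a0a86070687880908898485058403830202818000810b8b0a0a88890988078706068485058401808001038203028b8b0a0a89880889070786860485058400818100030283820b8b0a0a89098888038203028505848407868607018100008b8b0a0a88090889800081810584850402030283868607078b8b0a0a86878607090809888485058403038282008101800b8b0a0a80800101878687060505848403820283080889890b8b0a0a83830282068707860584850409890888000100818b8b0a0a82028303878606870584850408088909818081000b8b0a0a80008181060706878505848402830382088809098b8b098a0a890808858280060783010400850702018483868b8b08018682050a8780898601088484038002890a0587030b8b0900058a87020788810609808484038182880306850a0b8b090a098a8808878083858602018406830005048107028b8b09868a83058083818a048885060407890282070108000b8b09890a8a0888068287820000848403038706018105058b8b098a0a88088905070200810783040)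 (Nat.shiftLeft (Nat.add 
    (nat_lit 0x90808898585048400818001030203828b8b0a8a03020382810000818585048408898809060786870b8b0a8a02838203008181000585048409080988870687860b8b0a898a090808830586808702818403878500048106020b8b0a8a01018000830382820585048407078686090988088b8b0a8a01810080020283830585048406860707898908880b8b0a8a00800181028203038585048406068787088809890b8b0a8a00008101838302028585048407870606880889098b8b0a89098a0808800705820683810405008286018483078b8b0a898a088908010482060281870400830586850783800b8b0a898a080889078500038187028406010482058300868b8b0a89088a0988028085060106838404830781820587000b8b0a89080a0889878304818381068405870002060500828b8b0a8704808388068a07860182898408830501058209000b8b0a880889098a018206850006030403848087078102858b8b0a8888090a09848006828200878403818605830105070b8b0a8889098a08058381860782008407030105068284800b8b0a880988890a038700848300060407858281018206850b8b0a880909888a078102858603000401850682038700848b8b0a87810285880a0687060880820401830904838985000b8b0a87898005038a070606820880840801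0285818304890b8b0a87830904818a0606870082088403898005080105828b8b0a8705890002060a06878981828403808488050103088b8b0a8705030881078a06068289818400090582048800838b8b0a86038188858786870a0800030409848102090280850b8b0a868205018807078a060389010405830089888482800b8b0a868985830086070a078901038404888280018508020b8b0a868004888287860a070103890405018802030580898b8b0a86098201048687078a0003080400850289018883858b8b0a8587090200008986830a04850403860188828107880b8b0a86008902850707868a0308000403858881820109848b8b0a8589868083020709000a04850401080287818388860b8b0a8582810788088183860a04850406830980870902000b8b0a8581838886078281080a04850409000702098680830b8b0a81848903078805068202870984038885860a0100008b8b0a83098086858107088508060004020a0283818789048b8b0a84870380880209810605058a0409030187828688800b8b0a850289008602018688048a058403800987870108830b8b0a850701088307898380048a058406880182028900860b8b0a850186820800828906048a058401030708898387800b8b0a84898102060087038805058a0406800288818907830b8b0a838985000788070480810906840a020283018586088)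 (Nat.shiftLeft 
    (nat_lit 0xb8b098a0a888908048186838301078406058280070500820b8b0a850983878008870103048a058409060280818682080b8b0a8889880a09050703010087820400068284818605838b8b0a8a02030283818080010585048408090889878607068b8b0a8a07068786088989080585048401000180828382030b8b0a8a08880989070786068585048403038202808001810b8b0a8a09098808860687078585048402820383010180008b8b0a8a08088909868607870585048402028303800081018b8b0a8a07860706898888090585048400010081820302838b8b0a8a03828302000101808585048409888908068706078b8b0a8a06870607880909888585048401808100038283020b8b0a8a060786870) (nat_lit 8000))) (nat_lit 8000))) (nat_lit 16000))) u5) (pk61d (nat_lit 12) 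
    (nat_lit 0xadeb0bb21b2cb32b35b36b34b33b2fb31b30b2eb2db27b2ab2bb29b28b24b26b25b23b22b16b1cb1fb20b1eb1db19b1bb1ab18b17b11b14b15b13b12b0eb10b0fb0db0caf5b00b06b09b0ab08b07b03b05b04b02b01afbafeaffafdafcaf8afaaf9af7af6aeaaf0af3af4af2af1aedaefaeeaecaebae4ae7ae9ae8ae6ae5ae1ae3ae2ae0adfab1ac8ad3ad9adcaddadbadaad6ad8ad7ad5ad4acead1ad2ad0acfacbacdaccacaac9abdac3ac6ac7ac5ac4ac0ac2ac1abfabeab7abaabcabbab9ab8ab4ab6ab5ab3ab2a9baa6aacaafab0aaeaadaa9aabaaaaa8aa7aa1aa4aa5aa3aa2a9eaa0a9fa9da9ca90a96a99a9aa98a97a93a95a94a92a91a8aa8da8fa8ea8ca8ba87a89a88a86a85) u5) (r0 (pk61d (nat_lit 9) 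
    (nat_lit 0x1650b9b52ead5bae566af50a9d469d4ca0d1a8f44a14ee7d3c9ccde412b984c65d2c92ca24d2390c5a371c8cc5e211388c3a18df7a3fe090581401f2fc7d3ddeaea77bc1daeb7239dcae270325a8d96d35daace68b3d98ca5eb098ac3602f96eba5c2d5665842a694aaa55aa14c9f512813a9b482552c9348a291a8b44218de7a3fa00fa7b3a1dcea723818cd06b34998c85d30178b6591610498512913c9a462491c88421b8f07a3a1c0c46832178b42c211309c48220d87838190b8281e12080341604038140400) u5)) (r0 (pk61d (nat_lit 9) 
    (nat_lit 0x2c762b0d82bf5eaed6ab155aa54a9f4da55269145a1d027f3d9d4e26b3499cca5f2d954a64f249147e3d1d8d4622b148943e1b0a84c220f0681c05fcfd7dbe1ecf3793c5dcec74ba1cce370b79badc6db61acd3693419acb6431d8cc460afd78bb5cad968b1582bd5cad562a54ea451a853c9c4ca612e944923d1c8c44a1d088341204fc7c3c9e0ec73389b8da6c3519cca623097cb85a2b958aa54299409c4b251208a43200fc7c3b1c8d86a33180b8562a148a04a231007c3a1a0c0542813088381809040180601) u5))))))) (_root_.Cfsg.Agent.H440.J4P.DuadTab.Tr.nil) (nat_lit 9) (nat_lit 356)) : Tr)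
    = ?xq9016 → (Tr)) ?hq9016; (case hq9016 => (set_option maxRecDepth 1000000 in conv => lhs; reduce)); intro _; exact ?xq9016 : Tr)

/-- part of the tree -/
noncomputable def D111 : Tr := .node (nat_lit 4528560393624719714074845227938967531458178374062799595568) (nat_lit 2692) D1110 D1111

/-- part of the tree -/
noncomputable def D11 : Tr := .node (nat_lit 4527054942030038460429917693056728222035186601638863333488) (nat_lit 2512) D110 D111

/-- part of the tree -/
noncomputable def D1 : Tr := .node (nat_lit 4520158688206332074598885871725166978663327406422106333328) (nat_lit 2153) D10 D11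

/-- part of the tree -/
noncomputable def D : Tr := .node (nat_lit 1583888159593951269743493455674804590536362172362498513008) (nat_lit 1435) D0 D1

/-- packed `p` -/
def PP : Nat := nat_lit 4512463239391515182106543935625290063632595278932567691368

/-- packed `p⁻¹` -/
def PPi : Nat := nat_lit 4517078696089279172743078475390783736273169107264472657968

/-- packed `h` -/
def PH : Nat := nat_lit 1577767249746861819700919390975418762775308163062044821608

end Cfsg.Agent.H440.J4P.DuadTab
end

-- part: H440/J4P/Slots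
section
/-!
# Many vectors times many matrices over the field with two elements

A natural number `blk n y K` contains `K` vectors `y 0, …, y (K - 1)` of length `n` ("slots").  The
functions of this file multiply the vector in every slot by its own matrix; the `k`-th rows of all
the matrices are again packed in one number.
-/

set_option autoImplicit false

namespace Cfsg.Agent.H440.J4P.Slots

open Cfsg.Agent.Lib.F2Mat

/-! ### Blocks -/

/-! ### Vectors times matrices, slot by slot -/

/-! ### Counting the zero slots -/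

/-! ### Packing -/

end Cfsg.Agent.H440.J4P.Slots
end

-- part: H440/J4P/Engine
section
/-!
# Counting the pairs `(h, c)` with `z b_h = z`, `z = x₀ (b_h a_c) ^ 11`

`b_h` (`h < H`) and `a_c = g⁻¹ a'_c g` (`c < C`) are matrices over the field with two elements.
-/

set_option autoImplicit false

namespace Cfsg.Agent.H440.J4P.Engine

open Cfsg.Agent.Lib.F2Mat Cfsg.Agent.Lib.F2MatGroup Cfsg.Agent.H440.J4P.Slots

/-! ### Evaluation in continuation passing style -/

/-- `1 + 2 ^ n + 2 ^ (2 n) + …`, `K` terms -/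
def geo (n K : ℕ) : ℕ :=
  Nat.div (Nat.sub (Nat.pow 2 (Nat.mul n K)) 1) (Nat.sub (Nat.pow 2 n) 1)

/-! ### Groups -/

end Cfsg.Agent.H440.J4P.Engine
end

-- part: H440/J4P/Data
section
/-!
# Matrices over the field with two elements used in the parity count for J4
-/

set_option autoImplicit false

namespace Cfsg.Agent.H440.J4P.Data

/-- the involution `h` -/
noncomputable def HC : Nat := (by
  refine (?fq3 : (Nat.add 
    (nat_lit 0x2922c02c3c7d9a1a00b3b2b88ffc58be44ba42b79d500ced3b19d30758f3b2f1240f5d7febcfe018b367fe5a8154c3ba51a6ab6788c8616009369ffa7b4d26b3f24077d8dd8e24532d66e86de1b07d8e729208fb9257a43bf7f24d5c56f1dfe27618e0abdc54f7d33128bfeb6275c678187d242887d10502412ce7ec5c45561760d144676681580abe0033fcf0e4d13a0f2630450d3df79d42fa9b7c85c84696a55913ecae02c4ea600600a5d1d3b8945f9762c8f4334526d9d3154385ddaa67aca88f9cde091400cadf1daf7df995ff2c687d0648aaaa8d62aad0d10f3b81b15f561b8b0a59ee40d4446369ff3a52f20b0e7fd048c392da652c4eabb352cb70087f90d6147c210b19e1621c4591e5ab1c5b7de28a373ad8d5130ea1f7fb695dfbec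e956e3a7af1105dd77aded9a10d3b6e00bf6427169c3fc9095290fe15d5790832230db0ab4f92a517ca67f26eb2b82b79c951bb540af66150b6f503a88930a8893ee2286b2d5113681fb29fbcb2a4a0fd8b2bf1108b291971f7cbc75c2ae91c9ec7bf5ee4e3693a6f33605a817b39138816558c33c693ac500ad8d6f4f53ea427383b47e11811e4af74cb3171dccf45ab2e8e8b21845143f8f81ba60e44860caa3099fcd6a3d8a5c331941b460ca60ca5c096a3e96c51bc145ac5f5f9c9c3637c9d16eaf6da67ba518e818e84d452e63858f13e081351db7842e7b2f9df2fb20d683fbda88224be1dd8874421f878994b1f650fa93399cc976269b049bf4a4676a6aa9a9c0c0164e9dc180f081c1ff3cff3cff3bffe7ef3de64fffe6bebebebe7d79e7cdeb7ced6fffee0000c3c300031c380c001a300018414182824142140a148309200009c300c30000c40c230001838180c0ffff5555fffebffebffff7fa3d09aa00aa00550145414b54096842c0f5f5f5f5faffffbffefbffba9d5d28822882144041484314804c22112222888811110101021008092272)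
    (Nat.shiftLeft (Nat.add 
    (nat_lit 0x997e89b76f047ab17cb7dd2712ec8eb7700a0c23122da93c0899b3a96dee51433072e1f4516de4c67ee1a3e54dc31f5048f01255415a10bc4f2d9adb90beda8ec6cb157b8a22846b8235b3134afe91d818db0e8d4eb8c698c36da3126505197c3a3e5ba8b86786ba0aa581f4e18a16fa49bfb0faa7f197d1c428876a5a112c8c22ef73bec59ab6aa0c6b4eb50957a8c1a82618c711a55a59e21284e31b9a86040efa793e20867d0033b1196cf982de02ae3484897326a83976800abd6aca7c3483cb3e672cf36b38a606ba01a86cb1e080d279e542cdf79cf3e0072481212d35572b34cdaf30ae7d52ca4c7495306b02c3bf32671ae95855e9ab4ba743e977e097665712f71e6727647441e3b84764822a24793670e65d3ac0d6257bd06207ad3e76ffcd885b9f89e894733cad0869f675d7a8b0ac796b062f3eaf83a5df93f5658175660d2e74a230132dfad46e044c0c949a5e289a9fa3ace456b8460d4f278baee66a9fb4a8e33a5e090dc20389d7622ccef4b7087beb5d7ff866a51fab88a43bd3543573cca7893dfffaafc4c47fe9e47bc63d814d640062b469597c3bf721e17d15c3729b31d3ee80328f6784e186795679d4404d9b3a7f3fcdff022c635098ba22153aeba5ee961a831403767ebebcb2fd4b7d6095d4a90084abb5eb72f2e69db9768ab43f175890ae04561000a8918cf8ab27057092adcfee8abe65cc1e8892288e810b59dbd63975061b0968546574d28969b348e7ee7d3d884c45257510c06d091507735a8360090ef8bd384c0300318128696c4e1b1ee592d38c11b85435851edf6678599e936e844c2ac94a5734a7955043560e372b0468f501ada3d2c9b6ae77e905b6da913ef46842f0e6a0a0aa6049c16e586e8cd443f5783d84b1eb71e15cffb27eaea2b3d9107633e1df7329f10e5ec7687ce4174e34b952917ae5544356b96f5642c19ab6b4aa5096af96a2b976a7e20132f865)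
    (Nat.shiftLeft 
    (nat_lit 0x4957956bcb2f8dfb09d717ffacdcb4a41557d9e1a3fc97de5b436193fb9abad9a622aec0908f7bd54f04d0ec382275ee46b12f7bbde7e5131a31c4dbcc685543c4bcb0f0c1d585f5923e671c3dec285808394727c4f599d42f88c93cc629d4b74fe021aa1066b3d4ac11259deaa84cbfe188c379985ce5f80882ec726b7f9d0da4bebb280499658380594f1774cd83921be38f624c1aecdbfa9a6f86f2d690af20e5a3bc900d0174)
    (nat_lit 5600)))
    (nat_lit 5600)))
    = ?xq3 → Nat) ?hq3; (case hq3 => (conv => lhs; whnf)); intro _; exact ?xq3 : Nat)
end Cfsg.Agent.H440.J4P.Data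
end

-- part: H440/J4P/DataB
section
/-!
# Matrices over the field with two elements used in the parity count for J4
-/

set_option autoImplicit false

namespace Cfsg.Agent.H440.J4P.DataB

end Cfsg.Agent.H440.J4P.DataB
end

-- part: H440/J4P/Words
section
/-!
# Words used in the parity count for J4

Letters of `wp`, `wh`: `0, 1, 2` stand for `X`, `Y`, `Y⁻¹`; letters of the other words: `0, 1, 2` stand for
`p`, `p⁻¹`, `h`.
-/

set_option autoImplicit false

namespace Cfsg.Agent.H440.J4P.Words

/-- word of `p` -/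
def wp : List Nat := [1, 0, 1, 0, 2, 0, 2, 0, 2, 0, 2, 0, 2, 0, 2, 0, 1, 0, 1, 0, 2, 0, 1, 0, 2, 0, 1, 0, 1, 0, 1, 0, 1, 0, 1, 0, 1, 0, 1, 0, 2, 0, 2, 0, 2, 0, 2, 0, 1, 0, 1, 0]

/-- word of `h` -/
def wh : List Nat := [0, 2, 0, 1, 0, 1, 0, 1, 0, 1, 0, 1, 0, 1, 0, 2, 0, 1, 0, 2, 0, 1, 0, 1, 0, 2, 0, 2, 0, 2, 0, 2, 0, 2, 0, 2, 0, 2, 0, 1, 0, 2, 0, 1, 0, 1, 0, 1, 0, 2, 0, 2]

/-- class, word, count -/
noncomputable def reps : List (Nat × List Nat × Nat) :=
  (by
  refine (?fq9020 : ((pk61l (fun i1 => (_root_.Prod.mk (pk61d (nat_lit 2) 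
    (nat_lit 0xeaa955555555555540000000000) i1) (_root_.Prod.mk ((fun g1 : Nat → Nat => pk61l (fun i2 => (pk61d (nat_lit 2) 
    (nat_lit 0x995956009588899a559882208a6662265962566220026680a658965a6656220268a098a65660826599882626656622665666200265956588026626566259) i2)) (g1 i1) (g1 (Nat.succ i1)) List.nil) fun j => (pk61d (nat_lit 8) 
    (nat_lit 0xf8f8f2ede8e4e0e0d9d2cbc5bfb9b3ada7a19c97928d8985817d797673706e6c6b6b635b544d47413b352f29241f1a15110d0905020000) j)) (pk61d (nat_lit 7) 
    (nat_lit 0xb800000000011a3c9ad124d883425c978edf3a974653fa32e2c6955a3a85c95e1f56a54216a9d4b164d58ab76c14a9) i1)))) (nat_lit 0) (nat_lit 54) List.nil) : List (Nat × List Nat × Nat))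
    = ?xq9020 → (List (Nat × List Nat × Nat))) ?hq9020; (case hq9020 => (set_option maxRecDepth 1000000 in conv => lhs; reduce)); intro _; exact ?xq9020 : List (Nat × List Nat × Nat))

end Cfsg.Agent.H440.J4P.Words
end

-- part: H440/J4P/Mats
section
/-!
# The matrices of the parity count for J4
-/

set_option autoImplicit false

open Cfsg

namespace Cfsg.Agent.H440.J4P.Mats

open Cfsg.Agent.Lib Cfsg.Agent.Lib.F2Mat Cfsg.Agent.Lib.F2MatGroup
open Cfsg.Agent.J4.Rep112 Cfsg.Agent.J4.Pres Cfsg.Agent.J4.M24Hom Cfsg.Agent.J4.Nodes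
open Cfsg.Agent.J4.Beta Cfsg.Agent.J4.Classes Cfsg.Agent.J4.ClassesData Cfsg.Agent.J4.Invol
open Cfsg.Agent.J4.Lower Cfsg.Agent.J4.ClassesAbs Cfsg.Agent.J4.LowerData Cfsg.Agent.H858.VK
open Cfsg.Agent.H440.J4P.Data Cfsg.Agent.H440.J4P.DataB Cfsg.Agent.H440.J4P.Words
open Cfsg.Agent.H440.J4P.Slots Cfsg.Agent.H440.J4P.Engine

/-! ### Elements of `M24` -/

/-- the element `p` -/
def pM : M24 := wordG wp

/-- the involution `h` -/
def hM : M24 := wordG wh

theorem getG_mgens (i : ℕ) (hi : i < 3) : getG mgens i = psi (letG i) := by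
  match i with
  | 0 => exact psi_X.symm
  | 1 => exact psi_Y.symm
  | 2 =>
    have h : psi (letG 2) = (psi YM)⁻¹ := map_inv psi YM
    rw [h, psi_Y, ← map_inv]
    rfl

theorem evG_word (w : List ℕ) (hw : ∀ i ∈ w, i < 3) : evG mgens w = psi (wordG w) := by
  induction w with
  | nil => exact (map_one psi).symm
  | cons i w ih =>
    rw [evG_cons, ih fun j hj => hw j (List.mem_cons_of_mem _ hj),
      getG_mgens i (hw i (List.mem_cons_self ..)), wordG, map_mul]

theorem codes_word (w : List ℕ) (hw : ∀ i ∈ w, i < 3) {A : ℕ}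
    (h : Nat.beq (evW 112 codes w) A = true) : Codes 112 (psi (wordG w)) A := by
  have h1 := codes_evW codes_gens w
  rw [Nat.eq_of_beq_eq_true h] at h1
  rw [← evG_word w hw]
  exact h1

theorem codes_h : Codes 112 (psi hM) HC := codes_word wh (by decide) (by decide +kernel)

theorem hM_sq : hM * hM = 1 := by
  apply psi_injective
  rw [map_mul, map_one]
  exact (codes_h.mul codes_h).eq_one (by decide +kernel)

/-! ### The elementary abelian group -/

theorem exists_EJ (v : ℕ) : ∃ e ∈ EJ, rho e = beta qs v := by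
  have h : beta qs v ∈ Q := beta_mem Q qs (fun a ha => Subgroup.subset_closure ha) _
  rw [← map_EJ] at h
  exact h

/-- the element of the elementary abelian group with a given vector -/
noncomputable def eJ (v : ℕ) : Cfsg.Spor.J4 := (exists_EJ v).choose

theorem eJ_mem (v : ℕ) : eJ v ∈ EJ := (exists_EJ v).choose_spec.1

theorem rho_eJ (v : ℕ) : rho (eJ v) = beta qs v := (exists_EJ v).choose_spec.2

/-! ### The conjugates of `b` -/

/-- the involution `t` -/
noncomputable def tJ : Cfsg.Spor.J4 := eJ 1010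

end Cfsg.Agent.H440.J4P.Mats
end

-- part: H440/J4P/RepDef
section
/-!
# The tests of the parity count for J4
-/

set_option autoImplicit false

namespace Cfsg.Agent.H440.J4P.RepDef

open Cfsg.Agent.Lib.F2MatGroup Cfsg.Agent.H440.J4P.Engine Cfsg.Agent.H440.J4P.Mats
open Cfsg.Agent.H440.J4P.Words Cfsg.Agent.H440.J4P.DataB

end Cfsg.Agent.H440.J4P.RepDef
end

-- part: H440/J4P/Cover
section
/-!
# The involutions of the stabilizer of a duad

`cover`: every involution of the stabilizer of a duad in `M24` is hit an odd number of times by the conjugates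
of three involutions under the elements `g * tau h`.
-/

set_option autoImplicit false

open Cfsg

namespace Cfsg.Agent.H440.J4P.Cover

open Cfsg.Agent.Lib.F2Mat (bz bz_xor bz_true bz_false)
open Cfsg.Agent.Lib.F2MatGroup (evG getG evG_cons evG_nil)
open Cfsg.Agent.J4.Packed Cfsg.Agent.J4.M24Hom Cfsg.Agent.J4.Nodes
open Cfsg.Agent.H440.J4P.Mats Cfsg.Agent.H440.J4P.Words Cfsg.Agent.H440.J4P.DuadTab
open Cfsg.Agent.H440.J4P.RepDef Cfsg.Agent.BabyM.DuadGen
open Cfsg.Agent.SporadicA.M24Gens (pidx pidx_injective)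

noncomputable section

/-! ### Search trees -/

/-! ### Walks -/

/-- conjugation -/
def cj (ai a z : ℕ) : ℕ := pmul (pmul ai z) a

/-! ### Packed elements -/

theorem rep_p : Rep PP pM := rep_of_word wp (by decide +kernel)
theorem rep_pi : Rep PPi pM⁻¹ := rep_inv rep_p (by decide +kernel)
theorem rep_h : Rep PH hM := rep_of_word wh (by decide +kernel)

/-! ### The checks -/

/-- the whole tree -/
def T : Tr := D

/-! ### The stabilizer of the duad -/

theorem apply_lab {n : ℕ} {g : M24} (h : Rep n g⁻¹) {i : ℕ} (hi : i < 24) :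
    ∃ j < 24, getb n i = 8 * j ∧ (g : Equiv.Perm GolayPt) (lab i) = lab j := by
  obtain ⟨j, hj, h1, h2⟩ := h i hi
  rw [inv_inv] at h2
  exact ⟨j, hj, h1, h2⟩

theorem tab_of {n : ℕ} {g : M24} (h : Rep n g⁻¹) {tb : List ℕ}
    (ht : ∀ i < 24, ∀ j < 24, getb n i = 8 * j → pidx (lab j) = tb.getD (pidx (lab i)) 0)
    (x : GolayPt) : pidx ((g : Equiv.Perm GolayPt) x) = tb.getD (pidx x) 0 := by
  obtain ⟨i, hi, rfl⟩ := lab_surj x
  obtain ⟨j, hj, h1, h2⟩ := apply_lab h hi
  rw [h2]
  exact ht i hi j hj h1

theorem hp (x : GolayPt) : pidx ((pM : Equiv.Perm GolayPt) x) = tabP.getD (pidx x) 0 :=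
  tab_of rep_pi (by decide +kernel) x

theorem hh (x : GolayPt) : pidx ((hM : Equiv.Perm GolayPt) x) = tabH.getD (pidx x) 0 := by
  refine tab_of (n := PH) ?_ (by decide +kernel) x
  have e : hM⁻¹ = hM := inv_eq_of_mul_eq_one_left hM_sq
  rw [e]
  exact rep_h

theorem closure_le_duad {c : M24} (hc : c ∈ Subgroup.closure ({pM, hM} : Set M24)) :
    (c : Equiv.Perm GolayPt) ∈ duad := by
  have h : (Subgroup.closure ({pM, hM} : Set M24)).map M24.subtype = duad := by
    rw [MonoidHom.map_closure, Set.image_pair]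
    exact closure_eq hp hh
  rw [← h]
  exact ⟨c, hc, rfl⟩

theorem p_mem_duad : (pM : Equiv.Perm GolayPt) ∈ duad :=
  closure_le_duad (Subgroup.subset_closure (Or.inl rfl))

theorem h_mem_duad : (hM : Equiv.Perm GolayPt) ∈ duad :=
  closure_le_duad (Subgroup.subset_closure (Or.inr rfl))

/-! ### The multiplicities -/

end

end Cfsg.Agent.H440.J4P.Cover
end
end

-- part: H825/JM/Lines
section
prune_inst 0x4307004400000000000000020002020400000000008000000000000000800010000000030000302010088200008000811440019000000000000020040040401000252060200a100200000008800000000000000000000000000000000000000200000000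
set_option linter.all false
open scoped Cfsg.Agent.FastGrp

-- part: H440/J4P/VLevel
section
/-!
# The vectors of the parity count for J4
-/

set_option autoImplicit false

open Cfsg

noncomputable section

namespace Cfsg.Agent.H440.J4P.VLevel

open Cfsg.Agent.Lib Cfsg.Agent.Lib.F2MatGroup
open Cfsg.Agent.J4.Rep112 Cfsg.Agent.J4.Pres Cfsg.Agent.J4.M24Hom Cfsg.Agent.J4.Nodes
open Cfsg.Agent.J4.Beta Cfsg.Agent.J4.Classes Cfsg.Agent.J4.ClassesData Cfsg.Agent.J4.Invol
open Cfsg.Agent.J4.Lower Cfsg.Agent.J4.ClassesAbs Cfsg.Agent.J4.LowerData Cfsg.Agent.H858.VK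
open Cfsg.Agent.H440.J4P.Mats Cfsg.Agent.H440.J4P.Words Cfsg.Agent.H440.J4P.Cover
open Cfsg.Agent.H440.J4P.RepDef

/-! ### Matrices of words -/

/-- matrix of `p` -/
def MP : List ℕ := [1580, 988, 340, 413, 81, 402, 1579, 2008, 1275, 1253, 903]
/-- matrix of `h` -/
def MH : List ℕ := [1, 1365, 891, 1709, 16, 583, 2045, 1370, 1957, 498, 816]

private noncomputable def _root_.Cfsg.Agent.LsF.fd7180f_0 : {f // @Cfsg.Agent.J4.Beta.lin = f} := ⟨_, by first | (delta Cfsg.Agent.J4.Beta.lin; rewrite [Cfsg.Agent.LsF.ndiv_pat, Cfsg.Agent.LsF.nmod_pat, Cfsg.Agent.LsF.cond_eq]; exact rfl) | exact rfl⟩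
private noncomputable def _root_.Cfsg.Agent.LsF.fd7180f_1 : {f // @Cfsg.Agent.H858.VK.actG = f} := ⟨_, by first | (delta Cfsg.Agent.H858.VK.actG List.brecOn List.brecOn.go Cfsg.Agent.H858.VK.actG._f; rewrite [Cfsg.Agent.LsF.fd7180f_0.2, Cfsg.Agent.LsF.cond_eq]; (try delta Cfsg.Agent.H858.VK.actG.match_1); (try delta List.casesOn); first | dsimp -zeta only | exact rfl) | exact rfl⟩
private noncomputable def _root_.Cfsg.Agent.LsF.fd7180f_2 : {f // @Cfsg.Agent.H858.VK.p2 = f} := ⟨_, by first | (delta Cfsg.Agent.H858.VK.p2; rewrite [Cfsg.Agent.LsF.npow_pat, Cfsg.Agent.LsF.map_eq, Cfsg.Agent.LsF.range_eq]; exact rfl) | exact rfl⟩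
private noncomputable def _root_.Cfsg.Agent.LsF.fd7180f_3 : {f // @Cfsg.Agent.H858.VK.mat = f} := ⟨_, by first | (delta Cfsg.Agent.H858.VK.mat; rewrite [Cfsg.Agent.LsF.fd7180f_1.2, Cfsg.Agent.LsF.fd7180f_2.2, Cfsg.Agent.LsF.map_eq]; exact rfl) | exact rfl⟩
theorem isMat_p : IsMat (psi pM) MP := by
  have h : mat wp = MP := by (refine of_decide_eq_true ?_; (try (rewrite [Cfsg.Agent.LsF.fd7180f_3.2, Cfsg.Agent.LsF.instDecEq_eq, Cfsg.Agent.LsF.dListEq_eq, Cfsg.Agent.LsF.decide_eq])); decide +kernel)
  rw [← h]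
  exact isMat_word wp

theorem isMat_h : IsMat (psi hM) MH := by
  have h : mat wh = MH := by decide +kernel
  rw [← h]
  exact isMat_word wh

/-! ### The elementary abelian group -/

theorem eJ_zero : eJ 0 = 1 := by
  apply rho_injective
  rw [rho_eJ, map_one]
  exact beta_zero qs

theorem eJ_inj {v w : ℕ} (hv : v < 2048) (hw : w < 2048) (h : eJ v = eJ w) : v = w := by
  have h1 := congrArg rho h
  rw [rho_eJ, rho_eJ] at h1
  exact beta_inj hyp.sq hyp.comm hyp.ind (by rw [qs_len]; exact hv) (by rw [qs_len]; exact hw) h1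

theorem exists_eJ {e : Cfsg.Spor.J4} (he : e ∈ EJ) : ∃ v < 2048, e = eJ v := by
  obtain ⟨v, hv, h⟩ := exists_beta hyp.sq hyp.comm ((mem_EJ_iff rho_injective _).mp he)
  rw [qs_len] at hv
  exact ⟨v, hv, rho_injective (by rw [h, rho_eJ])⟩

theorem conj_eJ {g : M24} {M : List ℕ} (h : IsMat (psi g) M) (v : ℕ) :
    phi g * eJ v * (phi g)⁻¹ = eJ (lin M v) := by
  apply rho_injective
  rw [map_mul, map_mul, map_inv, rho_eJ, rho_eJ]
  exact isMat_apply h v

theorem lin_lt_of {M : List ℕ} (hM : (M.all fun a => Nat.blt a 2048) = true) (v : ℕ) :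
    lin M v < 2048 := by
  apply lin_lt
  rw [List.all_eq_true] at hM
  intro a ha
  have := hM a ha
  rwa [Nat.blt_eq] at this

/-! ### Conjugacy with `s` -/

/-! ### The set `S` -/

/-- The involutions `a` commuting with `t` such that `a t` is conjugate to `s`. -/
def S (a : Cfsg.Spor.J4) : Prop := a * a = 1 ∧ a * tJ = tJ * a ∧ IsConj s (a * tJ)

/-! ### The elementary abelian part -/

/-! ### Odd multiplicities -/

end Cfsg.Agent.H440.J4P.VLevel
end
end

-- part: H440/J4P/Cent
section
/-!
# The centralizer of the duad involution `t` of J4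
-/

set_option autoImplicit false

open Cfsg
open scoped Pointwise

noncomputable section

namespace Cfsg.Agent.H440.J4P.Cent

open Cfsg.Agent.J4Type Cfsg.Agent.J4Type.FinalTau Cfsg.Agent.J4Type.FinalRel
open Cfsg.Agent.J4Type.FinalEmb Cfsg.Agent.J4Type.CloseInst
open Cfsg.Agent.J4.Beta Cfsg.Agent.J4.Pres Cfsg.Agent.J4.Invol
open Cfsg.Agent.H440.J4P.Mats Cfsg.Agent.H440.J4P.VLevel Cfsg.Agent.H440.J4P.Cover
open Cfsg.Agent.BabyM.DuadGen Cfsg.Agent.H858.VK

instance simple_J4 : IsSimpleGroup Cfsg.Spor.J4 := isJ4.1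

theorem exists_hypJ : ∃ (t : Cfsg.Spor.J4)
    (Q N M : Subgroup (Subgroup.centralizer ({t} : Set Cfsg.Spor.J4))), Hyp t Q N M :=
  Cfsg.Agent.KFacts.J4.Transport.exists_hyp_of_iso (⟨MulEquiv.refl _⟩ : Spor.IsoJ4 Spor.J4)

/-- The order of the centralizer of `s`. -/
theorem card_cent_s : Nat.card (Subgroup.centralizer ({s} : Set Cfsg.Spor.J4)) = 21799895040 := by
  obtain ⟨t, Q, N, M, H⟩ := exists_hypJ
  exact Cfsg.Agent.H858.CentS.card_cent_s H

theorem fix_w : ((List.range 2048).all fun w => !(Nat.beq (lin MP w) w) || !(Nat.beq (lin MH w) w) ||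
    Nat.beq w 0 || Nat.beq w 1010) = true := by decide +kernel

/-- An automorphism onto the abstract model of the group of type J4. -/
theorem exists_model : ∃ (C : J4Type.Compl Cfsg.Spor.J4) (f : Cfsg.Spor.J4 →* Cfsg.Spor.J4),
    Function.Injective f ∧ (∀ g : M24, f (phi g) = C.φ g) ∧ EJ.map f = C.E hex0 := by
  obtain ⟨t, Q, N, M, H⟩ := exists_hypJ
  obtain ⟨C, -, -, -⟩ := Cfsg.Agent.H856.Bridge.exists_compl_of_hyp H
  obtain ⟨T, hT⟩ := TauMain.exists_tau C
  obtain ⟨f, hφ, -, hs, -, -⟩ := (FinalTau.Tau.tauFam T (Rel2.relator2 T)).exists_hom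
  have hf : Function.Injective f := TauFam.injective hs
  have hB : tetB.card = 4 := by decide +kernel
  exact ⟨T.toCompl, f, hf, hφ, ClosingJ4.map_EJ T.toCompl f hφ hB hs⟩

/-- **The centralizer of `t`.** -/
theorem cent_t {a : Cfsg.Spor.J4} (h : a * tJ = tJ * a) :
    ∃ v < 2048, ∃ m : M24, (m : Equiv.Perm GolayPt) ∈ duad ∧ a = eJ v * phi m := by
  obtain ⟨C, f, hf, hφ, hE⟩ := exists_model
  have hcard : ({none, some 0} : Finset GolayPt).card = 2 := Cfsg.Agent.H857.Duad.card_base
  have hev : Even ({none, some 0} : Finset GolayPt).card := by rw [hcard]; decide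
  have hε : C.ε {none, some 0} ∈ C.E hex0 := C.ε_mem _ hev
  rw [← hE] at hε
  obtain ⟨z, hz, hzε⟩ := hε
  obtain ⟨w, hw, rfl⟩ := exists_eJ hz
  have hcomm : ∀ g : M24, (g : Equiv.Perm GolayPt) ∈ duad → phi g * eJ w * (phi g)⁻¹ = eJ w := by
    intro g hg
    have h1 : C.φ g ∈ Cfsg.Agent.H857.Duad.KD C := Cfsg.Agent.H857.Duad.mem_KD.2 ⟨g, hg, rfl⟩
    have h2 := Cfsg.Agent.H857.Duad.KD_le C h1
    rw [Subgroup.mem_centralizer_singleton_iff, ← hφ, ← hzε, ← map_mul, ← map_mul] at h2
    rw [mul_inv_eq_iff_eq_mul]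
    exact hf h2
  have h1 : lin MP w = w := by
    have h2 := hcomm pM p_mem_duad
    rw [conj_eJ isMat_p] at h2
    exact eJ_inj (lin_lt_of (by decide +kernel) w) hw h2
  have h2 : lin MH w = w := by
    have h2 := hcomm hM h_mem_duad
    rw [conj_eJ isMat_h] at h2
    exact eJ_inj (lin_lt_of (by decide +kernel) w) hw h2
  have hw1 : w = 0 ∨ w = 1010 := by
    have h3 := fix_w
    rw [List.all_eq_true] at h3
    have h4 := h3 w (List.mem_range.2 hw)
    rw [h1, h2, Nat.beq_refl] at h4
    simpa using h4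
  have hw0 : w ≠ 0 := by
    rintro rfl
    rw [eJ_zero, map_one] at hzε
    have h5 := TauMain.φ_ε C Cfsg.Agent.J4.M24Hom.XM (S := {none, some 0}) hev
    rw [← hzε, mul_one, mul_inv_cancel, hzε] at h5
    have h6 := Cfsg.Agent.H857.Orbits.ε_pair_inj C.toFrame hcard
      (by rw [Finset.card_smul_finset, hcard]) h5
    exact absurd h6 (by decide +kernel)
  have hw2 : w = 1010 := by
    rcases hw1 with h | h
    · exact absurd h hw0
    · exact h
  subst hw2
  have h3 : f a * C.ε {none, some 0} = C.ε {none, some 0} * f a := by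
    rw [← hzε, ← map_mul, ← map_mul]
    exact congrArg f h
  obtain ⟨e, he, k, hk, hek⟩ := Cfsg.Agent.H857.Duad.exists_mul C h3
  rw [← hE] at he
  obtain ⟨e', he', rfl⟩ := he
  obtain ⟨g, hg, rfl⟩ := Cfsg.Agent.H857.Duad.mem_KD.1 hk
  rw [← hφ, ← map_mul] at hek
  obtain ⟨v, hv, rfl⟩ := exists_eJ he'
  exact ⟨v, hv, g, hg, hf hek⟩

end Cfsg.Agent.H440.J4P.Cent
end
end

-- part: H825/JM/Sextets
section
/-!
# Two sextets refining a trio determine it

`line_unique`: an element `m` of `M24` such that `phi m Z (phi m)⁻¹` and `Z` share two nontrivial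
elements is in the stabilizer `K` of the trio (`Z`: the group of order 8 of the seven sextets
refining the trio).
-/

set_option autoImplicit false

open Cfsg

namespace Cfsg.Agent.H825.JM

open Cfsg.Agent.Lib Cfsg.Agent.Lib.F2MatGroup
open Cfsg.Agent.J4.Rep112 Cfsg.Agent.J4.Pres Cfsg.Agent.J4.M24Hom Cfsg.Agent.J4.Nodes
open Cfsg.Agent.J4.Beta Cfsg.Agent.J4.Classes Cfsg.Agent.J4.ClassesData
open Cfsg.Agent.J4.NonConj Cfsg.Agent.J4.NonConjData Cfsg.Agent.J4.ClassesAbs
open Cfsg.Agent.H858.VK Cfsg.Agent.H858.Data Cfsg.Agent.H858.Elem Cfsg.Agent.H858.Pent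
open Cfsg.Agent.H858.Loc7 Cfsg.Agent.H858.Loc5 Cfsg.Agent.H858.NormL Cfsg.Agent.StdL2.G23Aut

/-- the group `Spor.J4` -/
local notation "𝒢" => Cfsg.Spor.J4

/-- 90 words fixing the sextet `V 165` and with different images of the sextet `V 873` -/
def wl : List (List ℕ) := [
  [], [0], [2, 0, 1], [0, 2, 0, 1], [2, 0, 1, 0], [0, 2, 0, 1, 0],
  [1, 0, 1, 0, 1, 0, 1, 0, 2, 0, 1, 0, 1, 0, 2, 0, 2, 0, 2, 0, 2],
  [0, 1, 0, 1, 0, 1, 0, 1, 0, 2, 0, 1, 0, 1, 0, 2, 0, 2, 0, 2, 0, 2],
  [1, 0, 1, 0, 1, 0, 1, 0, 2, 0, 1, 0, 1, 0, 2, 0, 2, 0, 2, 0, 2, 0],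
  [0, 1, 0, 1, 0, 1, 0, 1, 0, 2, 0, 1, 0, 1, 0, 2, 0, 2, 0, 2, 0, 2, 0],
  [1, 0, 2, 0, 2, 0, 1, 0, 1, 0, 2, 0, 1, 0, 2, 0, 2, 0, 1, 0, 1, 0, 2],
  [2, 0, 2, 0, 1, 0, 1, 0, 1, 0, 2, 0, 1, 0, 1, 0, 2, 0, 2, 0, 2, 0, 2],
  [0, 2, 0, 2, 0, 1, 0, 1, 0, 1, 0, 2, 0, 1, 0, 1, 0, 2, 0, 2, 0, 2, 0, 2],
  [1, 0, 2, 0, 2, 0, 1, 0, 1, 0, 2, 0, 1, 0, 2, 0, 2, 0, 1, 0, 1, 0, 2, 0],
  [2, 0, 2, 0, 1, 0, 1, 0, 1, 0, 2, 0, 1, 0, 1, 0, 2, 0, 2, 0, 2, 0, 2, 0],
  [0, 2, 0, 2, 0, 1, 0, 1, 0, 1, 0, 2, 0, 1, 0, 1, 0, 2, 0, 2, 0, 2, 0, 2, 0],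
  [1, 0, 1, 0, 1, 0, 1, 0, 2, 0, 1, 0, 1, 0, 2, 0, 2, 0, 2, 0, 2, 0, 2, 0, 1],
  [1, 0, 2, 0, 2, 0, 1, 0, 1, 0, 2, 0, 1, 0, 2, 0, 2, 0, 1, 0, 1, 0, 1, 0, 1],
  [2, 0, 1, 0, 1, 0, 1, 0, 1, 0, 1, 0, 2, 0, 1, 0, 1, 0, 2, 0, 2, 0, 2, 0, 2],
  [0, 1, 0, 2, 0, 2, 0, 1, 0, 1, 0, 2, 0, 1, 0, 2, 0, 2, 0, 1, 0, 1, 0, 1, 0, 1],
  [0, 2, 0, 1, 0, 1, 0, 1, 0, 1, 0, 1, 0, 2, 0, 1, 0, 1, 0, 2, 0, 2, 0, 2, 0, 2],
  [1, 0, 1, 0, 1, 0, 1, 0, 2, 0, 1, 0, 1, 0, 2, 0, 2, 0, 2, 0, 2, 0, 2, 0, 1, 0],
  [1, 0, 1, 0, 1, 0, 1, 0, 2, 0, 2, 0, 1, 0, 2, 0, 2, 0, 2, 0, 2, 0, 2, 0, 1, 0],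
  [1, 0, 2, 0, 2, 0, 1, 0, 1, 0, 2, 0, 1, 0, 2, 0, 2, 0, 1, 0, 1, 0, 1, 0, 1, 0],
  [2, 0, 1, 0, 1, 0, 1, 0, 1, 0, 1, 0, 2, 0, 1, 0, 1, 0, 2, 0, 2, 0, 2, 0, 2, 0],
  [2, 0, 2, 0, 2, 0, 2, 0, 1, 0, 1, 0, 2, 0, 1, 0, 2, 0, 2, 0, 1, 0, 1, 0, 2, 0],
  [0, 1, 0, 1, 0, 1, 0, 1, 0, 2, 0, 1, 0, 1, 0, 2, 0, 2, 0, 2, 0, 2, 0, 2, 0, 1, 0],
  [0, 1, 0, 1, 0, 1, 0, 1, 0, 2, 0, 2, 0, 1, 0, 2, 0, 2, 0, 2, 0, 2, 0, 2, 0, 1, 0],
  [0, 1, 0, 2, 0, 2, 0, 1, 0, 1, 0, 2, 0, 1, 0, 2, 0, 2, 0, 1, 0, 1, 0, 1, 0, 1, 0],
  [0, 2, 0, 2, 0, 2, 0, 2, 0, 1, 0, 1, 0, 2, 0, 1, 0, 2, 0, 2, 0, 1, 0, 1, 0, 2, 0],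
  [1, 0, 1, 0, 1, 0, 2, 0, 1, 0, 1, 0, 2, 0, 2, 0, 2, 0, 1, 0, 1, 0, 2, 0, 1, 0, 2],
  [1, 0, 1, 0, 2, 0, 1, 0, 1, 0, 1, 0, 2, 0, 1, 0, 1, 0, 1, 0, 1, 0, 1, 0, 2, 0, 2],
  [1, 0, 1, 0, 2, 0, 2, 0, 2, 0, 2, 0, 2, 0, 1, 0, 2, 0, 2, 0, 2, 0, 1, 0, 2, 0, 2],
  [1, 0, 2, 0, 1, 0, 1, 0, 2, 0, 1, 0, 2, 0, 1, 0, 2, 0, 1, 0, 1, 0, 2, 0, 1, 0, 2],
  [1, 0, 2, 0, 1, 0, 1, 0, 2, 0, 2, 0, 1, 0, 2, 0, 1, 0, 1, 0, 2, 0, 2, 0, 1, 0, 2],
  [1, 0, 2, 0, 1, 0, 2, 0, 2, 0, 1, 0, 2, 0, 1, 0, 2, 0, 1, 0, 2, 0, 2, 0, 1, 0, 2],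
  [2, 0, 1, 0, 2, 0, 2, 0, 1, 0, 1, 0, 1, 0, 2, 0, 1, 0, 1, 0, 2, 0, 2, 0, 2, 0, 2],
  [2, 0, 2, 0, 1, 0, 1, 0, 1, 0, 2, 0, 1, 0, 1, 0, 2, 0, 2, 0, 2, 0, 2, 0, 2, 0, 1],
  [2, 0, 2, 0, 2, 0, 2, 0, 1, 0, 1, 0, 2, 0, 1, 0, 2, 0, 2, 0, 1, 0, 1, 0, 1, 0, 1],
  [0, 1, 0, 1, 0, 2, 0, 2, 0, 2, 0, 2, 0, 2, 0, 1, 0, 2, 0, 2, 0, 2, 0, 1, 0, 2, 0, 2],
  [0, 1, 0, 2, 0, 1, 0, 1, 0, 2, 0, 2, 0, 1, 0, 2, 0, 1, 0, 1, 0, 2, 0, 2, 0, 1, 0, 2],
  [0, 2, 0, 1, 0, 2, 0, 2, 0, 1, 0, 1, 0, 1, 0, 2, 0, 1, 0, 1, 0, 2, 0, 2, 0, 2, 0, 2],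
  [0, 2, 0, 2, 0, 1, 0, 1, 0, 1, 0, 2, 0, 1, 0, 1, 0, 2, 0, 2, 0, 2, 0, 2, 0, 2, 0, 1],
  [1, 0, 1, 0, 2, 0, 2, 0, 1, 0, 1, 0, 1, 0, 2, 0, 2, 0, 2, 0, 1, 0, 1, 0, 2, 0, 2, 0],
  [1, 0, 1, 0, 2, 0, 2, 0, 2, 0, 2, 0, 2, 0, 1, 0, 2, 0, 2, 0, 2, 0, 1, 0, 2, 0, 2, 0],
  [1, 0, 2, 0, 1, 0, 1, 0, 2, 0, 1, 0, 1, 0, 1, 0, 2, 0, 2, 0, 1, 0, 1, 0, 2, 0, 2, 0],
  [1, 0, 2, 0, 1, 0, 1, 0, 2, 0, 1, 0, 2, 0, 1, 0, 2, 0, 1, 0, 1, 0, 2, 0, 1, 0, 2, 0],
  [1, 0, 2, 0, 1, 0, 1, 0, 2, 0, 2, 0, 1, 0, 2, 0, 1, 0, 1, 0, 2, 0, 2, 0, 1, 0, 2, 0],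
  [1, 0, 2, 0, 1, 0, 2, 0, 2, 0, 1, 0, 2, 0, 1, 0, 2, 0, 1, 0, 2, 0, 2, 0, 1, 0, 2, 0],
  [2, 0, 1, 0, 2, 0, 2, 0, 1, 0, 1, 0, 1, 0, 2, 0, 1, 0, 1, 0, 2, 0, 2, 0, 2, 0, 2, 0],
  [2, 0, 2, 0, 1, 0, 1, 0, 1, 0, 2, 0, 1, 0, 1, 0, 2, 0, 2, 0, 2, 0, 2, 0, 2, 0, 1, 0],
  [2, 0, 2, 0, 1, 0, 1, 0, 1, 0, 2, 0, 2, 0, 1, 0, 2, 0, 2, 0, 2, 0, 2, 0, 2, 0, 1, 0],
  [0, 1, 0, 1, 0, 2, 0, 2, 0, 1, 0, 1, 0, 1, 0, 2, 0, 2, 0, 2, 0, 1, 0, 1, 0, 2, 0, 2, 0],
  [0, 2, 0, 2, 0, 1, 0, 1, 0, 1, 0, 2, 0, 1, 0, 1, 0, 2, 0, 2, 0, 2, 0, 2, 0, 2, 0, 1, 0],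
  [1, 0, 1, 0, 2, 0, 2, 0, 1, 0, 1, 0, 1, 0, 2, 0, 2, 0, 2, 0, 1, 0, 1, 0, 2, 0, 1, 0, 1],
  [1, 0, 1, 0, 2, 0, 2, 0, 1, 0, 1, 0, 2, 0, 2, 0, 2, 0, 1, 0, 2, 0, 2, 0, 1, 0, 1, 0, 1],
  [2, 0, 1, 0, 1, 0, 2, 0, 2, 0, 1, 0, 1, 0, 2, 0, 1, 0, 2, 0, 2, 0, 1, 0, 1, 0, 1, 0, 1],
  [2, 0, 1, 0, 2, 0, 1, 0, 1, 0, 1, 0, 1, 0, 1, 0, 2, 0, 1, 0, 1, 0, 2, 0, 2, 0, 2, 0, 2],
  [2, 0, 2, 0, 1, 0, 2, 0, 2, 0, 2, 0, 2, 0, 2, 0, 1, 0, 2, 0, 2, 0, 2, 0, 1, 0, 2, 0, 2],
  [2, 0, 2, 0, 2, 0, 1, 0, 1, 0, 2, 0, 1, 0, 2, 0, 1, 0, 2, 0, 1, 0, 1, 0, 2, 0, 1, 0, 2],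
  [0, 2, 0, 1, 0, 2, 0, 1, 0, 1, 0, 1, 0, 1, 0, 1, 0, 2, 0, 1, 0, 1, 0, 2, 0, 2, 0, 2, 0, 2],
  [1, 0, 1, 0, 2, 0, 2, 0, 1, 0, 1, 0, 1, 0, 2, 0, 2, 0, 2, 0, 1, 0, 1, 0, 2, 0, 1, 0, 1, 0],
  [1, 0, 1, 0, 2, 0, 2, 0, 1, 0, 1, 0, 2, 0, 2, 0, 2, 0, 1, 0, 2, 0, 2, 0, 1, 0, 1, 0, 1, 0],
  [1, 0, 2, 0, 1, 0, 1, 0, 2, 0, 2, 0, 1, 0, 2, 0, 1, 0, 1, 0, 2, 0, 2, 0, 1, 0, 1, 0, 1, 0],
  [2, 0, 1, 0, 1, 0, 1, 0, 1, 0, 1, 0, 2, 0, 1, 0, 1, 0, 2, 0, 2, 0, 2, 0, 2, 0, 2, 0, 1, 0],
  [2, 0, 1, 0, 1, 0, 1, 0, 1, 0, 1, 0, 2, 0, 2, 0, 1, 0, 2, 0, 2, 0, 2, 0, 2, 0, 2, 0, 1, 0],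
  [2, 0, 2, 0, 1, 0, 2, 0, 2, 0, 1, 0, 1, 0, 1, 0, 2, 0, 2, 0, 2, 0, 1, 0, 1, 0, 2, 0, 2, 0],
  [2, 0, 2, 0, 1, 0, 2, 0, 2, 0, 2, 0, 2, 0, 2, 0, 1, 0, 2, 0, 2, 0, 2, 0, 1, 0, 2, 0, 2, 0],
  [2, 0, 2, 0, 2, 0, 1, 0, 1, 0, 2, 0, 1, 0, 1, 0, 1, 0, 2, 0, 2, 0, 1, 0, 1, 0, 2, 0, 2, 0],
  [2, 0, 2, 0, 2, 0, 1, 0, 1, 0, 2, 0, 2, 0, 1, 0, 2, 0, 1, 0, 1, 0, 2, 0, 2, 0, 1, 0, 2, 0],
  [0, 1, 0, 1, 0, 2, 0, 2, 0, 1, 0, 1, 0, 2, 0, 2, 0, 2, 0, 1, 0, 2, 0, 2, 0, 1, 0, 1, 0, 1, 0],
  [0, 2, 0, 1, 0, 1, 0, 1, 0, 1, 0, 1, 0, 2, 0, 1, 0, 1, 0, 2, 0, 2, 0, 2, 0, 2, 0, 2, 0, 1, 0],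
  [0, 2, 0, 1, 0, 1, 0, 1, 0, 1, 0, 1, 0, 2, 0, 2, 0, 1, 0, 2, 0, 2, 0, 2, 0, 2, 0, 2, 0, 1, 0],
  [0, 2, 0, 2, 0, 1, 0, 2, 0, 2, 0, 1, 0, 1, 0, 1, 0, 2, 0, 2, 0, 2, 0, 1, 0, 1, 0, 2, 0, 2, 0],
  [1, 0, 2, 0, 1, 0, 2, 0, 1, 0, 2, 0, 1, 0, 1, 0, 2, 0, 1, 0, 1, 0, 1, 0, 2, 0, 1, 0, 1, 0, 1],
  [1, 0, 2, 0, 1, 0, 2, 0, 1, 0, 2, 0, 1, 0, 2, 0, 2, 0, 2, 0, 2, 0, 2, 0, 2, 0, 2, 0, 1, 0, 2],
  [1, 0, 2, 0, 2, 0, 1, 0, 2, 0, 2, 0, 2, 0, 2, 0, 2, 0, 2, 0, 2, 0, 1, 0, 1, 0, 1, 0, 1, 0, 2],
  [1, 0, 2, 0, 2, 0, 2, 0, 1, 0, 1, 0, 2, 0, 2, 0, 1, 0, 2, 0, 1, 0, 2, 0, 1, 0, 1, 0, 1, 0, 1],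
  [1, 0, 1, 0, 2, 0, 1, 0, 1, 0, 2, 0, 2, 0, 2, 0, 1, 0, 1, 0, 1, 0, 2, 0, 2, 0, 1, 0, 2, 0, 2,
  0],
  [1, 0, 2, 0, 1, 0, 2, 0, 1, 0, 2, 0, 1, 0, 2, 0, 2, 0, 2, 0, 2, 0, 2, 0, 2, 0, 2, 0, 1, 0, 2,
  0],
  [1, 0, 2, 0, 2, 0, 2, 0, 1, 0, 1, 0, 2, 0, 2, 0, 1, 0, 2, 0, 1, 0, 2, 0, 1, 0, 1, 0, 1, 0, 1,
  0],
  [2, 0, 2, 0, 2, 0, 1, 0, 1, 0, 2, 0, 2, 0, 1, 0, 2, 0, 1, 0, 1, 0, 2, 0, 2, 0, 1, 0, 1, 0, 1,
  0],
  [0, 1, 0, 2, 0, 1, 0, 2, 0, 1, 0, 2, 0, 1, 0, 2, 0, 2, 0, 2, 0, 2, 0, 2, 0, 2, 0, 2, 0, 1, 0,
  2, 0],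
  [0, 2, 0, 2, 0, 2, 0, 1, 0, 1, 0, 2, 0, 2, 0, 1, 0, 2, 0, 1, 0, 1, 0, 2, 0, 2, 0, 1, 0, 1, 0,
  1, 0],
  [2, 0, 2, 0, 2, 0, 1, 0, 2, 0, 1, 0, 2, 0, 1, 0, 2, 0, 2, 0, 2, 0, 2, 0, 2, 0, 2, 0, 2, 0, 1,
  0, 2],
  [2, 0, 2, 0, 2, 0, 2, 0, 1, 0, 2, 0, 2, 0, 2, 0, 2, 0, 2, 0, 2, 0, 2, 0, 1, 0, 1, 0, 1, 0, 1,
  0, 2],
  [2, 0, 2, 0, 2, 0, 2, 0, 2, 0, 1, 0, 1, 0, 2, 0, 2, 0, 1, 0, 2, 0, 1, 0, 2, 0, 1, 0, 1, 0, 1,
  0, 1],
  [0, 2, 0, 2, 0, 2, 0, 1, 0, 2, 0, 1, 0, 2, 0, 1, 0, 2, 0, 2, 0, 2, 0, 2, 0, 2, 0, 2, 0, 2, 0,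
  1, 0, 2],
  [2, 0, 2, 0, 2, 0, 1, 0, 2, 0, 1, 0, 2, 0, 1, 0, 2, 0, 2, 0, 2, 0, 2, 0, 2, 0, 2, 0, 2, 0, 1,
  0, 2, 0],
  [2, 0, 2, 0, 2, 0, 2, 0, 2, 0, 1, 0, 1, 0, 2, 0, 2, 0, 1, 0, 2, 0, 1, 0, 2, 0, 1, 0, 1, 0, 1,
  0, 1, 0]] 

theorem wl_length : wl.length = 90 := by decide +kernel

theorem wl_fix : (wl.all fun w => Nat.beq (actG Ax Ay w 165) 165) = true := by ((try (rewrite [Cfsg.Agent.LsF.fd7180f_1.2, Cfsg.Agent.LsF.all_eq])); decide +kernel)

theorem wl_nodup : (wl.map fun w => actG Ax Ay w 873).Nodup := by (refine of_decide_eq_true ?_; (try (rewrite [Cfsg.Agent.NodupNat.dec_eq, Cfsg.Agent.LsF.fd7180f_1.2, Cfsg.Agent.LsF.map_eq, Cfsg.Agent.LsF.decide_eq])); decide +kernel)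

/-! ### General lemmas -/

section general

variable {H : Type*} [Group H] [Finite H]

theorem le_index (A : Subgroup H) {n : ℕ} (g : Fin n → H)
    (h : ∀ i j, (g i)⁻¹ * g j ∈ A → i = j) : n ≤ A.index := by
  have hinj : Function.Injective (fun i => (g i : H ⧸ A)) := by
    intro i j hij
    exact h i j (QuotientGroup.eq.1 hij)
  have h1 := Nat.card_le_card_of_injective _ hinj
  rwa [Nat.card_fin] at h1

omit [Finite H] in
theorem index_le (A : Subgroup H) {T : Type*} [Finite T] (f : H → T)
    (h : ∀ a b, f a = f b → a⁻¹ * b ∈ A) : A.index ≤ Nat.card T := by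
  have hinj : Function.Injective (fun q : H ⧸ A => f q.out) := by
    intro p q hpq
    have h1 := h _ _ hpq
    rw [← QuotientGroup.out_eq' p, ← QuotientGroup.out_eq' q]
    exact QuotientGroup.eq.2 h1
  exact Nat.card_le_card_of_injective _ hinj

end general

/-! ### Stabilizers -/

theorem conj_word (w : List ℕ) (v : ℕ) :
    phi (wordG w) * V v * (phi (wordG w))⁻¹ = V (actG Ax Ay w v) := by
  apply rho_injective
  rw [map_mul, map_mul, map_inv, rho_V, rho_V]
  exact act_word w v

/-- the stabilizer of a vector -/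
noncomputable def St (v : ℕ) : Subgroup M24 :=
  (Subgroup.centralizer ({V v} : Set 𝒢)).comap phi

theorem mem_St {v : ℕ} {m : M24} : m ∈ St v ↔ phi m * V v * (phi m)⁻¹ = V v := by
  unfold St
  rw [Subgroup.mem_comap, Subgroup.mem_centralizer_singleton_iff, mul_inv_eq_iff_eq_mul]

/-- two elements mapping `V v` to the same element -/
theorem mem_St_of {v : ℕ} {m n : M24}
    (h : phi m * V v * (phi m)⁻¹ = phi n * V v * (phi n)⁻¹) : m⁻¹ * n ∈ St v := by
  rw [mem_St, map_mul, map_inv]
  have e : (phi m)⁻¹ * phi n * V v * ((phi m)⁻¹ * phi n)⁻¹ =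
      (phi m)⁻¹ * (phi n * V v * (phi n)⁻¹) * phi m := by group
  rw [e, ← h]
  group

theorem eq_of_mem_St {v : ℕ} {m n : M24} (h : m⁻¹ * n ∈ St v) :
    phi m * V v * (phi m)⁻¹ = phi n * V v * (phi n)⁻¹ := by
  rw [mem_St, map_mul, map_inv] at h
  conv_lhs => rw [← h]
  group

theorem pos_arr : ((List.range 1771).all fun i =>
    Nat.beq (tget pos 11 (tget arr 11 i)) i) = true := by decide +kernel

theorem arr_lt : ((List.range 1771).all fun i => Nat.blt (tget arr 11 i) 2048) = true := by
  decide +kernel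

/-- the orbit of the sextets -/
theorem exists_arr (i : ℕ) (hi : i < 1771) :
    ∃ m : M24, V (tget arr 11 i) = phi m * V 165 * (phi m)⁻¹ := by
  have h0 : ∀ i < 1771, ∃ m : M24, V (tget arr 11 i) = phi m * V 1024 * (phi m)⁻¹ := by
    intro i hi
    obtain ⟨m, hm⟩ := Cfsg.Agent.J4.Invol.conj_arr hyp i (by omega)
    rw [if_pos hi] at hm
    refine ⟨m, rho_injective ?_⟩
    rw [map_mul, map_mul, map_inv, rho_V, rho_V]
    exact hm
  have h1 : tget arr 11 (tget pos 11 165) = 165 := by decide +kernel
  have h2 : tget pos 11 165 < 1771 := by decide +kernel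
  obtain ⟨n, hn⟩ := h0 _ h2
  rw [h1] at hn
  obtain ⟨m, hm⟩ := h0 i hi
  refine ⟨m * n⁻¹, ?_⟩
  rw [hm, hn, map_mul, map_inv]
  group

theorem index_St : 1771 ≤ (St 165).index := by
  have hsel : ∀ i : Fin 1771, ∃ m : M24, V (tget arr 11 i) = phi m * V 165 * (phi m)⁻¹ :=
    fun i => exists_arr i i.2
  choose g hg using hsel
  refine le_index _ g fun i j hij => ?_
  have h1 := eq_of_mem_St hij
  rw [← hg, ← hg] at h1
  have hlt := arr_lt
  rw [List.all_eq_true] at hlt
  have h2 : ∀ i : Fin 1771, tget arr 11 i < 2048 := fun i => by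
    have h3 := hlt i (List.mem_range.2 i.2)
    rwa [Nat.blt_eq] at h3
  have h3 := V_inj (h2 i) (h2 j) h1
  have hp := pos_arr
  rw [List.all_eq_true] at hp
  have h4 := hp i (List.mem_range.2 i.2)
  have h5 := hp j (List.mem_range.2 j.2)
  rw [Nat.beq_eq] at h4 h5
  exact Fin.ext (by rw [← h4, ← h5, h3])

theorem card_St_le : Nat.card (St 165) ≤ 138240 := by
  have h1 := (St 165).card_mul_index
  rw [Cfsg.Agent.H858.FixJ4.card_M24] at h1
  have h2 := index_St
  have h3 := Nat.mul_le_mul_left (Nat.card (St 165)) h2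
  rw [h1] at h3
  generalize Nat.card (St 165) = n at h3 ⊢
  omega

theorem fix_of_mem {w : List ℕ} (hw : w ∈ wl) : wordG w ∈ St 165 := by
  have h := wl_fix
  rw [List.all_eq_true] at h
  have h1 := h w hw
  rw [Nat.beq_eq] at h1
  rw [mem_St, conj_word, h1]

theorem card_St2_le : Nat.card (St 165 ⊓ St 873 : Subgroup M24) ≤ 1536 := by
  set A : Subgroup (St 165) := (St 873).subgroupOf (St 165) with hA
  have h1 : 90 ≤ A.index := by
    have hlen := wl_length
    refine le_index A (fun i : Fin 90 => (⟨wordG (wl[(i : ℕ)]'(by rw [hlen]; exact i.2)),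
      fix_of_mem (List.getElem_mem _)⟩ : St 165)) fun i j hij => ?_
    rw [hA, Subgroup.mem_subgroupOf] at hij
    have h2 := eq_of_mem_St (v := 873) hij
    rw [conj_word, conj_word] at h2
    have hlt : ∀ w : List ℕ, actG Ax Ay w 873 < 2048 := by
      intro w
      have h4 : ∀ w : List ℕ, ∀ v < 2048, actG Ax Ay w v < 2048 := by
        intro w
        induction w with
        | nil => exact fun v hv => hv
        | cons a w ih =>
          intro v hv
          have hx : ∀ a ∈ Ax, a < 2048 := by decide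
          have hy : ∀ a ∈ Ay, a < 2048 := by decide
          show (bif Nat.beq a 0 then lin Ax (actG Ax Ay w v) else
            bif Nat.beq a 1 then lin Ay (lin Ay (actG Ax Ay w v)) else lin Ay (actG Ax Ay w v))
              < 2048
          rcases Nat.beq a 0 with _ | _
          · rcases Nat.beq a 1 with _ | _
            · exact lin_lt hy _
            · exact lin_lt hy _
          · exact lin_lt hx _
      exact h4 w 873 (by norm_num)
    have h3 := V_inj (hlt _) (hlt _) h2
    have h5 := wl_nodup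
    rw [List.nodup_iff_injective_getElem] at h5
    have h6 : (⟨i, by rw [List.length_map, hlen]; exact i.2⟩ :
        Fin (wl.map fun w => actG Ax Ay w 873).length) =
        ⟨j, by rw [List.length_map, hlen]; exact j.2⟩ := by
      apply h5
      simp only [List.getElem_map]
      exact h3
    exact Fin.ext (congrArg (fun z : Fin _ => (z : ℕ)) h6)
  have h2 := A.card_mul_index
  have h3 : Nat.card A = Nat.card (St 165 ⊓ St 873 : Subgroup M24) := by
    rw [hA, card_inf_eq, inf_comm]
  have h4 := card_St_le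
  rw [← h2, h3] at h4
  have h5 := Nat.mul_le_mul_left (Nat.card (St 165 ⊓ St 873 : Subgroup M24)) h1
  omega

theorem K_NZ {k : M24} (hk : k ∈ Cfsg.Agent.J4.TrioAll.K) :
    phi k ∈ Subgroup.normalizer (Z : Set 𝒢) := NL_le_NZ (K_NL hk)

theorem St2_le : St 165 ⊓ St 873 ≤ Cfsg.Agent.J4.TrioAll.K := by
  set K := Cfsg.Agent.J4.TrioAll.K with hK
  set A : Subgroup K := (St 165 ⊓ St 873).subgroupOf K with hA
  have hm : ∀ (k : K) (v : Z), phi k * (v : 𝒢) * (phi k)⁻¹ ∈ Z := fun k v =>
    (Subgroup.mem_normalizer_iff.1 (K_NZ k.2) v).1 v.2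
  have hZ1 : V 165 ∈ Z := V_mem_Z 1 (by decide)
  have hZ2 : V 873 ∈ Z := V_mem_Z 2 (by decide)
  have h1 : A.index ≤ 64 := by
    have h2 := index_le A (T := Z × Z) (fun k => (⟨_, hm k ⟨_, hZ1⟩⟩, ⟨_, hm k ⟨_, hZ2⟩⟩)) (by
      intro a b hab
      rw [Prod.mk.injEq, Subtype.mk.injEq, Subtype.mk.injEq] at hab
      rw [hA, Subgroup.mem_subgroupOf]
      exact Subgroup.mem_inf.2 ⟨mem_St_of hab.1, mem_St_of hab.2⟩)
    rw [Nat.card_prod, card_Z] at h2
    exact h2
  have h2 := A.card_mul_index
  have h3 : Nat.card A = Nat.card ((St 165 ⊓ St 873) ⊓ K : Subgroup M24) := card_inf_eq _ _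
  rw [card_K, h3] at h2
  have h4 := Nat.mul_le_mul_left (Nat.card ((St 165 ⊓ St 873) ⊓ K : Subgroup M24)) h1
  have h5 := card_St2_le
  have h6 : Nat.card ((St 165 ⊓ St 873) ⊓ K : Subgroup M24) ∣
      Nat.card (St 165 ⊓ St 873 : Subgroup M24) := Subgroup.card_dvd_of_le inf_le_left
  have h7 : Nat.card ((St 165 ⊓ St 873) ⊓ K : Subgroup M24) =
      Nat.card (St 165 ⊓ St 873 : Subgroup M24) := by
    obtain ⟨c, hc⟩ := h6
    have h8 : 0 < Nat.card (St 165 ⊓ St 873 : Subgroup M24) := Nat.card_pos
    have h9 : c < 2 := by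
      by_contra h
      have h10 := Nat.mul_le_mul_left (Nat.card ((St 165 ⊓ St 873) ⊓ K : Subgroup M24))
        (not_lt.1 h)
      omega
    interval_cases c
    · omega
    · omega
  have h8 : (St 165 ⊓ St 873) ⊓ K = St 165 ⊓ St 873 :=
    Subgroup.eq_of_le_of_card_ge inf_le_left h7.ge
  rw [← h8]
  exact inf_le_right

/-! ### Transitivity on pairs -/

theorem full_J : Full J Z := by
  intro φ
  obtain ⟨x, hx⟩ := πJ_surjective φ
  refine ⟨x, x.2, fun v => ?_⟩
  rw [← hx]
  rfl

theorem J_le_X0 : J ≤ X0 := by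
  unfold J
  rw [Subgroup.closure_le]
  have hK : ∀ k ∈ Cfsg.Agent.J4.TrioAll.K, phi k ∈ X0 := fun k hk =>
    (le_sup_right : _ ≤ X0) ⟨k, hk, rfl⟩
  rintro _ (rfl | rfl)
  · exact hK _ (kw_mem _)
  · exact X0.mul_mem ((le_sup_left : _ ≤ X0) (V_mem _)) (hK _ (kw_mem _))

theorem Z_le_EJ : Z ≤ Cfsg.Agent.J4.Invol.EJ := span_le fun a _ => V_mem a

theorem EJ_comm' {a b : 𝒢} (ha : a ∈ Cfsg.Agent.J4.Invol.EJ) (hb : b ∈ Cfsg.Agent.J4.Invol.EJ) :
    a * b = b * a := Cfsg.Agent.J4.Invol.EJ_comm rho_injective a b ha hb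

theorem exists_K {u v : 𝒢} (hu : u ∈ Z) (hv : v ∈ Z) (hu1 : u ≠ 1) (hv1 : v ≠ 1) (huv : u ≠ v) :
    ∃ k ∈ Cfsg.Agent.J4.TrioAll.K, phi k * V 165 * (phi k)⁻¹ = u ∧
      phi k * V 873 * (phi k)⁻¹ = v := by
  have hZ1 : V 165 ∈ Z := V_mem_Z 1 (by decide)
  have hZ2 : V 873 ∈ Z := V_mem_Z 2 (by decide)
  have hne : ∀ a b : ℕ, a < 2048 → b < 2048 → a ≠ b → V a ≠ V b := fun a b ha hb hab h =>
    hab (V_inj ha hb h)
  have n1 : V 165 ≠ 1 := by
    rw [← V_zero]
    exact hne _ _ (by norm_num) (by norm_num) (by norm_num)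
  have n2 : V 873 ≠ 1 := by
    rw [← V_zero]
    exact hne _ _ (by norm_num) (by norm_num) (by norm_num)
  have n3 : V 873 ≠ V 165 := hne _ _ (by norm_num) (by norm_num) (by norm_num)
  obtain ⟨w, b⟩ := oct_Z.exists_bas' hZ1 n1 hZ2 n2 n3
  obtain ⟨w', b'⟩ := oct_Z.exists_bas' hu hu1 hv hv1 huv.symm
  obtain ⟨x, hx, -, h1, h2, -⟩ := full_J.bas oct_Z b b'
  have hn : Cfsg.Agent.J4.TrioAll.K.map phi ≤
      Subgroup.normalizer (Cfsg.Agent.J4.Invol.EJ : Set 𝒢) :=
    (Subgroup.map_le_range phi _).trans phi_norm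
  obtain ⟨e, he, _, ⟨k, hk, rfl⟩, rfl⟩ := Cfsg.Agent.H858.Abs.exists_mul_of_mem_sup hn (J_le_X0 hx)
  have key : ∀ z ∈ Z, e * phi k * z * (e * phi k)⁻¹ = phi k * z * (phi k)⁻¹ := by
    intro z hz
    have h3 : phi k * z * (phi k)⁻¹ ∈ Cfsg.Agent.J4.Invol.EJ :=
      (Subgroup.mem_normalizer_iff.1 (phi_norm ⟨k, rfl⟩) z).1 (Z_le_EJ hz)
    have h4 := EJ_comm' he h3
    calc e * phi k * z * (e * phi k)⁻¹ = e * (phi k * z * (phi k)⁻¹) * e⁻¹ := by group
      _ = _ := by rw [h4]; group
  refine ⟨k, hk, ?_, ?_⟩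
  · rw [← key _ hZ1]; exact h1
  · rw [← key _ hZ2]; exact h2

/-- **two sextets refining a trio determine it** -/
theorem line_unique {m : M24} {u v u' v' : 𝒢} (hu : u ∈ Z) (hv : v ∈ Z) (hu1 : u ≠ 1)
    (hv1 : v ≠ 1) (huv : u ≠ v) (hu' : u' ∈ Z) (hv' : v' ∈ Z)
    (h1 : phi m * u' * (phi m)⁻¹ = u) (h2 : phi m * v' * (phi m)⁻¹ = v) :
    m ∈ Cfsg.Agent.J4.TrioAll.K := by
  obtain ⟨k, hk, ku, kv⟩ := exists_K hu hv hu1 hv1 huv
  obtain ⟨k', hk', ku', kv'⟩ := exists_K hu' hv' (by
    rintro rfl
    apply hu1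
    rw [← h1]; group) (by
    rintro rfl
    apply hv1
    rw [← h2]; group) (by
    rintro rfl
    exact huv (h1.symm.trans h2))
  have h3 : k⁻¹ * (m * k') ∈ St 165 ⊓ St 873 := by
    rw [Subgroup.mem_inf]
    constructor
    · apply mem_St_of
      rw [ku, map_mul]
      rw [← h1, ← ku']
      group
    · apply mem_St_of
      rw [kv, map_mul]
      rw [← h2, ← kv']
      group
  have h4 := St2_le h3
  have e : m = k * (k⁻¹ * (m * k')) * k'⁻¹ := by group
  rw [e]
  exact Subgroup.mul_mem _ (Subgroup.mul_mem _ hk h4) (Subgroup.inv_mem _ hk')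

end Cfsg.Agent.H825.JM
end

-- part: H825/JM/Lines
section
/-!
# The lines of the 2-local geometry of `J4`: (F6)

`f6`: (F6) of `Cfsg.Agent.H860.JM.Geom`, from (F5).
-/

set_option autoImplicit false

open Cfsg

namespace Cfsg.Agent.H825.JM

open Cfsg.Agent.Lib Cfsg.Agent.Lib.F2MatGroup
open Cfsg.Agent.J4.Rep112 Cfsg.Agent.J4.Pres Cfsg.Agent.J4.M24Hom Cfsg.Agent.J4.Nodes
open Cfsg.Agent.J4.Beta Cfsg.Agent.J4.Classes Cfsg.Agent.J4.ClassesData
open Cfsg.Agent.J4.NonConj Cfsg.Agent.J4.NonConjData Cfsg.Agent.J4.ClassesAbs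
open Cfsg.Agent.H858.VK Cfsg.Agent.H858.Data Cfsg.Agent.H858.Elem Cfsg.Agent.H858.Pent
open Cfsg.Agent.H858.Loc7 Cfsg.Agent.H858.Loc5 Cfsg.Agent.H858.NormL Cfsg.Agent.StdL2.G23Aut
open Cfsg.Agent.H860.JM

/-- the group `Spor.J4` -/
local notation "𝒢" => Cfsg.Spor.J4

/-- the group `2^11` -/
local notation "𝓔" => Cfsg.Agent.J4.Invol.EJ

/-! ### Conjugation of subgroups -/

section conj

variable {G : Type*} [Group G]

theorem mem_cj {g x : G} {H : Subgroup G} : x ∈ cj g H ↔ g⁻¹ * x * g ∈ H := by
  constructor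
  · rintro ⟨y, hy, rfl⟩
    have e : g⁻¹ * (g * y * g⁻¹) * g = y := by group
    show g⁻¹ * (g * y * g⁻¹) * g ∈ H
    rw [e]
    exact hy
  · intro h
    refine ⟨_, h, ?_⟩
    show g * (g⁻¹ * x * g) * g⁻¹ = x
    group

theorem cj_cj (g h : G) (H : Subgroup G) : cj g (cj h H) = cj (g * h) H := by
  ext x
  rw [mem_cj, mem_cj, mem_cj]
  have e : h⁻¹ * (g⁻¹ * x * g) * h = (g * h)⁻¹ * x * (g * h) := by group
  rw [e]

theorem cj_one (H : Subgroup G) : cj 1 H = H := by
  ext x
  rw [mem_cj]
  simp

theorem cj_inv_cj (g : G) (H : Subgroup G) : cj g⁻¹ (cj g H) = H := by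
  rw [cj_cj, inv_mul_cancel, cj_one]

theorem cj_cj_inv (g : G) (H : Subgroup G) : cj g (cj g⁻¹ H) = H := by
  rw [cj_cj, mul_inv_cancel, cj_one]

theorem cj_mono {g : G} {H K : Subgroup G} (h : H ≤ K) : cj g H ≤ cj g K :=
  Subgroup.map_mono h

theorem cj_le_iff {g : G} {H K : Subgroup G} : cj g H ≤ K ↔ H ≤ cj g⁻¹ K := by
  constructor
  · intro h
    rw [← cj_inv_cj g H]
    exact cj_mono h
  · intro h
    rw [← cj_cj_inv g K]
    exact cj_mono h

theorem cj_inj {g : G} {H K : Subgroup G} (h : cj g H = cj g K) : H = K := by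
  rw [← cj_inv_cj g H, h, cj_inv_cj]

theorem cj_eq_iff {g : G} {H : Subgroup G} : cj g H = H ↔ g ∈ Subgroup.normalizer (H : Set G) := by
  rw [Subgroup.mem_normalizer_iff]
  constructor
  · intro h x
    constructor
    · intro hx
      rw [← h, mem_cj]
      have e : g⁻¹ * (g * x * g⁻¹) * g = x := by group
      rw [e]
      exact hx
    · intro hx
      rw [← h, mem_cj] at hx
      have e : g⁻¹ * (g * x * g⁻¹) * g = x := by group
      rwa [e] at hx
  · intro h
    ext x
    rw [mem_cj, h]
    have e : g * (g⁻¹ * x * g) * g⁻¹ = x := by group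
    rw [e]

theorem card_cj (g : G) (H : Subgroup G) : Nat.card (cj g H) = Nat.card H :=
  Subgroup.card_map_of_injective (MulAut.conj g).injective

/-- `|A| |B| ≤ |A ∩ B| |Q|` for subgroups of `Q` -/
theorem card_mul_card_le [Finite G] {A B Q : Subgroup G} (hA : A ≤ Q) (hB : B ≤ Q) :
    Nat.card A * Nat.card B ≤ Nat.card (A ⊓ B : Subgroup G) * Nat.card Q := by
  have h1 : A.relIndex B ≤ A.relIndex Q :=
    Subgroup.relIndex_le_of_le_right hB (Subgroup.index_ne_zero_of_finite)
  have h2 : Nat.card (A ⊓ B : Subgroup G) * A.relIndex B = Nat.card B := by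
    have h := (A.subgroupOf B).card_mul_index
    rw [card_inf_eq] at h
    exact h
  have h3 : Nat.card A * A.relIndex Q = Nat.card Q := by
    have h := (A.subgroupOf Q).card_mul_index
    rw [Nat.card_congr (Subgroup.subgroupOfEquivOfLe hA).toEquiv] at h
    exact h
  rw [← h2, ← h3]
  calc Nat.card A * (Nat.card (A ⊓ B : Subgroup G) * A.relIndex B)
      = Nat.card (A ⊓ B : Subgroup G) * (Nat.card A * A.relIndex B) := by ring
    _ ≤ Nat.card (A ⊓ B : Subgroup G) * (Nat.card A * A.relIndex Q) :=
      Nat.mul_le_mul_left _ (Nat.mul_le_mul_left _ h1)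

/-- the number of conjugates -/
theorem ncard_conj [Finite G] (N H : Subgroup G) :
    {P | ∃ n ∈ N, P = cj n H}.ncard = (Subgroup.normalizer (H : Set G)).relIndex N := by
  set S : Set (Subgroup G) := {P | ∃ n ∈ N, P = cj n H} with hS
  let f : N ⧸ (Subgroup.normalizer (H : Set G)).subgroupOf N → S :=
    Quotient.lift (fun n : N => (⟨cj (n : G) H, n, n.2, rfl⟩ : S)) (by
      intro a b hab
      have h1 : a⁻¹ * b ∈ (Subgroup.normalizer (H : Set G)).subgroupOf N :=
        QuotientGroup.leftRel_apply.1 hab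
      rw [Subgroup.mem_subgroupOf, ← cj_eq_iff] at h1
      apply Subtype.ext
      show cj (a : G) H = cj (b : G) H
      have h2 : cj (a : G) (cj ((a⁻¹ * b : N) : G) H) = cj (a : G) H := by rw [h1]
      rw [cj_cj] at h2
      rw [← h2]
      congr 2
      show (a : G) * ((a : G)⁻¹ * b) = b
      group)
  have hf : Function.Bijective f := by
    constructor
    · intro p q
      induction p using QuotientGroup.induction_on with
      | H a =>
      induction q using QuotientGroup.induction_on with
      | H b =>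
      intro h
      have h1 : cj (a : G) H = cj (b : G) H := congrArg Subtype.val h
      rw [QuotientGroup.eq, Subgroup.mem_subgroupOf, ← cj_eq_iff]
      show cj ((a : G)⁻¹ * b) H = H
      rw [← cj_cj, ← h1, cj_inv_cj]
    · rintro ⟨P, n, hn, rfl⟩
      exact ⟨QuotientGroup.mk ⟨n, hn⟩, rfl⟩
  show S.ncard = _
  rw [← Nat.card_coe_set_eq, ← Nat.card_congr (Equiv.ofBijective f hf)]
  rfl

end conj

/-! ### The normalizer of `2^11` -/

theorem V_conj_d : ∃ m : M24, V 1010 = phi m * Cfsg.Agent.J4.Invol.d * (phi m)⁻¹ := by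
  have h1 : tget arr 11 (tget pos 11 1010) = 1010 := by decide +kernel
  have h2 : tget pos 11 1010 < 2047 := by decide +kernel
  have h3 : ¬ tget pos 11 1010 < 1771 := by decide +kernel
  obtain ⟨m, hm⟩ := Cfsg.Agent.J4.Invol.conj_arr hyp _ h2
  rw [h1, if_neg h3] at hm
  refine ⟨m, rho_injective ?_⟩
  rw [map_mul, map_mul, map_inv, rho_V, Cfsg.Agent.J4.Invol.rho_d]
  exact hm

theorem tJ_eq : Cfsg.Agent.H440.J4P.Mats.tJ = V 1010 := by
  apply rho_injective
  rw [rho_V]
  exact Cfsg.Agent.H440.J4P.Mats.rho_eJ 1010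

theorem EJ_le_B : 𝓔 ≤ Cfsg.Agent.H858.FixJ4.B := fun e he =>
  mem_B.2 ⟨e, he, 1, by rw [map_one, mul_one]⟩

theorem phi_mem_B (m : M24) : phi m ∈ Cfsg.Agent.H858.FixJ4.B :=
  mem_B.2 ⟨1, Subgroup.one_mem _, m, by rw [one_mul]⟩

/-- the normalizer of `2^11` is `2^11 : M24` -/
theorem normalizer_EJ : Subgroup.normalizer (𝓔 : Set 𝒢) = Cfsg.Agent.H858.FixJ4.B := by
  apply le_antisymm
  · intro x hx
    obtain ⟨m0, hm0⟩ := V_conj_d
    have h1 : x * V 1010 * x⁻¹ ∈ 𝓔 := (Subgroup.mem_normalizer_iff.1 hx _).1 (V_mem _)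
    have h2 : x * V 1010 * x⁻¹ ≠ 1 := by
      intro h
      have h3 : V 1010 = V 0 := by
        rw [V_zero]
        calc V 1010 = x⁻¹ * (x * V 1010 * x⁻¹) * x := by group
          _ = 1 := by rw [h]; group
      exact absurd (V_inj (by norm_num) (by norm_num) h3) (by norm_num)
    have h3 : ∃ m : M24, x * V 1010 * x⁻¹ = phi m * Cfsg.Agent.J4.Invol.d * (phi m)⁻¹ := by
      obtain ⟨m, hm | hm⟩ := Cfsg.Agent.J4.Invol.EJ_cases rho_injective _ h1 h2
      · exfalso
        apply Cfsg.Agent.J4.Invol.not_isConj_s_d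
        rw [isConj_iff]
        refine ⟨(x * phi m0)⁻¹ * phi m, ?_⟩
        have e : (x * phi m0)⁻¹ * phi m * Cfsg.Agent.J4.Invol.s * ((x * phi m0)⁻¹ * phi m)⁻¹ =
            (x * phi m0)⁻¹ * (phi m * Cfsg.Agent.J4.Invol.s * (phi m)⁻¹) * (x * phi m0) := by
          group
        rw [e, ← hm, hm0]
        group
      · exact ⟨m, hm⟩
    obtain ⟨m, hm⟩ := h3
    have h4 : (phi (m * m0⁻¹))⁻¹ * x * V 1010 = V 1010 * ((phi (m * m0⁻¹))⁻¹ * x) := by
      have e : x * V 1010 = x * V 1010 * x⁻¹ * x := by group
      rw [mul_assoc, e, hm, hm0, map_mul, map_inv]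
      group
    rw [← tJ_eq] at h4
    obtain ⟨v, -, k, -, hk⟩ := Cfsg.Agent.H440.J4P.Cent.cent_t h4
    have e : x = phi (m * m0⁻¹) * (Cfsg.Agent.H440.J4P.Mats.eJ v * phi k) := by
      rw [← hk]; group
    rw [e]
    exact Subgroup.mul_mem _ (phi_mem_B _) (Subgroup.mul_mem _
      (EJ_le_B (Cfsg.Agent.H440.J4P.Mats.eJ_mem v)) (phi_mem_B _))
  · intro x hx
    obtain ⟨e, he, k, rfl⟩ := mem_B.1 hx
    exact Subgroup.mul_mem _ (Subgroup.le_normalizer he) (phi_norm ⟨k, rfl⟩)

theorem t_notMem_B : (t : 𝒢) ∉ Cfsg.Agent.H858.FixJ4.B := by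
  intro ht
  have h1 : Cfsg.Agent.H858.FixJ4.S 1 = ⊤ := by
    rw [eq_top_iff]
    intro u _
    rw [Cfsg.Agent.H858.FixJ4.mem_S]
    have h2 : Cfsg.Agent.H858.FixJ4.r 1 = t := mul_one _
    rw [h2]
    exact Subgroup.mul_mem _ (Subgroup.mul_mem _ ht (phi_mem_B u)) (Subgroup.inv_mem _ ht)
  have h2 := Cfsg.Agent.H858.FixJ4.card_S 1
  rw [h1, Subgroup.card_top, Cfsg.Agent.H858.FixJ4.card_M24] at h2
  have h3 : Cfsg.Agent.H858.FixJ4.so ((1 : Fin 20) : ℕ) = 64512 := rfl
  rw [h3] at h2
  exact absurd h2 (by norm_num)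

/-! ### The points containing `Z` -/

theorem hs : Nat.card (Subgroup.centralizer ({Cfsg.Agent.J4.Invol.s} : Set 𝒢)) = 21799895040 :=
  Cfsg.Agent.H440.J4P.Cent.card_cent_s

theorem card_CZ : Nat.card (Subgroup.centralizer (Z : Set 𝒢)) = 3932160 := by
  have h1 := card_NZ
  rw [card_NZ_eq hs] at h1
  omega

theorem t_NZ : (t : 𝒢) ∈ Subgroup.normalizer (Z : Set 𝒢) :=
  NL_le_NZ t_NL

theorem X0_le_NZ : X0 ≤ Subgroup.normalizer (Z : Set 𝒢) :=
  (X0_le_W.trans W_le).trans NL_le_NZ

theorem X0_le_B : X0 ≤ Subgroup.normalizer (𝓔 : Set 𝒢) := by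
  unfold X0
  apply sup_le Subgroup.le_normalizer
  rintro _ ⟨k, -, rfl⟩
  exact phi_norm ⟨k, rfl⟩

/-- exactly five points are conjugate to `2^11` under the normalizer of `Z` -/
theorem ncard_five :
    {P | ∃ n ∈ Subgroup.normalizer (Z : Set 𝒢), P = cj n 𝓔}.ncard = 5 := by
  rw [ncard_conj]
  set N : Subgroup 𝒢 := Subgroup.normalizer (Z : Set 𝒢) with hN
  set E : Subgroup 𝒢 := Subgroup.normalizer (𝓔 : Set 𝒢) with hE
  have h1 : X0.relIndex N = 5 := by
    have h := (X0.subgroupOf N).card_mul_index
    rw [Nat.card_congr (Subgroup.subgroupOfEquivOfLe X0_le_NZ).toEquiv, card_X0] at h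
    have h' : Nat.card N = 660602880 := card_NZ_eq hs
    rw [h'] at h
    have h2 : (X0.subgroupOf N).index = 5 := by omega
    exact h2
  have h2 : E.relIndex N ∣ X0.relIndex N := Subgroup.relIndex_dvd_of_le_left N X0_le_B
  rw [h1] at h2
  rcases (Nat.dvd_prime (by norm_num)).1 h2 with h | h
  · exfalso
    rw [Subgroup.relIndex_eq_one] at h
    have h3 := h t_NZ
    rw [hE, normalizer_EJ] at h3
    exact t_notMem_B h3
  · exact h

theorem EJ_le_CZ : 𝓔 ≤ Subgroup.centralizer (Z : Set 𝒢) := by
  intro x hx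
  obtain ⟨v, -, rfl⟩ := Cfsg.Agent.H858.Data.mem_EJ.1 hx
  exact V_cent v

theorem pt_comm {g a b : 𝒢} (ha : a ∈ cj g 𝓔) (hb : b ∈ cj g 𝓔) : a * b = b * a := by
  rw [mem_cj] at ha hb
  have h := EJ_comm' ha hb
  calc a * b = g * ((g⁻¹ * a * g) * (g⁻¹ * b * g)) * g⁻¹ := by group
    _ = g * ((g⁻¹ * b * g) * (g⁻¹ * a * g)) * g⁻¹ := by rw [h]
    _ = b * a := by group

/-- two different points have at most 8 common elements -/
theorem card_inf_le (h5 : F5 geo) {g h : 𝒢} (hne : cj g 𝓔 ≠ cj h 𝓔) :
    Nat.card (cj g 𝓔 ⊓ cj h 𝓔 : Subgroup 𝒢) ≤ 8 := by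
  rcases h5 _ _ ⟨g, rfl⟩ ⟨h, rfl⟩ hne with h1 | ⟨z, -, h1⟩ | ⟨k, h1⟩
  · rw [h1, Subgroup.card_bot]
    norm_num
  · have h2 : ((cj g 𝓔 ⊓ cj h 𝓔 : Subgroup 𝒢) : Set 𝒢) ⊆ {1, z} := fun x hx => (h1 x).1 hx
    have h3 := Set.ncard_le_ncard h2 (Set.toFinite _)
    have h4 : ({1, z} : Set 𝒢).ncard ≤ 2 := by
      have h := Set.ncard_insert_le (1 : 𝒢) {z}
      rwa [Set.ncard_singleton] at h
    have h5 : ((cj g 𝓔 ⊓ cj h 𝓔 : Subgroup 𝒢) : Set 𝒢).ncard =
      Nat.card (cj g 𝓔 ⊓ cj h 𝓔 : Subgroup 𝒢) := rfl
    omega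
  · rw [h1, card_cj, card_Z]

/-- a subgroup of order `2^k` of a group of order `2^18 * 15` -/
theorem two_group_le {H : Type*} [Group H] [Finite H] (hH : Nat.card H = 3932160)
    {Q : Subgroup H} (hQ : IsPGroup 2 Q) : Nat.card Q ≤ 2 ^ 18 := by
  have : Fact (Nat.Prime 2) := ⟨by norm_num⟩
  obtain ⟨k, hk⟩ := IsPGroup.iff_card.1 hQ
  have h1 : Nat.card Q ∣ 2 ^ 18 * 15 := by
    have h := Q.card_subgroup_dvd_card
    rw [hH] at h
    exact h
  rw [hk] at h1 ⊢
  have h2 : Nat.Coprime (2 ^ k) 15 := Nat.Coprime.pow_left k (by norm_num)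
  exact Nat.le_of_dvd (by norm_num) (h2.dvd_of_dvd_mul_right h1)

/-- the points containing `Z` are conjugate under `C(Z)` -/
theorem exists_cent (h5 : F5 geo) {g : 𝒢} (hZ : Z ≤ cj g 𝓔) :
    ∃ c ∈ Subgroup.centralizer (Z : Set 𝒢), cj g 𝓔 = cj c 𝓔 := by
  have : Fact (Nat.Prime 2) := ⟨by norm_num⟩
  set C : Subgroup 𝒢 := Subgroup.centralizer (Z : Set 𝒢) with hC
  have hPC : cj g 𝓔 ≤ C := by
    intro x hx
    rw [hC, Subgroup.mem_centralizer_iff]
    intro z hz
    exact pt_comm (hZ hz) hx
  have hE2 : IsPGroup 2 (Subgroup.subgroupOf 𝓔 C) :=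
    isPGroup_EJ.of_equiv (Subgroup.subgroupOfEquivOfLe EJ_le_CZ).symm
  have hP2 : IsPGroup 2 ((cj g 𝓔).subgroupOf C) := by
    have h1 : IsPGroup 2 (cj g 𝓔) := isPGroup_EJ.map _
    exact h1.of_equiv (Subgroup.subgroupOfEquivOfLe hPC).symm
  obtain ⟨Q, hQ⟩ := hE2.exists_le_sylow
  obtain ⟨R, hR⟩ := hP2.exists_le_sylow
  obtain ⟨c, hc⟩ := MulAction.exists_smul_eq C R Q
  have hQ1 : 𝓔 ≤ (Q : Subgroup C).map C.subtype := by
    intro x hx
    exact ⟨⟨x, EJ_le_CZ hx⟩, hQ (Subgroup.mem_subgroupOf.2 hx), rfl⟩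
  have hQ2 : cj (c : 𝒢) (cj g 𝓔) ≤ (Q : Subgroup C).map C.subtype := by
    rintro _ ⟨x, hx, rfl⟩
    have h1 : (⟨x, hPC hx⟩ : C) ∈ (R : Subgroup C) := hR (Subgroup.mem_subgroupOf.2 hx)
    have h2 : c * ⟨x, hPC hx⟩ * c⁻¹ ∈ (Q : Subgroup C) := by
      rw [← hc]
      exact ⟨_, h1, rfl⟩
    exact ⟨_, h2, rfl⟩
  have hQ3 : Nat.card ((Q : Subgroup C).map C.subtype) ≤ 2 ^ 18 := by
    rw [Subgroup.card_map_of_injective C.subtype_injective]
    exact two_group_le card_CZ Q.isPGroup'
  refine ⟨(c : 𝒢)⁻¹, C.inv_mem c.2, ?_⟩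
  by_contra hne
  have hne' : cj (1 : 𝒢) 𝓔 ≠ cj ((c : 𝒢) * g) 𝓔 := by
    intro h
    apply hne
    rw [cj_one, ← cj_cj] at h
    conv_rhs => rw [h]
    rw [cj_inv_cj]
  have h1 := card_inf_le h5 hne'
  rw [cj_one, ← cj_cj] at h1
  have h2 := card_mul_card_le hQ1 hQ2
  rw [card_cj, card_cj, Cfsg.Agent.J4.Invol.card_EJ rho_injective] at h2
  have h3 := Nat.mul_le_mul h1 hQ3
  omega

theorem five_Z (h5 : F5 geo) : {P | geo.Pt P ∧ Z ≤ P}.ncard = 5 := by
  rw [← ncard_five]
  congr 1
  ext P
  constructor
  · rintro ⟨⟨g, rfl⟩, hZ⟩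
    obtain ⟨c, hc, h⟩ := exists_cent h5 hZ
    exact ⟨c, Subgroup.centralizer_le_normalizer (Z : Set 𝒢) hc, h⟩
  · rintro ⟨n, hn, rfl⟩
    refine ⟨⟨n, rfl⟩, ?_⟩
    rw [← cj_eq_iff] at hn
    rw [← hn]
    exact cj_mono Z_le_EJ

/-! ### Lines in `2^11` -/

/-- a line in `2^11` is conjugate to `Z` under `M24` -/
theorem line_EJ (h5 : F5 geo) {g : 𝒢} (h : cj g Z ≤ 𝓔) : ∃ m : M24, cj g Z = cj (phi m) Z := by
  rw [cj_le_iff] at h
  obtain ⟨c, hc, h1⟩ := exists_cent h5 h
  have h2 : g * c ∈ Subgroup.normalizer (𝓔 : Set 𝒢) := by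
    rw [← cj_eq_iff, ← cj_cj, ← h1, cj_cj_inv]
  rw [normalizer_EJ] at h2
  obtain ⟨e, he, m, hm⟩ := mem_B.1 h2
  have h3 : cj c Z = Z := cj_eq_iff.2 (Subgroup.centralizer_le_normalizer (Z : Set 𝒢) hc)
  have h4 : cj g Z = cj e (cj (phi m) Z) := by
    rw [cj_cj, ← hm, ← cj_cj, h3]
  have h5 : cj (phi m) Z ≤ 𝓔 := by
    have h6 : cj (phi m) 𝓔 = 𝓔 := cj_eq_iff.2 (phi_norm ⟨m, rfl⟩)
    rw [← h6]
    exact cj_mono Z_le_EJ
  refine ⟨m, ?_⟩
  rw [h4]
  ext x
  constructor
  · rintro ⟨y, hy, rfl⟩
    have h6 := EJ_comm' he (h5 hy)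
    show e * y * e⁻¹ ∈ _
    rw [h6, mul_inv_cancel_right]
    exact hy
  · intro hx
    refine ⟨x, hx, ?_⟩
    show e * x * e⁻¹ = x
    rw [EJ_comm' he (h5 hx), mul_inv_cancel_right]

/-- a line in `2^11` sharing two nontrivial elements with `Z` -/
theorem uniq_EJ (h5 : F5 geo) {g : 𝒢} (h : cj g Z ≤ 𝓔) {u v : 𝒢} (hu1 : u ≠ 1) (hv1 : v ≠ 1)
    (huv : u ≠ v) (hu : u ∈ Z) (hv : v ∈ Z) (hu' : u ∈ cj g Z) (hv' : v ∈ cj g Z) :
    cj g Z = Z := by
  obtain ⟨m, hm⟩ := line_EJ h5 h
  rw [hm] at hu' hv' ⊢
  obtain ⟨u', hu2, hu3⟩ := hu'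
  obtain ⟨v', hv2, hv3⟩ := hv'
  exact cj_eq_iff.2 (K_NZ (line_unique hu hv hu1 hv1 huv hu2 hv2 hu3 hv3))

/-- a point sharing two nontrivial elements with `Z` -/
theorem le_Z (h5 : F5 geo) {g : 𝒢} {u v : 𝒢} (hu1 : u ≠ 1) (hv1 : v ≠ 1)
    (huv : u ≠ v) (hu : u ∈ Z) (hv : v ∈ Z) (hu' : u ∈ cj g 𝓔) (hv' : v ∈ cj g 𝓔) :
    Z ≤ cj g 𝓔 := by
  by_cases hne : cj (1 : 𝒢) 𝓔 = cj g 𝓔
  · rw [← hne, cj_one]
    exact Z_le_EJ
  · have hu2 : u ∈ cj (1 : 𝒢) 𝓔 ⊓ cj g 𝓔 := by
      rw [cj_one]
      exact Subgroup.mem_inf.2 ⟨Z_le_EJ hu, hu'⟩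
    have hv2 : v ∈ cj (1 : 𝒢) 𝓔 ⊓ cj g 𝓔 := by
      rw [cj_one]
      exact Subgroup.mem_inf.2 ⟨Z_le_EJ hv, hv'⟩
    rcases h5 _ _ ⟨1, rfl⟩ ⟨g, rfl⟩ hne with h1 | ⟨z, -, h1⟩ | ⟨k, h1⟩
    · rw [h1, Subgroup.mem_bot] at hu2
      exact absurd hu2 hu1
    · rw [h1] at hu2 hv2
      rcases hu2 with h | h
      · exact absurd h hu1
      · rcases hv2 with h' | h'
        · exact absurd h' hv1
        · exact absurd (h.trans h'.symm) huv
    · rw [h1] at hu2 hv2
      have h2 : cj k Z ≤ 𝓔 := by
        rw [← h1, cj_one]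
        exact inf_le_left
      have h3 := uniq_EJ h5 h2 hu1 hv1 huv hu hv hu2 hv2
      rw [← h3, ← h1]
      exact inf_le_right

theorem le_aux (h5 : F5 geo) {D P : Subgroup 𝒢} (hD : geo.Ln D) (hP : geo.Pt P) {u v : 𝒢}
    (hu1 : u ≠ 1) (hv1 : v ≠ 1) (huv : u ≠ v) (hu : u ∈ D) (hv : v ∈ D) (hu' : u ∈ P)
    (hv' : v ∈ P) : D ≤ P := by
  obtain ⟨g, rfl⟩ := hD
  obtain ⟨h, rfl⟩ := hP
  rw [cj_le_iff, cj_cj]
  rw [mem_cj] at hu hv
  refine le_Z h5 (u := g⁻¹ * u * g) (v := g⁻¹ * v * g) ?_ ?_ ?_ hu hv ?_ ?_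
  · intro h1
    apply hu1
    calc u = g * (g⁻¹ * u * g) * g⁻¹ := by group
      _ = 1 := by rw [h1]; group
  · intro h1
    apply hv1
    calc v = g * (g⁻¹ * v * g) * g⁻¹ := by group
      _ = 1 := by rw [h1]; group
  · intro h1
    apply huv
    calc u = g * (g⁻¹ * u * g) * g⁻¹ := by group
      _ = g * (g⁻¹ * v * g) * g⁻¹ := by rw [h1]
      _ = v := by group
  · rw [mem_cj] at hu' ⊢
    have e : (g⁻¹ * h)⁻¹ * (g⁻¹ * u * g) * (g⁻¹ * h) = h⁻¹ * u * h := by group
    rw [e]
    exact hu'
  · rw [mem_cj] at hv' ⊢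
    have e : (g⁻¹ * h)⁻¹ * (g⁻¹ * v * g) * (g⁻¹ * h) = h⁻¹ * v * h := by group
    rw [e]
    exact hv'

theorem uniq_aux (h5 : F5 geo) {D D' : Subgroup 𝒢} (hD : geo.Ln D) (hD' : geo.Ln D') {u v : 𝒢}
    (hu1 : u ≠ 1) (hv1 : v ≠ 1) (huv : u ≠ v) (hu : u ∈ D) (hv : v ∈ D) (hu' : u ∈ D')
    (hv' : v ∈ D') : D = D' := by
  obtain ⟨h, rfl⟩ := id hD'
  have hP : cj h Z ≤ cj h 𝓔 := cj_mono Z_le_EJ
  have h1 : D ≤ cj h 𝓔 := le_aux h5 hD ⟨h, rfl⟩ hu1 hv1 huv hu hv (hP hu') (hP hv')
  obtain ⟨g, rfl⟩ := hD
  have h2 : cj (h⁻¹ * g) Z ≤ 𝓔 := by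
    rw [← cj_cj]
    have h3 := cj_mono (g := h⁻¹) h1
    rwa [cj_inv_cj] at h3
  have h3 : cj (h⁻¹ * g) Z = Z := by
    rw [mem_cj] at hu hv hu' hv'
    refine uniq_EJ h5 h2 (u := h⁻¹ * u * h) (v := h⁻¹ * v * h) ?_ ?_ ?_ hu' hv' ?_ ?_
    · intro h3
      apply hu1
      calc u = h * (h⁻¹ * u * h) * h⁻¹ := by group
        _ = 1 := by rw [h3]; group
    · intro h3
      apply hv1
      calc v = h * (h⁻¹ * v * h) * h⁻¹ := by group
        _ = 1 := by rw [h3]; group
    · intro h3
      apply huv
      calc u = h * (h⁻¹ * u * h) * h⁻¹ := by group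
        _ = h * (h⁻¹ * v * h) * h⁻¹ := by rw [h3]
        _ = v := by group
    · rw [mem_cj]
      have e : (h⁻¹ * g)⁻¹ * (h⁻¹ * u * h) * (h⁻¹ * g) = g⁻¹ * u * g := by group
      rw [e]
      exact hu
    · rw [mem_cj]
      have e : (h⁻¹ * g)⁻¹ * (h⁻¹ * v * h) * (h⁻¹ * g) = g⁻¹ * v * g := by group
      rw [e]
      exact hv
  rw [← cj_cj] at h3
  conv_rhs => rw [← h3]
  rw [cj_cj_inv]

/-! ### (F6) -/

/-- the nontrivial elements of `Z` are in the class of `s` -/
theorem pure_Z {u : 𝒢} (hu : u ∈ Z) (hu1 : u ≠ 1) : IsConj Cfsg.Agent.J4.Invol.s u := by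
  obtain ⟨y, w, b⟩ := oct_Z.exists_bas hu hu1
  have hZ1 : V 165 ∈ Z := V_mem_Z 1 (by decide)
  have n1 : V 165 ≠ 1 := by
    rw [← V_zero]
    intro h
    exact absurd (V_inj (by norm_num) (by norm_num) h) (by norm_num)
  obtain ⟨y', w', b'⟩ := oct_Z.exists_bas hZ1 n1
  obtain ⟨x, -, -, h1, -, -⟩ := full_J.bas oct_Z b' b
  obtain ⟨g, hg⟩ := exists_conj_s
  exact (isConj_iff.2 ⟨g, hg⟩).trans (isConj_iff.2 ⟨x, h1⟩)

/-- **(F6)** -/
theorem f6 (h5 : F5 geo) : F6 geo where
  card := by
    rintro _ ⟨g, rfl⟩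
    rw [card_cj, card_Z]
  pure := by
    rintro _ ⟨g, rfl⟩ u hu hu1
    rw [mem_cj] at hu
    have h1 : IsConj Cfsg.Agent.J4.Invol.s (g⁻¹ * u * g) := pure_Z hu (by
      intro h
      apply hu1
      calc u = g * (g⁻¹ * u * g) * g⁻¹ := by group
        _ = 1 := by rw [h]; group)
    exact h1.trans (isConj_iff.2 ⟨g, by group⟩)
  uniq := fun D D' hD hD' u v hu1 hv1 huv hu hv hu' hv' =>
    uniq_aux h5 hD hD' hu1 hv1 huv hu hv hu' hv'
  five := by
    rintro _ ⟨g, rfl⟩
    rw [← five_Z h5, ← Set.ncard_image_of_injective {P | geo.Pt P ∧ Z ≤ P}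
      (f := fun P => cj g P) (fun _ _ h => cj_inj h)]
    congr 1
    ext P
    constructor
    · rintro ⟨⟨h, rfl⟩, hP⟩
      refine ⟨cj g⁻¹ (cj h 𝓔), ⟨⟨g⁻¹ * h, cj_cj _ _ _⟩, cj_le_iff.1 hP⟩, cj_cj_inv _ _⟩
    · rintro ⟨P', ⟨⟨h, rfl⟩, hP⟩, rfl⟩
      exact ⟨⟨g * h, cj_cj _ _ _⟩, cj_mono hP⟩
  le := fun D P hD hP u v hu1 hv1 huv hu hv hu' hv' =>
    le_aux h5 hD hP hu1 hv1 huv hu hv hu' hv'

end Cfsg.Agent.H825.JM
end
end

-- part: H41/JM/F9Two
section
prune_inst 0x10700440220000000000002000206050000002004800010000000000480041000008003020031201200c200008004811440019422000000a00820040040401040050060200010020000040e800000000000000000000000000000000000000200000000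
set_option linter.all false
open scoped Cfsg.Agent.FastGrp

-- part: H41/JM/F9Abs
section
/-!
# Invariance of the 2-local geometry under conjugation
-/

set_option autoImplicit false

namespace Cfsg.Agent.H41.JM

open Cfsg.Agent.H860.JM

variable {G : Type*} [Group G]

/-- the data are invariant under conjugation -/
structure CInv (Γ : Geom G) : Prop where
  A_conj : ∀ g u, Γ.A u → Γ.A (g * u * g⁻¹)
  Pt_conj : ∀ g P, Γ.Pt P → Γ.Pt (cj g P)
  Ln_conj : ∀ g D, Γ.Ln D → Γ.Ln (cj g D)

variable {Γ : Geom G}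

theorem mem_cj {g : G} {H : Subgroup G} {x : G} : x ∈ cj g H ↔ g⁻¹ * x * g ∈ H := by
  constructor
  · rintro ⟨y, hy, rfl⟩
    have : g⁻¹ * ((MulAut.conj g).toMonoidHom y) * g = y := by
      show g⁻¹ * (g * y * g⁻¹) * g = y
      group
    rw [this]; exact hy
  · intro h
    refine ⟨_, h, ?_⟩
    show g * (g⁻¹ * x * g) * g⁻¹ = x
    group

theorem conj_mem_cj {g : G} {H : Subgroup G} {x : G} (h : x ∈ H) : g * x * g⁻¹ ∈ cj g H :=
  ⟨x, h, rfl⟩

theorem conj_mem_cj_iff {g : G} {H : Subgroup G} {x : G} : g * x * g⁻¹ ∈ cj g H ↔ x ∈ H := by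
  rw [mem_cj]
  have : g⁻¹ * (g * x * g⁻¹) * g = x := by group
  rw [this]

theorem cj_cj (g h : G) (H : Subgroup G) : cj g (cj h H) = cj (g * h) H := by
  ext x
  rw [mem_cj, mem_cj, mem_cj]
  have : h⁻¹ * (g⁻¹ * x * g) * h = (g * h)⁻¹ * x * (g * h) := by group
  rw [this]

theorem cj_one (H : Subgroup G) : cj 1 H = H := by
  ext x
  rw [mem_cj]
  simp

theorem cj_inv_cj (g : G) (H : Subgroup G) : cj g⁻¹ (cj g H) = H := by
  rw [cj_cj, inv_mul_cancel, cj_one]

theorem conj_inv_conj (g x : G) : g⁻¹ * (g * x * g⁻¹) * g⁻¹⁻¹ = x := by group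

theorem cj_eq_of_mem_normalizer {g : G} {H : Subgroup G}
    (h : g ∈ Subgroup.normalizer (H : Set G)) : cj g H = H := by
  ext x
  rw [mem_cj]
  have h1 := Subgroup.mem_normalizer_iff.1 h (g⁻¹ * x * g)
  have e : g * (g⁻¹ * x * g) * g⁻¹ = x := by group
  rw [e] at h1
  exact h1

theorem mem_normalizer_cj {g w : G} {H : Subgroup G}
    (h : w ∈ Subgroup.normalizer (H : Set G)) :
    g * w * g⁻¹ ∈ Subgroup.normalizer (cj g H : Set G) := by
  rw [Subgroup.mem_normalizer_iff]
  intro x
  rw [mem_cj, mem_cj]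
  have h1 := Subgroup.mem_normalizer_iff.1 h (g⁻¹ * x * g)
  have e : w * (g⁻¹ * x * g) * w⁻¹ = g⁻¹ * (g * w * g⁻¹ * x * (g * w * g⁻¹)⁻¹) * g := by group
  rw [e] at h1
  exact h1

section

variable (hΓ : CInv Γ)

include hΓ

theorem tyA_conj {z w : G} (g : G) (h : TyA Γ z w) : TyA Γ (g * z * g⁻¹) (g * w * g⁻¹) := by
  obtain ⟨D, hD, hz, hw⟩ := h
  exact ⟨cj g D, hΓ.Ln_conj g D hD, conj_mem_cj hz, conj_mem_cj hw⟩

theorem Fs_conj {P : Subgroup G} {w v : G} (g : G) (h : v ∈ Fs Γ P w) :
    g * v * g⁻¹ ∈ Fs Γ (cj g P) (g * w * g⁻¹) := by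
  obtain ⟨h1, h2, h3⟩ := h
  refine ⟨conj_mem_cj h1, ?_, ?_⟩
  · have e1 : g * v * g⁻¹ * (g * w * g⁻¹) = g * (v * w) * g⁻¹ := by group
    have e2 : g * w * g⁻¹ * (g * v * g⁻¹) = g * (w * v) * g⁻¹ := by group
    rw [e1, e2, h2]
  · rcases h3 with rfl | ⟨h3, h4⟩
    · left; group
    · right
      refine ⟨hΓ.A_conj g _ h3, ?_⟩
      have e1 : g * v * g⁻¹ * (g * w * g⁻¹) = g * (v * w) * g⁻¹ := by group
      rw [e1]
      exact hΓ.A_conj g _ h4

theorem Fs_conj_iff {P : Subgroup G} {w v : G} (g : G) :
    g * v * g⁻¹ ∈ Fs Γ (cj g P) (g * w * g⁻¹) ↔ v ∈ Fs Γ P w := by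
  constructor
  · intro h
    have h1 := Fs_conj hΓ g⁻¹ h
    rwa [conj_inv_conj, conj_inv_conj, cj_inv_cj] at h1
  · exact Fs_conj hΓ g

theorem Fs_conj_eq (P : Subgroup G) (w g : G) :
    Fs Γ (cj g P) (g * w * g⁻¹) = (fun v => g * v * g⁻¹) '' Fs Γ P w := by
  ext v
  constructor
  · intro h
    refine ⟨g⁻¹ * v * g, ?_, ?_⟩
    · rw [← Fs_conj_iff hΓ g]
      have e : g * (g⁻¹ * v * g) * g⁻¹ = v := by group
      rw [e]; exact h
    · show g * (g⁻¹ * v * g) * g⁻¹ = v
      group
  · rintro ⟨u, hu, rfl⟩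
    exact Fs_conj hΓ g hu

theorem ncard_Fs_conj (P : Subgroup G) (w g : G) :
    (Fs Γ (cj g P) (g * w * g⁻¹)).ncard = (Fs Γ P w).ncard := by
  rw [Fs_conj_eq hΓ]
  apply Set.ncard_image_of_injective
  intro a b h
  exact mul_left_cancel (mul_right_cancel h)

theorem act_conj {P : Subgroup G} {w : G} (g : G) (h : Act Γ P w) :
    Act Γ (cj g P) (g * w * g⁻¹) where
  mem := mem_normalizer_cj h.mem
  not_mem := fun hw => h.not_mem (conj_mem_cj_iff.1 hw)
  A := hΓ.A_conj g w h.A

theorem isX_conj {P : Subgroup G} {w x : G} (g : G) (h : IsX Γ P w x) :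
    IsX Γ (cj g P) (g * w * g⁻¹) (g * x * g⁻¹) where
  mem := Fs_conj hΓ g h.mem
  ne := fun h1 => h.ne (by
    have h2 := conj_inv_conj g x
    rw [h1] at h2
    rw [← h2]; group)
  tyA := tyA_conj hΓ g h.tyA

theorem KA_conj {P : Subgroup G} {w : G} (g : G) (h : KA Γ P w) :
    KA Γ (cj g P) (g * w * g⁻¹) where
  act := act_conj hΓ g h.act
  card := by rw [ncard_Fs_conj hΓ]; exact h.card
  tyA := by
    rw [Fs_conj_eq hΓ]
    rintro _ ⟨v, hv, rfl⟩
    exact tyA_conj hΓ g (h.tyA v hv)
  pt := by
    rw [Fs_conj_eq hΓ]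
    rintro _ ⟨v, hv, rfl⟩ _ ⟨v', hv', rfl⟩
    obtain ⟨P', h1, h2, h3, h4⟩ := h.pt v hv v' hv'
    exact ⟨cj g P', hΓ.Pt_conj g P' h1, conj_mem_cj h2, conj_mem_cj h3, conj_mem_cj h4⟩
  mul := by
    rw [Fs_conj_eq hΓ]
    rintro _ ⟨v, hv, rfl⟩ _ ⟨v', hv', rfl⟩
    refine ⟨v * v', h.mul v hv v' hv', ?_⟩
    show g * (v * v') * g⁻¹ = g * v * g⁻¹ * (g * v' * g⁻¹)
    group

theorem KB_conj {P : Subgroup G} {w : G} (g : G) (h : KB Γ P w) :
    KB Γ (cj g P) (g * w * g⁻¹) where
  act := act_conj hΓ g h.act
  card := by rw [ncard_Fs_conj hΓ]; exact h.card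
  ex := by
    obtain ⟨x, h1, h2, h3⟩ := h.ex
    refine ⟨g * x * g⁻¹, isX_conj hΓ g h1, ?_, ?_⟩
    · intro y hy
      have h4 := isX_conj hΓ g⁻¹ hy
      rw [cj_inv_cj, conj_inv_conj] at h4
      have h5 := h2 _ h4
      rw [← h5]; group
    · rw [Fs_conj_eq hΓ]
      rintro _ ⟨v, hv, rfl⟩
      exact tyA_conj hΓ g (h3 v hv)

end

/-- every `v ∈ F_w` is in a common point with `w` -/
def Cp (Γ : Geom G) (P : Subgroup G) (w : G) : Prop :=
  ∀ v ∈ Fs Γ P w, ∃ P', Γ.Pt P' ∧ v ∈ P' ∧ w ∈ P'

theorem Cp_conj (hΓ : CInv Γ) {P : Subgroup G} {w : G} (g : G) (h : Cp Γ P w) :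
    Cp Γ (cj g P) (g * w * g⁻¹) := by
  unfold Cp
  rw [Fs_conj_eq hΓ]
  rintro _ ⟨v, hv, rfl⟩
  obtain ⟨P', h1, h2, h3⟩ := h v hv
  exact ⟨cj g P', hΓ.Pt_conj g P' h1, conj_mem_cj h2, conj_mem_cj h3⟩

theorem KA_not_KB {P : Subgroup G} {w : G} (h : KA Γ P w) (h' : KB Γ P w) : False := by
  have h1 := h.card
  rw [h'.card] at h1
  norm_num at h1

/-- The reduction of `F9` to two representatives `w₁`, `w₂` at the point `E`. -/
theorem f9_of (hΓ : CInv Γ) (E : Subgroup G) (hPt : ∀ P, Γ.Pt P → ∃ g, P = cj g E) (w₁ w₂ : G)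
    (hA : KA Γ E w₁) (hB : KB Γ E w₂) (hC : Cp Γ E w₂)
    (hcl : ∀ w, Act Γ E w → ∃ c ∈ Subgroup.normalizer (E : Set G),
      c * w * c⁻¹ = w₁ ∨ c * w * c⁻¹ = w₂)
    (hsame : ∀ c ∈ Subgroup.normalizer (E : Set G), Fs Γ E (c * w₁ * c⁻¹) = Fs Γ E w₁ →
      w₁⁻¹ * (c * w₁ * c⁻¹) ∈ E)
    (hcent : ∀ w, Act Γ E w → w₂⁻¹ * w ∈ E → ∃ r ∈ E, r * w * r⁻¹ = w₂)
    (hcomm : ∀ a ∈ E, ∀ b ∈ E, a * b = b * a) :
    F9 Γ ∧ ∀ P w, Γ.Pt P → Act Γ P w → Cp Γ P w := by
  have hkind : ∀ P w, Γ.Pt P → Act Γ P w →
      ∃ g, P = cj g E ∧ (w = g * w₁ * g⁻¹ ∨ w = g * w₂ * g⁻¹) := by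
    intro P w hP hw
    obtain ⟨g, rfl⟩ := hPt P hP
    have h1 := act_conj hΓ g⁻¹ hw
    rw [cj_inv_cj] at h1
    obtain ⟨c, hc, h2⟩ := hcl _ h1
    refine ⟨g * c⁻¹, ?_, ?_⟩
    · rw [← cj_cj, cj_eq_of_mem_normalizer (Subgroup.inv_mem _ hc)]
    · rcases h2 with h2 | h2
      · left; rw [← h2]; group
      · right; rw [← h2]; group
  refine ⟨⟨?_, ?_, ?_⟩, ?_⟩
  · intro P w hP hw
    obtain ⟨g, rfl, rfl | rfl⟩ := hkind P w hP hw
    · exact Or.inl (KA_conj hΓ g hA)
    · exact Or.inr (KB_conj hΓ g hB)
  · intro P w w' hP hw hw' heq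
    obtain ⟨g, rfl, rfl | rfl⟩ := hkind P w hP hw.act
    · have h1 := act_conj hΓ g⁻¹ hw'.act
      rw [cj_inv_cj] at h1
      obtain ⟨c, hc, h2⟩ := hcl _ h1
      set u := g⁻¹ * w' * g⁻¹⁻¹ with hu
      have hw'' : w' = g * u * g⁻¹ := by rw [hu]; group
      rcases h2 with h2 | h2
      · have h3 : u = c⁻¹ * w₁ * c⁻¹⁻¹ := by rw [← h2]; group
        have h4 := hsame c⁻¹ (Subgroup.inv_mem _ hc)
        rw [← h3] at h4
        have h5 : Fs Γ E u = Fs Γ E w₁ := by
          rw [hw''] at heq
          ext v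
          rw [← Fs_conj_iff (w := u) hΓ g, ← heq, Fs_conj_iff hΓ g]
        have h6 := h4 h5
        have e : (g * w₁ * g⁻¹)⁻¹ * w' = g * (w₁⁻¹ * u) * g⁻¹ := by rw [hw'']; group
        rw [e]
        exact conj_mem_cj h6
      · exfalso
        have h3 : u = c⁻¹ * w₂ * c⁻¹⁻¹ := by rw [← h2]; group
        have h4 : KB Γ E u := by
          rw [h3]
          have h5 := KB_conj hΓ c⁻¹ hB
          rwa [cj_eq_of_mem_normalizer (Subgroup.inv_mem _ hc)] at h5
        have h6 := KB_conj hΓ g h4
        rw [← hw''] at h6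
        exact KA_not_KB hw' h6
    · exact absurd (KB_conj hΓ g hB) fun h => KA_not_KB hw h
  · intro P w w' x x' hP hw hw' hmem hx hx'
    obtain ⟨g, rfl, rfl | rfl⟩ := hkind P w hP hw.act
    · exact absurd (KA_conj hΓ g hA) fun h => KA_not_KB h hw
    · have h1 := act_conj hΓ g⁻¹ hw'.act
      rw [cj_inv_cj] at h1
      set u := g⁻¹ * w' * g⁻¹⁻¹ with hu
      have hw'' : w' = g * u * g⁻¹ := by rw [hu]; group
      have h2 : w₂⁻¹ * u ∈ E := by
        rw [← conj_mem_cj_iff (g := g)]
        have e : g * (w₂⁻¹ * u) * g⁻¹ = (g * w₂ * g⁻¹)⁻¹ * w' := by rw [hw'']; group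
        rw [e]; exact hmem
      obtain ⟨r, hr, h3⟩ := hcent u h1 h2
      obtain ⟨z, -, hz, -⟩ := hB.ex
      -- the element of `w`
      have h4 := isX_conj hΓ g⁻¹ hx
      rw [cj_inv_cj, conj_inv_conj] at h4
      have h5 := hz _ h4
      -- the element of `w'`
      have h6 := isX_conj hΓ g⁻¹ hx'
      rw [cj_inv_cj, ← hu] at h6
      have h7 := isX_conj hΓ r h6
      rw [cj_eq_of_mem_normalizer (Subgroup.le_normalizer hr), h3] at h7
      have h8 := hz _ h7
      have h9 : g⁻¹ * x' * g⁻¹⁻¹ ∈ E := h6.mem.1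
      have h10 : r * (g⁻¹ * x' * g⁻¹⁻¹) * r⁻¹ = g⁻¹ * x' * g⁻¹⁻¹ := by
        rw [hcomm r hr _ h9]; group
      rw [h10, ← h5] at h8
      exact (mul_left_cancel (mul_right_cancel h8)).symm
  · intro P w hP hw
    obtain ⟨g, rfl, rfl | rfl⟩ := hkind P w hP hw
    · refine Cp_conj hΓ g fun v hv => ?_
      obtain ⟨P', h1, h2, -, h3⟩ := hA.pt v hv v hv
      exact ⟨P', h1, h2, h3⟩
    · exact Cp_conj hΓ g hC

end Cfsg.Agent.H41.JM
end

-- part: H41/JM/F9Cls
section
/-!
# The classes of the involutions `V v` and `V v * phi σ`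
-/

set_option autoImplicit false

open Cfsg

namespace Cfsg.Agent.H41.JM.Cls

open Cfsg.Agent.Lib Cfsg.Agent.Lib.F2MatGroup
open Cfsg.Agent.J4.Rep112 Cfsg.Agent.J4.Pres Cfsg.Agent.J4.M24Hom Cfsg.Agent.J4.Nodes
open Cfsg.Agent.J4.Beta Cfsg.Agent.J4.Classes Cfsg.Agent.J4.ClassesData Cfsg.Agent.J4.Invol
open Cfsg.Agent.J4.Lower Cfsg.Agent.J4.LowerData Cfsg.Agent.J4.ClassesAbs
open Cfsg.Agent.J4.M24InvolData
open Cfsg.Agent.H858.VK
open Cfsg.Agent.H858.Data hiding eqsC
open Cfsg.Agent.H860.JM

/-- the involution of `M24` of type 2A -/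
noncomputable abbrev m₁ : M24 := Cfsg.Agent.SporadicStructure.M24El.el P1
/-- the involution of `M24` of type 2B -/
noncomputable abbrev m₂ : M24 := XM

theorem s_eq : s = V 1024 := rho_injective (by rw [rho_s, rho_V])
theorem d_eq : d = V 5 := rho_injective (by rw [rho_d, rho_V])

theorem A_of_conj {g u : Cfsg.Spor.J4} (h : g * u * g⁻¹ = V 1024) : geo.A u := by
  show IsConj s u
  rw [s_eq, isConj_iff]
  exact ⟨g⁻¹, by rw [← h]; group⟩

theorem B_of_conj {g u : Cfsg.Spor.J4} (h : g * u * g⁻¹ = V 5) : geo.B u := by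
  show IsConj d u
  rw [d_eq, isConj_iff]
  exact ⟨g⁻¹, by rw [← h]; group⟩

theorem not_A_of_B {u : Cfsg.Spor.J4} (h : geo.B u) : ¬ geo.A u := by
  intro h1
  have h2 : IsConj s u := h1
  have h3 : IsConj d u := h
  exact not_isConj_s_d (h2.trans h3.symm)

theorem cInv : CInv geo where
  A_conj := by
    intro g u h
    have h1 : IsConj s u := h
    show IsConj s (g * u * g⁻¹)
    exact h1.trans (isConj_iff.2 ⟨g, rfl⟩)
  Pt_conj := by
    rintro g _ ⟨h, rfl⟩
    exact ⟨g * h, cj_cj g h _⟩
  Ln_conj := by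
    rintro g _ ⟨h, rfl⟩
    exact ⟨g * h, cj_cj g h _⟩

theorem B_conj {u : Cfsg.Spor.J4} (g : Cfsg.Spor.J4) (h : geo.B u) : geo.B (g * u * g⁻¹) := by
  have h1 : IsConj d u := h
  show IsConj d (g * u * g⁻¹)
  exact h1.trans (isConj_iff.2 ⟨g, rfl⟩)

/-! ### Elements of `EJ` -/

theorem V_conj {v : ℕ} (hv : v < 2048) (h0 : v ≠ 0) : ∃ m : M24,
    V v = phi m * V (if tget pos 11 v < 1771 then 1024 else 5) * (phi m)⁻¹ := by
  have h1 := orb_ok
  unfold orbOk at h1
  rw [Bool.and_eq_true, Bool.and_eq_true, List.all_eq_true, List.all_eq_true] at h1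
  have h2 := h1.1.2 v (List.mem_range.mpr hv)
  rw [Bool.or_eq_true, Nat.beq_eq, Bool.and_eq_true, Nat.blt_eq, Nat.beq_eq] at h2
  rcases h2 with h2 | ⟨h2, h3⟩
  · exact absurd h2 h0
  · obtain ⟨m, hm⟩ := conj_arr hyp _ h2
    rw [h3] at hm
    refine ⟨m, rho_injective ?_⟩
    rw [map_mul, map_mul, map_inv, rho_V, rho_V]
    exact hm

/-- `V v` is of type 2A -/
def cA (v : ℕ) : Bool := Nat.blt (tget pos 11 v) 1771

theorem A_V {v : ℕ} (hv : v < 2048) (h0 : v ≠ 0) (h : cA v = true) : geo.A (V v) := by
  obtain ⟨m, hm⟩ := V_conj hv h0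
  have h1 : tget pos 11 v < 1771 := by
    unfold cA at h; rwa [Nat.blt_eq] at h
  rw [if_pos h1] at hm
  exact A_of_conj (g := (phi m)⁻¹) (by rw [hm]; group)

theorem B_V {v : ℕ} (hv : v < 2048) (h0 : v ≠ 0) (h : cA v = false) : geo.B (V v) := by
  obtain ⟨m, hm⟩ := V_conj hv h0
  have h1 : ¬ tget pos 11 v < 1771 := by
    intro h2
    rw [← Nat.blt_eq] at h2
    unfold cA at h
    rw [h2] at h
    exact absurd h (by decide)
  rw [if_neg h1] at hm
  exact B_of_conj (g := (phi m)⁻¹) (by rw [hm]; group)

theorem A_V_iff {v : ℕ} (hv : v < 2048) (h0 : v ≠ 0) : geo.A (V v) ↔ cA v = true := by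
  constructor
  · intro h
    by_contra h1
    rw [Bool.not_eq_true] at h1
    exact not_A_of_B (B_V hv h0 h1) h
  · exact A_V hv h0

/-! ### The representatives -/

/-- class of a representative -/
def repI (E : List (List ℕ × List ℕ)) (im v idx : ℕ) : Bool :=
  reps.any fun r => repOk E im v r && Nat.beq r.2.2.2.2.2.2 idx

theorem rep_conj {im v idx : ℕ} (h : repI eqsC im v idx = true) :
    ∃ g ∈ rho.range, g * (beta qs v * getG LC im) * g⁻¹ = getG LC idx := by
  unfold repI at h
  rw [List.any_eq_true] at h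
  obtain ⟨r, -, h⟩ := h
  rw [Bool.and_eq_true, Nat.beq_eq] at h
  obtain ⟨h, rfl⟩ := h
  unfold repOk at h
  rw [Bool.and_eq_true, Bool.and_eq_true, Bool.and_eq_true, List.contains_iff_mem,
    List.contains_iff_mem, List.contains_iff_mem, Bool.or_eq_true, Nat.beq_eq, Nat.beq_eq] at h
  obtain ⟨⟨⟨h1, h2⟩, h3⟩, h4⟩ := h
  have e1 := eqC _ h1
  have e2 := eqC _ h2
  have e3 := eqC _ h3
  simp only [evG_append, evG_single, abs_bw (L := LC) qs_length getG_LC] at e1
  simp only [evG_append, evG_single, evG_cons, evG_nil, mul_one] at e2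
  simp only [evG_append, evG_nil] at e3
  rw [← e1]
  have hp : getG LC r.2.2.2.1 ∈ rho.range := getG_mem _ LC_mem _
  have hw : evG LC r.2.2.2.2.2.1 ∈ rho.range := evG_mem _ LC_mem _
  have hw' : evG LC r.2.2.2.2.1 = (evG LC r.2.2.2.2.2.1)⁻¹ := eq_inv_of_mul_eq_one_left e3
  rw [hw'] at e2
  generalize getG LC r.2.2.1 = u at *
  generalize getG LC r.2.2.2.1 = p at *
  generalize evG LC r.2.2.2.2.2.1 = w at *
  refine ⟨w * p⁻¹, Subgroup.mul_mem _ hw (Subgroup.inv_mem _ hp), ?_⟩
  have : w * p⁻¹ * u * (w * p⁻¹)⁻¹ = w * p⁻¹ * (u * p) * w⁻¹ := by group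
  rw [this, e2]; group

theorem rep1_A : geo.A (V 0 * phi m₁) := by
  obtain ⟨_, ⟨g, rfl⟩, h⟩ := rep_conj (im := 41) (v := 0) (idx := 52) (by decide +kernel)
  rw [getG_41, getG_52] at h
  refine A_of_conj (g := g) (rho_injective ?_)
  rw [map_mul, map_mul, map_inv, map_mul, rho_V, rho_V]
  exact h

theorem rep1_B : ∀ v ∈ [34, 517, 551, 1047, 1077, 1554, 1584], geo.B (V v * phi m₁) := by
  have h0 : ([34, 517, 551, 1047, 1077, 1554, 1584].all fun v => repI eqsC 41 v 40) = true := by
    decide +kernel
  intro v hv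
  rw [List.all_eq_true] at h0
  obtain ⟨_, ⟨g, rfl⟩, h⟩ := rep_conj (h0 v hv)
  rw [getG_41, getG_40] at h
  refine B_of_conj (g := g) (rho_injective ?_)
  rw [map_mul, map_mul, map_inv, map_mul, rho_V, rho_V]
  exact h

theorem getG_55 : getG LC 55 = rho (phi m₂) := by
  rw [getX]; exact (congrArg rho phi_X).symm

theorem rep2_A : geo.A (V 5 * phi m₂) := by
  obtain ⟨_, ⟨g, rfl⟩, h⟩ := rep_conj (im := 55) (v := 5) (idx := 52) (by decide +kernel)
  rw [getG_55, getG_52] at h
  refine A_of_conj (g := g) (rho_injective ?_)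
  rw [map_mul, map_mul, map_inv, map_mul, rho_V, rho_V]
  exact h

theorem rep2_B : geo.B (V 0 * phi m₂) := by
  obtain ⟨_, ⟨g, rfl⟩, h⟩ := rep_conj (im := 55) (v := 0) (idx := 40) (by decide +kernel)
  rw [getG_55, getG_40] at h
  refine B_of_conj (g := g) (rho_injective ?_)
  rw [map_mul, map_mul, map_inv, map_mul, rho_V, rho_V]
  exact h

/-! ### The action of the two involutions -/

theorem actV₁ (v : ℕ) : phi m₁ * V v * (phi m₁)⁻¹ = V (lin A1 v) := by
  apply rho_injective
  rw [map_mul, map_mul, map_inv, rho_V, rho_V]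
  exact act1 v

theorem actV₂ (v : ℕ) : phi m₂ * V v * (phi m₂)⁻¹ = V (lin Ax v) := by
  apply rho_injective
  rw [map_mul, map_mul, map_inv, rho_V, rho_V]
  exact hyp.actX v

/-- conjugation by an element of `EJ` -/
theorem conj_V_mul {m : M24} {A : List ℕ} (hA : ∀ v, phi m * V v * (phi m)⁻¹ = V (lin A v))
    (v r : ℕ) : V r * (V v * phi m) * (V r)⁻¹ = V ((v ^^^ r) ^^^ lin A r) * phi m := by
  rw [V_xor, V_xor, ← hA, V_comm v r, V_inv]
  calc V r * (V v * phi m) * V r = V r * V v * (phi m * V r * (phi m)⁻¹) * phi m := by group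
    _ = _ := rfl

/-- table of the fixed vectors, with the commutators -/
def fixI (A : List ℕ) (T : List (ℕ × ℕ × ℕ)) (v0 : ℕ) (C : List ℕ) : Bool :=
  T.all fun t => (Nat.beq t.1 (Nat.xor (Nat.xor t.2.1 t.2.2) (lin A t.2.2))) &&
    (Nat.beq t.2.1 v0 == C.contains t.1)

/-- the commutators of `m₁` -/
def C1 : List ℕ := [0, 14, 119, 121, 183, 185, 192, 206, 262, 264, 369, 383, 433, 447, 454, 456]
/-- the commutators of `m₂` -/
def C2 : List ℕ := [0, 10, 20, 30, 160, 170, 180, 190, 320, 330, 340, 350, 480, 490, 500, 510,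
  1536, 1546, 1556, 1566, 1696, 1706, 1716, 1726, 1856, 1866, 1876, 1886, 2016, 2026, 2036, 2046]
/-- `C2` shifted by 5 -/
def C2' : List ℕ := [5, 15, 17, 27, 165, 175, 177, 187, 325, 335, 337, 347, 485, 495, 497, 507,
  1541, 1551, 1553, 1563, 1701, 1711, 1713, 1723, 1861, 1871, 1873, 1883, 2021, 2031, 2033, 2043]

theorem fixI_sound {A : List ℕ} {T : List (ℕ × ℕ × ℕ)} {vs : List ℕ} {v0 : ℕ} {C : List ℕ}
    (h : fixOk A T vs = true) (h' : fixI A T v0 C = true) {v : ℕ} (hv : v < 2048)
    (hA : lin A v = v) : ∃ vj ∈ vs, ∃ r, v = (vj ^^^ r) ^^^ lin A r ∧ (vj = v0 ↔ v ∈ C) := by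
  unfold fixOk at h
  rw [Bool.and_eq_true, List.all_eq_true] at h
  obtain ⟨h1, h2⟩ := h
  have h3 := h1 v (List.mem_range.mpr hv)
  rw [Bool.or_eq_true, List.any_eq_true] at h3
  rw [List.all_eq_true] at h2
  unfold fixI at h'
  rw [List.all_eq_true] at h'
  rcases h3 with h3 | ⟨t, ht, h4⟩
  · rw [hA, Nat.beq_refl] at h3
    exact absurd h3 (by decide)
  · have h5 := h2 t ht
    rw [Bool.and_eq_true, List.any_eq_true, Nat.beq_eq] at h5
    obtain ⟨h5, w, hw, h6⟩ := h5
    rw [Nat.beq_eq] at h6 h4
    have h7 := h' t ht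
    rw [Bool.and_eq_true, beq_iff_eq] at h7
    refine ⟨w, hw, t.2.2, ?_, ?_⟩
    · rw [h6, ← h4]
      exact h5
    · rw [h6, ← h4, ← Nat.beq_eq, h7.2, List.contains_iff_mem]

theorem fixI1 : fixI A1 fix1 0 C1 = true := by decide +kernel
theorem fixI2 : fixI Ax fix2 5 C2' = true := by decide +kernel

/-- the 2A elements over `m₁` -/
theorem over₁ {v : ℕ} (hv : v < 2048) (hA : lin A1 v = v) :
    (geo.A (V v * phi m₁) ↔ v ∈ C1) ∧
    (v ∈ C1 → ∃ r, V r * phi m₁ * (V r)⁻¹ = V v * phi m₁) := by
  obtain ⟨vj, hvj, r, h1, h2⟩ := fixI_sound fix1_ok fixI1 hv hA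
  have h3 := conj_V_mul actV₁ vj r
  rw [← h1] at h3
  have key : v ∈ C1 → V r * phi m₁ * (V r)⁻¹ = V v * phi m₁ := by
    intro h
    rw [← h3, h2.2 h, V_zero, one_mul]
  refine ⟨⟨fun h => ?_, fun h => ?_⟩, fun h => ⟨r, key h⟩⟩
  · rw [← h2]
    by_contra h4
    have h5 : vj ∈ [34, 517, 551, 1047, 1077, 1554, 1584] := by
      rcases List.mem_cons.1 hvj with h6 | h6
      · exact absurd h6 h4
      · exact h6
    have h6 := B_conj (V r) (rep1_B vj h5)
    rw [h3] at h6
    exact not_A_of_B h6 h
  · rw [← key h]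
    have h4 := rep1_A
    rw [V_zero, one_mul] at h4
    exact cInv.A_conj _ _ h4

/-- the 2A elements over `m₂` -/
theorem over₂ {v : ℕ} (hv : v < 2048) (hA : lin Ax v = v) :
    (geo.A (V v * phi m₂) ↔ v ∈ C2') ∧
    (v ∈ C2' → ∃ r, V r * (V 5 * phi m₂) * (V r)⁻¹ = V v * phi m₂) := by
  obtain ⟨vj, hvj, r, h1, h2⟩ := fixI_sound fix2_ok fixI2 hv hA
  have h3 := conj_V_mul actV₂ vj r
  rw [← h1] at h3
  have key : v ∈ C2' → V r * (V 5 * phi m₂) * (V r)⁻¹ = V v * phi m₂ := by
    intro h
    rw [← h3, h2.2 h]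
  refine ⟨⟨fun h => ?_, fun h => ?_⟩, fun h => ⟨r, key h⟩⟩
  · rw [← h2]
    by_contra h4
    have h5 : vj = 0 := by
      simp only [List.mem_cons, List.not_mem_nil, or_false] at hvj
      rcases hvj with h6 | h6
      · exact h6
      · exact absurd h6 h4
    rw [h5] at h3
    have h6 := B_conj (V r) rep2_B
    rw [h3] at h6
    exact not_A_of_B h6 h
  · rw [← key h]
    exact cInv.A_conj _ _ rep2_A

end Cfsg.Agent.H41.JM.Cls
end

-- part: H41/JM/F9RankData
section
/-!
# Certificates for the ranks (data)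
-/

set_option autoImplicit false

namespace Cfsg.Agent.H41.JM.RankData

/-- fixed vectors of `V 165` and `V 873` -/
def F : ℕ := 0x10c000000000000000000000000024400000000000000000000000004b40000000000000000000001e238d0200000000000000000000e2180084000000000000000000032443004800000000000000000005488a8d50000000000000000000096f0d80e00000000000000001c1f000000080000000000000000e02e001fc0efe00000000000000324c2001ff0efe000000000000005494b001fd0e7e0000000000000096e47001fd8e7e0000000000003f0000f001e380c010000000000fc00000f0000001020000000000f0c3003fe001f80705d000000003334d003f2001e00709b0000000055514000040000b81908000000009669a00007001ec01610000000ff000000001f001c38d40000000536056541451014a9b8c8c800000a39056571453014b7b8c4c9000033330000d000cf001a38000100005063056401445014bfb810c80000935f0564e1475f14a780e4c80003003f00580148440023a818c000051127127011424b16bf2030d1000911171224100a0f16bcb0a031001111331134000914162080d0080021113f115801455f16432818c800410041031411435f001f9870d9008100420374100f0b0040086c190101013d1078400c0006d6602a000201020113245167b404f408a5b904011029026d104b5400df38bcf10801131a013d31233102c2e8a3291001011f105c01055b00e920c1e0200102101334c069dd0290b809384001105e0218114b4406691071f18001135e017ce027fc0432f04688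
/-- right inverse -/
def W' : ℕ := 0xfbc3f717fc465e46880000000001cbc460eb446d2271f10000000002a216d639dd32170938000000000493f170455b1d24c1e00000000008f342f9d331385da3290000000010c525b8ab541be7bcf10000000020a03692f7b45e81a5b9000000004097b1e20c007acc2a0000000000808847d08f0b08016c190000000100882650e35f03f370d90000000200d7f360655fe86518c80000000400d672d00914e410d0080000000800d2f4908a0ff796a0310000001000d4f5c0e24bf7e430d1000000200087e1606844047518c0000000400080000000000000000000000000007beb97675fd4f0e4c800000080004c6b906450d7f710c8000001000076600680cf0347000100000200004000000000000000000000000000272b9be530d6f7c4c9000004000016cb9a6510d537c8c80000080000200000000000000000000000000010000000000000000000000000000fe000001f0387d40000001000000800000000000000000000000000040000000000000000000000000002000000000000000000000000000100000000000000000000000000008000000000000000000000000000400000000000000000000000000020000000000000000000000000001dad000703d816100000200000001b4a00040017190800004000000016d683f203c0709b000080000000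10000000000000000000000000000e3183fe03f0705d00010000000008000000000000000000000000000400000000000000000000000000020000000000000000000000000001f0000f0000102000020000000001000000000000000000000000000080000000000000000000000000004000000000000000000000000000200000000000000000000000000010000000000000000000000000000f800f03c70c010004000000000008000000000000000000000000000400000000000000000000000000020000000000000000000000000001000000000000000000000000000080000000000000000000000000007e4703fbe7e00008000000000000694b03fae7e0001000000000000054c203feefe000200000000000004000000000000000000000000000302e03f8efe00040000000000000200000000000000000000000000010000000000000000000000000000c1f0000080000800000000000000800000000000000000000000000040000000000000000000000000002000000000000000000000000000100000000000000000000000000008000000000000000000000000000400000000000000000000000000020000000000000000000000000001000000000000000000000000000080000000000000000000000000004000000000000000000000000000200000000000000000000000000010000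000000000000000000000000fe1b0e0001000000000000000000d115d50002000000000000000000a88604800400000000000000000080000000000000000000000000006430084008000000000000000000400000000000000000000000000020000000000000000000000000001c47d0201000000000000000000010000000000000000000000000000800000000000000000000000000040000000000000000000000000002000000000000000000000000000100000000000000000000000000008000000000000000000000000000400000000000000000000000000020000000000000000000000000001000000000000000000000000000080000000000000000000000000004000000000000000000000000000200000000000000000000000000010000000000000000000000000000b40020000000000000000000000044004000000000000000000000000c0080000000000000000000000080000000000000000000000000004000000000000000000000000000200000000000000000000000000010000000000000000000000000000800000000000000000000000000040000000000000000000000000002000000000000000000000000000100000000000000000000000000008000000000000000000000000000400000000000000000000000000020000000000000000000000000001000000000000000000000000000080000000000000000000000000004000000000000000000000000000200000000000000000000000000010000000000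
/-- diagonal -/
def Ea : ℕ := 0x8000000000000000000000000000400000000000000000000000000020000000000000000000000000001000000000000000000000000000080000000000000000000000000004000000000000000000000000000200000000000000000000000000010000000000000000000000000000800000000000000000000000000040000000000000000000000000002000000000000000000000000000100000000000000000000000000008000000000000000000000000000400000000000000000000000000020000000000000000000000000001000000000000000000000000000080000000000000000000000000004000000000000000000000000000200000000000000000000000000010000000000000000000000000000800000000000000000000000000040000000000000000000000000002000000000000000000000000000100000000000000000000000000008000000000000000000000000000400000000000000000000000000020000000000000000000000000001000000000000000000000000000080000000000000000000000000004000000000000000000000000000200000000000000000000000000010000000000000000000000000000800000000000000000000000000040000000000000000000000000002000000000000000000000000000100000000000000000000000000008000000000000000000000000000400000000000000000000000000020000000000000000000000000001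
/-- left factor -/
def U : ℕ := 0xcc372f003c00000000000000000000000f0031000000000073aba4b0299a6290c0400000000008ea628029a60a11b220000000002222222211104224801000000000b32031a210d540084804000000002afb73a20b4a4b15320200000000d29060220a72e9385281000000006feb17a0dd30e09fb8008000000033003300cc03233cd200400000005693e41222e4c5a5f08020000000b92a9102d6ece0551a00080000000e10e30202204408d80004000000599314122de705a5e08002000000000000006995a0000800010000001d03e230280dd51c22000080000000000000c3c4ef003200004000000000000000fc068da8000020000000000000cccb2a497800001000000000000000000338d20000080000422b24b2e771fdaaf88000040000296bd3a20b8ebf23f200000200003d23e30202dc972cd8000001000039b1c682307dbed93a8010008000817bb482d889ca9b2a800000400018500682331531665088000020001d03e230b1944a1c1a00000010000000000000000003f00000000800ff00ff003334dfe3e2000000040027e8a0900a92cf213a000000020000000000cccb200002000000010027e8a090c659ef2138000000008000000000cccb200002000000004000000000cccb20000200000000204e8136065030465090000000001055aa55aa999a6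a5568000000000814db93a30a6ecc05fa0000000004edf312c0be9b85e01a0000000002e2fce2307da365fc0800000000013c11c3220fefc87538000000000082fbe382b8b5d1eff8000000000095104022f639304bf20000000000951040223aae140aca000000000065d3040012284e77008000000000a25be3b08ad95f8d300000000000aec922a23e83473eda0000000000a1b83002040a4b0ffa80100000001c6a74b0ef889b17e880000000003f690300fa917c5d62880000000021122112be87826922000000000082fbe382b8e9da52c200000000005d03cc2083c74c26c000000000002bfa608241f72b540a00000000006e58679226b129a4c08000000000f85a17a258291dd2c0800000000082eae3a07456fd6be8000000000018fa53828d600d68da0000000000fb7926a451b04e09780000000000a039d1b8beefeff0828000000000ea7b0583988135cff0800000000075ebe4628a6478f3f200000000005cc76782c578d5c2080000000000ad934502463e091e10800000000092e8e5b28b434363aa0000000000cb09d180323e7939c2000000000065688cb2b137118922800000000009b2b190aa8f60e4a800000000005e8120004fdaa8bb188000000000051923301dfdffa32a8000000000ce32ab100f0f66069a00000000009fe193002f3b071838000000000004f8f202e1b467a2128000000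000cf3a21a0e657afd018800000000057e8e63000784600b800000000008ae0851064426589600000000000b03055104b3510fb9a000000000064c9618244f4eda4180800000000bd936f0075f52e62f000000000002bb1c3308379a626f8800000000040d8b18055ca320faa00000000001c4887b2e652b5fff88000000000b5605f101ba0ddcb608000000000c38380229d3c7eeec8800000000029320a90b4e0d2fe7880100000005342bc806a8cf0f4ca8000000000702be8209c78f2fb228000000000dcdb29b261158c6d58000000000002fa02222c6fe285f2800000000030a2b1a2da57a1b2a20000000000a5b17d00ae488ede608000000000a038c592c274ece16a0000000000ccc0a110356b512dda0000000000eeeba522c324891e02800000000038e20390ff9f94062280000000005debc7b086b2e55a980000000000c66830a2245f23be2880000000002d806092c7e9eb9ab00000000000a8023112e37c437e980000000000ba29ed20b9e9d11eb88000000000c7db27a27b0d34f6aa0000000000140844908f500740200000000000e83b0b107de8fa99b0800000000002f0e432fd5d3565920000000000da910690df09730f2a000000000075a10420ef070ef1508000000000b0b310b0a9b16d96da00000000001d73f632a829050d3080000000004e0148926598092e488000000000ffa05612cfa3c67cfa8000000000a243b800b4e2bf8c12800000000012ea0b121d2331fed880000000009d2b3e8247daedd7520000000000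
/-- selection of columns -/
def W1 : ℕ := 0x20000000000000000000000000001000000000000000000000000000080000000000000000000000000004000000000000000000000000000200000000000000000000000000010000000000000000000000000000800000000000000000000000000040000000000000000000000000002000000000000000000000000000100000000000000000000000000008000000000000000000000000000400000000000000000000000000020000000000000000000000000001000000000000000000000000000080000000000000000000000000004000000000000000000000000000200000000000000000000000000010000000000000000000000000000800000000000000000000000000040000000000000000000000000002000000000000000000000000000100000000000000000000000000008000000000000000000000000000400000000000000000000000000020000000000000000000000000001000000000000000000000000000080000000000000000000000000004000000000000000000000000000200000000000000000000000000010000000000000000000000000000800000000000000000000000000040000000000000000000000000002000000000000000000000000000100000000000000000000000000008000000000000000000000000000400000000000000000000000000020000000000000000000000000001000000000000000000000000000080000000000000000000000000004000000000000000000000000000200000000000000000000000000010000000000000000000000000000800000000000000000000000000040000000000000000000000000002000000000000000000000000000100000000000000000000000000008000000000000000000000000000400000000000000000000000000020000000000000000000000000001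
/-- selection of columns -/
def W2 : ℕ := 0x10000000000000000000000000000800000000000000000000000000040000000000000000000000000002000000000000000000000000000100000000000000000000000000008000000000000000000000000000400000000000000000000000000020000000000000000000000000001000000000000000000000000000080000000000000000000000000004000000000000000000000000000200000000000000000000000000010000000000000000000000000000800000000000000000000000000040000000000000000000000000002000000000000000000000000000100000000000000000000000000008000000000000000000000000000400000000000000000000000000020000000000000000000000000001000000000000000000000000000080000000000000000000000000004000000000000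
/-- diagonal -/
def Eb : ℕ := 0x100000000000000000000000000008000000000000000000000000000400000000000000000000000000020000000000000000000000000001000000000000000000000000000080000000000000000000000000004000000000000000000000000000200000000000000000000000000010000000000000000000000000000800000000000000000000000000040000000000000000000000000002000000000000000000000000000100000000000000000000000000008000000000000000000000000000400000000000000000000000000020000000000000000000000000001000000000000000000000000000080000000000000000000000000004000000000000000000000000000200000000000000000000000000010000000000000000000000000000800000000000000000000000000040000000000000000000000000002000000000000000000000000000100000000000000000000000000008000000000000000000000000000400000000000000000000000000020000000000000000000000000001000000000000000000000000000080000000000000000000000000004000000000000000000000000000200000000000000000000000000010000000000000000000000000000800000000000000000000000000040000000000000000000000000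0020000000000000000000000000001000000000000000000000000000080000000000000000000000000004000000000000000000000000000200000000000000000000000000010000000000000000000000000000800000000000000000000000000040000000000000000000000000002000000000000000000000000000100000000000000000000000000008000000000000000000000000000400000000000000000000000000020000000000000000000000000001000000000000000000000000000080000000000000000000000000004000000000000000000000000000200000000000000000000000000010000000000000000000000000000800000000000000000000000000040000000000000000000000000002000000000000000000000000000100000000000000000000000000008000000000000000000000000000400000000000000000000000000020000000000000000000000000001000000000000000000000000000080000000000000000000000000004000000000000000000000000000200000000000000000000000000010000000000000000000000000000800000000000000000000000000040000000000000000000000000002000000000000000000000000000100000000000000000000000000008000000000000000000000000000400000000000000000000000000020000000000000000000000000001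

end Cfsg.Agent.H41.JM.RankData
end

-- part: H41/JM/F9Rank
section
/-!
# Two pairs of elements of `2^11` which are not conjugate
-/

set_option autoImplicit false

open Cfsg

namespace Cfsg.Agent.H41.JM.Rank

open Cfsg.Agent.Lib Cfsg.Agent.Lib.F2Mat Cfsg.Agent.Lib.F2MatGroup Cfsg.Agent.Lib.F2Rank Matrix
open Cfsg.Agent.J4.Rep112 Cfsg.Agent.J4.LowerData Cfsg.Agent.J4.Lower Cfsg.Agent.J4.Beta
open Cfsg.Agent.J4.Classes
open Cfsg.Agent.H858.VK Cfsg.Agent.H858.Data

/-- two pairs with a different number of common fixed vectors -/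
theorem not_conj_pair {n a b : ℕ} (hab : n < a + b) {F : Matrix (Fin n) (Fin n) (ZMod 2)}
    (hF : a ≤ F.rank) {Z₁ Z₂ D₁ D₂ g : GL (Fin n) (ZMod 2)}
    (h₁ : F * (Z₁ : Matrix (Fin n) (Fin n) (ZMod 2)) = F)
    (h₂ : F * (Z₂ : Matrix (Fin n) (Fin n) (ZMod 2)) = F)
    {W₁ W₂ : Matrix (Fin n) (Fin n) (ZMod 2)}
    (hR : b ≤ (((D₁ : Matrix (Fin n) (Fin n) (ZMod 2)) + 1) * W₁ +
      ((D₂ : Matrix (Fin n) (Fin n) (ZMod 2)) + 1) * W₂).rank)
    (e₁ : g * Z₁ * g⁻¹ = D₁) (e₂ : g * Z₂ * g⁻¹ = D₂) : False := by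
  have key : ∀ Z D : GL (Fin n) (ZMod 2), F * (Z : Matrix (Fin n) (Fin n) (ZMod 2)) = F →
      g * Z * g⁻¹ = D → F * ((g⁻¹ : GL (Fin n) (ZMod 2)) : Matrix (Fin n) (Fin n) (ZMod 2)) *
      ((D : Matrix (Fin n) (Fin n) (ZMod 2)) + 1) = 0 := by
    intro Z D hZ hg
    have h5 : ((g⁻¹ : GL (Fin n) (ZMod 2)) : Matrix (Fin n) (Fin n) (ZMod 2)) *
        (D : Matrix (Fin n) (Fin n) (ZMod 2)) = (Z : Matrix (Fin n) (Fin n) (ZMod 2)) *
        ((g⁻¹ : GL (Fin n) (ZMod 2)) : Matrix (Fin n) (Fin n) (ZMod 2)) := by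
      rw [← hg, ← Units.val_mul, ← Units.val_mul]
      congr 1
      group
    rw [mul_add, mul_one, mul_assoc, h5, ← mul_assoc, hZ]
    ext i j
    rw [Matrix.add_apply, Matrix.zero_apply]
    exact CharTwo.add_self_eq_zero _
  have h3 := key Z₁ D₁ h₁ e₁
  have h4 := key Z₂ D₂ h₂ e₂
  have h5 : F * ((g⁻¹ : GL (Fin n) (ZMod 2)) : Matrix (Fin n) (Fin n) (ZMod 2)) *
      (((D₁ : Matrix (Fin n) (Fin n) (ZMod 2)) + 1) * W₁ +
      ((D₂ : Matrix (Fin n) (Fin n) (ZMod 2)) + 1) * W₂) = 0 := by
    rw [mul_add, ← mul_assoc, ← mul_assoc, h3, h4, zero_mul, zero_mul, add_zero]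
  have hr := rank_add_rank_le_card_of_mul_eq_zero h5
  rw [Fintype.card_fin] at hr
  have r1 : a ≤ (F * ((g⁻¹ : GL (Fin n) (ZMod 2)) : Matrix (Fin n) (Fin n) (ZMod 2))).rank := by
    have h6 : (F * ((g⁻¹ : GL (Fin n) (ZMod 2)) : Matrix (Fin n) (Fin n) (ZMod 2))) *
        (g : Matrix (Fin n) (Fin n) (ZMod 2)) = F := by
      rw [mul_assoc, ← Units.val_mul, inv_mul_cancel, Units.val_one, mul_one]
    refine hF.trans ?_
    conv_lhs => rw [← h6]
    exact Matrix.rank_mul_le_left _ _
  omega

/-! ### The computation -/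

/-- the word of a vector in the environment after `slpQ` -/
abbrev b0 (v : ℕ) : List ℕ := bw 11 0 v

/-- the checks -/
def chk (L : List ℕ) : Bool :=
  cond (Nat.beq (F2Mat.mul 112 RankData.F (evW 112 L (b0 165))) RankData.F)
    (cond (Nat.beq (F2Mat.mul 112 RankData.F (evW 112 L (b0 873))) RankData.F)
      (Nat.beq (F2Mat.mul 112 RankData.U
        (Nat.xor (F2Mat.mul 112 (Nat.xor (evW 112 L (b0 1495)) (F2Mat.one 112)) RankData.W1)
          (F2Mat.mul 112 (Nat.xor (evW 112 L (b0 1942)) (F2Mat.one 112)) RankData.W2)))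
        RankData.Eb) false) false

theorem checkR : run 112 slpQ codes chk = true := by decide +kernel

theorem getG_mgens {k : ℕ} (hk : k < 11) : getG (runG slpQ mgens) (0 + k) = qs.getD k 1 := by
  rw [Nat.zero_add]
  exact getG_take _ 11 k hk

theorem evG_b0 (v : ℕ) : evG (runG slpQ mgens) (b0 v) = rho (V v) := by
  have h := evG_bw (runG slpQ mgens) qs 0 v (by rw [qs_len]; exact fun i hi => getG_mgens hi)
  rw [qs_len] at h
  rw [rho_V]
  exact h

private theorem _root_.Cfsg.Agent.KOdc9a9a8.e0.{ku, kv} {α : Type kv} {M : List α → Sort ku} (φ : ∀ l, M l) {z : M List.nil} {s : ∀ a l, M l → M (List.cons a l)} (h0 : φ List.nil = z) (hs : ∀ a l, φ (List.cons a l) = s a l (φ l)) (l : List α) : φ l = @List.rec α M z s l := List.rec h0 (fun a l ih => (hs a l).trans (congrArg (s a l) ih)) l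
private noncomputable def _root_.Cfsg.Agent.KOdc9a9a8.k1.{ku0} : type_of% @List.all.{ku0} := @(fun x0 x1 x2 => @List.rec.{(ku0+1), ku0} @x0 @(fun x3 => (@x0 → @Bool) → @Bool) @(fun x3 => @Bool.true) @(fun x3 x4 x5 x6 => @Bool.rec.{1} @(fun x7 => @Bool) @Bool.false (@x5 @x6) (@x6 @x3)) @x1 @x2)
private theorem _root_.Cfsg.Agent.KOdc9a9a8.e1.{ku0} : @List.all.{ku0} = @_root_.Cfsg.Agent.KOdc9a9a8.k1.{ku0} := by delta _root_.Cfsg.Agent.KOdc9a9a8.k1; funext a0 a1 a2; refine (congrFun (_root_.Cfsg.Agent.KOdc9a9a8.e0 (fun a1 a2 => @List.all.{ku0} a0 a1 a2) ?_ (fun c0 c1 => ?_) a1) a2 :) <;> (rfl')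
private noncomputable def _root_.Cfsg.Agent.KOdc9a9a8.oEq.{ku} (α : Sort ku) (a b : Nat) (f t : α) : α := @Decidable.rec (a = b) (fun _ => α) (fun _ => f) (fun _ => t) (Nat.decEq a b)
private noncomputable def _root_.Cfsg.Agent.KOdc9a9a8.k5 : type_of% @Bool.decEq := @(fun x0 x1 => @Bool.rec.{1} @(fun x2 => @Decidable (@Eq.{1} _ @x2 @x1)) (@Bool.rec.{1} @(fun x2 => @Decidable (@Eq.{1} _ @Bool.false @x2)) (@Decidable.isTrue _ (@rfl.{1} _ _)) (@Decidable.isFalse _ @(fun x2 => @Bool.noConfusion.{0} _ _ _ @x2)) @x1) (@Bool.rec.{1} @(fun x2 => @Decidable (@Eq.{1} _ @Bool.true @x2)) (@Decidable.isFalse _ @(fun x2 => @Bool.noConfusion.{0} _ _ _ @x2)) (@Decidable.isTrue _ (@rfl.{1} _ _)) @x1) @x0)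
private theorem _root_.Cfsg.Agent.KOdc9a9a8.e5 : @Bool.decEq = @_root_.Cfsg.Agent.KOdc9a9a8.k5 := by delta _root_.Cfsg.Agent.KOdc9a9a8.k5; rfl'
private theorem _root_.Cfsg.Agent.KOdc9a9a8.e17.{ku} {M : Nat → Sort ku} (φ : ∀ n, M n) {z : M Nat.zero} {s : ∀ n, M n → M (Nat.succ n)} (h0 : φ Nat.zero = z) (hs : ∀ n, φ (Nat.succ n) = s n (φ n)) (n : Nat) : φ n = @Nat.rec M z s n := Nat.rec h0 (fun n ih => (hs n).trans (congrArg (s n) ih)) n
private noncomputable def _root_.Cfsg.Agent.KOdc9a9a8.k20 : type_of% @List.range.loop := @(fun x0 x1 => @Nat.rec.{1} @(fun x2 => (@List.{0} ℕ) → @List.{0} ℕ) @(fun x2 => @x2) @(fun x2 x3 x4 => @x3 (@x2 :: @x4)) @x0 @x1)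
private theorem _root_.Cfsg.Agent.KOdc9a9a8.e20 : @List.range.loop = @_root_.Cfsg.Agent.KOdc9a9a8.k20 := by delta _root_.Cfsg.Agent.KOdc9a9a8.k20; funext a0 a1; refine (congrFun (_root_.Cfsg.Agent.KOdc9a9a8.e17 (fun a0 a1 => @List.range.loop a0 a1) ?_ (fun c0 => ?_) a0) a1 :) <;> (rfl')
private noncomputable def _root_.Cfsg.Agent.KOdc9a9a8.k21 : (by first | exact type_of% @Cfsg.Agent.Lib.F2Rank.diagOk | exact Unit : Sort _) := by first | (refine @Subtype.val _ (fun g => @Cfsg.Agent.Lib.F2Rank.diagOk = @g) (@Subtype.mk _ _ (@(fun x0 x1 x2 => @Cfsg.Agent.KOdc9a9a8.k1.{0} _ (@Cfsg.Agent.KOdc9a9a8.k20 @x0 []) @(fun x3 => @Cfsg.Agent.KOdc9a9a8.k1.{0} _ (@Cfsg.Agent.KOdc9a9a8.k20 @x0 []) @(fun x4 => @Decidable.rec.{1} _ @(fun x5 => @Bool) @(fun x5 => @Bool.false) @(fun x5 => @Bool.true) (@Cfsg.Agent.KOdc9a9a8.k5 (@Bool.rec.{1} @(fun x5 => @Bool) @Bool.true @Bool.false (@Cfsg.Agent.KOdc9a9a8.oEq.{1} @Bool (@Nat.land (nat_lit 1) (@Nat.shiftRight @x2 (@Nat.add (@Nat.mul @x0 @x3) @x4))) (nat_lit 0) @Bool.false @Bool.true))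 (@Bool.rec.{1} @(fun x5 => @Bool) @Bool.false (@Nat.ble (@Nat.succ @x3) @x1) (@Nat.beq @x3 @x4))))))) ?_); rewrite [← Cfsg.Agent.KOdc9a9a8.e5, ← Cfsg.Agent.KOdc9a9a8.e20, ← Cfsg.Agent.KOdc9a9a8.e1.{0}]; rfl') | exact @Cfsg.Agent.Lib.F2Rank.diagOk | exact ()
private theorem _root_.Cfsg.Agent.KOdc9a9a8.e21 : (by first | exact @Cfsg.Agent.Lib.F2Rank.diagOk = @_root_.Cfsg.Agent.KOdc9a9a8.k21 | exact True : Prop) := by first | (delta _root_.Cfsg.Agent.KOdc9a9a8.k21; exact @Subtype.property _ (fun g => @Cfsg.Agent.Lib.F2Rank.diagOk = @g) _) | rfl | trivial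

theorem diagA : diagOk 112 40 RankData.Ea = true := by (first | (rewrite [Cfsg.Agent.KOdc9a9a8.e21]; decide +kernel) | decide +kernel)
theorem diagB : diagOk 112 73 RankData.Eb = true := by (first | (rewrite [Cfsg.Agent.KOdc9a9a8.e21]; decide +kernel) | decide +kernel)
theorem mulA : Nat.beq (F2Mat.mul 112 RankData.F RankData.W') RankData.Ea = true := by
  decide +kernel

theorem rank_F : 40 ≤ (toMat 112 RankData.F).rank := by
  calc 40 = (toMat 112 RankData.Ea).rank := (rank_diag (by norm_num) diagA).symm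
    _ ≤ _ := by
      rw [← Nat.eq_of_beq_eq_true mulA, toMat_mul]
      exact Matrix.rank_mul_le_left _ _

theorem matrices : ∃ W₁ W₂ : Matrix (Fin 112) (Fin 112) (ZMod 2),
    toMat 112 RankData.F * (rho (V 165) : Matrix (Fin 112) (Fin 112) (ZMod 2)) =
      toMat 112 RankData.F ∧
    toMat 112 RankData.F * (rho (V 873) : Matrix (Fin 112) (Fin 112) (ZMod 2)) =
      toMat 112 RankData.F ∧
    73 ≤ (((rho (V 1495) : Matrix (Fin 112) (Fin 112) (ZMod 2)) + 1) * W₁ +
      ((rho (V 1942) : Matrix (Fin 112) (Fin 112) (ZMod 2)) + 1) * W₂).rank := by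
  obtain ⟨L', h', hk⟩ := run_sound codes_gens checkR
  have hc : ∀ v, (rho (V v) : Matrix (Fin 112) (Fin 112) (ZMod 2)) =
      toMat 112 (evW 112 L' (b0 v)) := by
    intro v
    have h := codes_evW h' (b0 v)
    have h2 : evG (runG slpQ (List.map rho gens)) (b0 v) = rho (V v) := evG_b0 v
    rw [h2] at h
    exact h
  unfold chk at hk
  rcases hb : Nat.beq (F2Mat.mul 112 RankData.F (evW 112 L' (b0 165))) RankData.F with _ | _
  · rw [hb] at hk; exact absurd hk Bool.false_ne_true
  rw [hb, cond_true] at hk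
  rcases hb2 : Nat.beq (F2Mat.mul 112 RankData.F (evW 112 L' (b0 873))) RankData.F with _ | _
  · rw [hb2] at hk; exact absurd hk Bool.false_ne_true
  rw [hb2, cond_true] at hk
  refine ⟨toMat 112 RankData.W1, toMat 112 RankData.W2, ?_, ?_, ?_⟩
  · rw [hc, ← toMat_mul, Nat.eq_of_beq_eq_true hb]
  · rw [hc, ← toMat_mul, Nat.eq_of_beq_eq_true hb2]
  · have e1 : ∀ v, (rho (V v) : Matrix (Fin 112) (Fin 112) (ZMod 2)) + 1 =
        toMat 112 (Nat.xor (evW 112 L' (b0 v)) (F2Mat.one 112)) := by
      intro v
      rw [hc, ← toMat_one]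
      exact (toMat_xor 112 _ _).symm
    calc 73 = (toMat 112 RankData.Eb).rank := (rank_diag (by norm_num) diagB).symm
      _ ≤ _ := by
        rw [e1, e1, ← toMat_mul, ← toMat_mul, ← toMat_xor, ← Nat.eq_of_beq_eq_true hk]
        rw [toMat_mul]
        exact Matrix.rank_mul_le_right _ _

/-- The pair `V 1495`, `V 1942` is not conjugate to a pair in `⟨V 165, V 873⟩`. -/
theorem not_conj {z₁ z₂ : ℕ} (h₁ : z₁ ∈ [165, 873, 972]) (h₂ : z₂ ∈ [165, 873, 972])
    (g : Cfsg.Spor.J4) (e₁ : g * V z₁ * g⁻¹ = V 1495) (e₂ : g * V z₂ * g⁻¹ = V 1942) : False := by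
  obtain ⟨W₁, W₂, ha, hb, hR⟩ := matrices
  have hc : toMat 112 RankData.F * (rho (V 972) : Matrix (Fin 112) (Fin 112) (ZMod 2)) =
      toMat 112 RankData.F := by
    have h : V 972 = V 165 * V 873 := by rw [← V_xor]; rfl
    rw [h, map_mul, Units.val_mul, ← mul_assoc, ha, hb]
  have hall : ∀ z ∈ [165, 873, 972], toMat 112 RankData.F *
      (rho (V z) : Matrix (Fin 112) (Fin 112) (ZMod 2)) = toMat 112 RankData.F := by
    intro z hz
    simp only [List.mem_cons, List.not_mem_nil, or_false] at hz
    rcases hz with rfl | rfl | rfl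
    · exact ha
    · exact hb
    · exact hc
  refine not_conj_pair (a := 40) (b := 73) (by norm_num) rank_F (hall z₁ h₁) (hall z₂ h₂) hR
    (g := rho g) ?_ ?_
  · rw [← e₁, map_mul, map_mul, map_inv]
  · rw [← e₂, map_mul, map_mul, map_inv]

end Cfsg.Agent.H41.JM.Rank
end

-- part: H41/JM/F9Data
section
/-!
# Computations for the two kinds of 2A elements
-/

set_option autoImplicit false

open Cfsg

namespace Cfsg.Agent.H41.JM.F9Data

open Cfsg.Agent.Lib Cfsg.Agent.Lib.F2MatGroup
open Cfsg.Agent.J4.Rep112 Cfsg.Agent.J4.Pres Cfsg.Agent.J4.M24Hom Cfsg.Agent.J4.Nodes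
open Cfsg.Agent.J4.Beta Cfsg.Agent.J4.Classes Cfsg.Agent.J4.Invol
open Cfsg.Agent.J4.ClassesData (Ax Ay A1)
open Cfsg.Agent.J4.Lower Cfsg.Agent.J4.LowerData Cfsg.Agent.J4.ClassesAbs
open Cfsg.Agent.H858.VK
open Cfsg.Agent.H858.Data hiding eqsC
open Cfsg.Agent.H860.JM
open Cfsg.Agent.H41.JM.Cls
open Cfsg.Agent.H41.JM.Rank (b0 getG_mgens)

/-- word of the first element -/
def wA : List ℕ := [16, 14, 13, 14, 13, 15, 13, 14, 13, 14, 13, 15, 13, 15, 13, 14, 13, 15, 13, 14,
  13, 14, 13, 14] ++ b0 4
/-- word of the second element -/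
def wB : List ℕ := 16 :: (b0 2 ++ [15, 13, 14, 13, 15])

/-- the equations -/
def eqsW : List (List ℕ × List ℕ) := [
  (wA ++ b0 185, b0 165 ++ wA), (wA ++ b0 262, b0 1726 ++ wA),
  (wA ++ w1.map (13 + ·), b0 1497 ++ wA),
  (wB ++ b0 20, b0 1394 ++ wB), (wB ++ b0 170, b0 1495 ++ wB),
  (wB ++ (b0 5 ++ [13]), b0 1942 ++ wB)]

private noncomputable def _root_.Cfsg.Agent.KOdc9a9a8.k9.{ku0} : (by first | exact type_of% @Cfsg.Agent.Lib.F2Mat.force.{ku0} | exact Unit : Sort _) := by first | (refine @Subtype.val _ (fun g => @Cfsg.Agent.Lib.F2Mat.force.{ku0} = @g) (@Subtype.mk _ _ (@(fun x0 x1 x2 => @Nat.rec.{ku0} @(fun x3 => @x0) (@x2 (nat_lit 0)) @(fun x3 x4 => @x2 (@Nat.succ @x3)) @x1)) ?_); rfl') | exact @Cfsg.Agent.Lib.F2Mat.force.{ku0} | exact ()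
private theorem _root_.Cfsg.Agent.KOdc9a9a8.e9.{ku0} : (by first | exact @Cfsg.Agent.Lib.F2Mat.force.{ku0} = @_root_.Cfsg.Agent.KOdc9a9a8.k9.{ku0} | exact True : Prop) := by first | (delta _root_.Cfsg.Agent.KOdc9a9a8.k9; exact @Subtype.property _ (fun g => @Cfsg.Agent.Lib.F2Mat.force.{ku0} = @g) _) | rfl | trivial
private noncomputable def _root_.Cfsg.Agent.KOdc9a9a8.k10 : (by first | exact type_of% @Cfsg.Agent.Lib.F2Mat.one | exact Unit : Sort _) := by first | (refine @Subtype.val _ (fun g => @Cfsg.Agent.Lib.F2Mat.one = @g) (@Subtype.mk _ _ (@(fun x0 => @Nat.div (@Nat.sub (@Nat.pow (nat_lit 2) (@Nat.mul (@Nat.succ @x0) @x0)) (nat_lit 1)) (@Nat.sub (@Nat.pow (nat_lit 2) (@Nat.succ @x0)) (nat_lit 1)))) ?_); rfl') | exact @Cfsg.Agent.Lib.F2Mat.one | exact ()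
private theorem _root_.Cfsg.Agent.KOdc9a9a8.e10 : (by first | exact @Cfsg.Agent.Lib.F2Mat.one = @_root_.Cfsg.Agent.KOdc9a9a8.k10 | exact True : Prop) := by first | (delta _root_.Cfsg.Agent.KOdc9a9a8.k10; exact @Subtype.property _ (fun g => @Cfsg.Agent.Lib.F2Mat.one = @g) _) | rfl | trivial
private noncomputable def _root_.Cfsg.Agent.KOdc9a9a8.k11 : (by first | exact type_of% @Cfsg.Agent.Lib.F2Mat.msk | exact Unit : Sort _) := by first | (refine @Subtype.val _ (fun g => @Cfsg.Agent.Lib.F2Mat.msk = @g) (@Subtype.mk _ _ (@(fun x0 => @Nat.div (@Nat.sub (@Nat.pow (nat_lit 2) (@Nat.mul @x0 @x0)) (nat_lit 1)) (@Nat.sub (@Nat.pow (nat_lit 2) @x0) (nat_lit 1)))) ?_); rfl') | exact @Cfsg.Agent.Lib.F2Mat.msk | exact ()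
private theorem _root_.Cfsg.Agent.KOdc9a9a8.e11 : (by first | exact @Cfsg.Agent.Lib.F2Mat.msk = @_root_.Cfsg.Agent.KOdc9a9a8.k11 | exact True : Prop) := by first | (delta _root_.Cfsg.Agent.KOdc9a9a8.k11; exact @Subtype.property _ (fun g => @Cfsg.Agent.Lib.F2Mat.msk = @g) _) | rfl | trivial
private noncomputable def _root_.Cfsg.Agent.KOdc9a9a8.k12 : (by first | exact type_of% @Cfsg.Agent.Lib.F2Mat.term | exact Unit : Sort _) := by first | (refine @Subtype.val _ (fun g => @Cfsg.Agent.Lib.F2Mat.term = @g) (@Subtype.mk _ _ (@(fun x0 x1 x2 x3 x4 => @Nat.mul (@Nat.land (@Nat.shiftRight @x2 @x4) @x1) (@Nat.mod (@Nat.shiftRight @x3 (@Nat.mul @x0 @x4)) (@Nat.pow (nat_lit 2) @x0)))) ?_); rfl') | exact @Cfsg.Agent.Lib.F2Mat.term | exact ()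
private theorem _root_.Cfsg.Agent.KOdc9a9a8.e12 : (by first | exact @Cfsg.Agent.Lib.F2Mat.term = @_root_.Cfsg.Agent.KOdc9a9a8.k12 | exact True : Prop) := by first | (delta _root_.Cfsg.Agent.KOdc9a9a8.k12; exact @Subtype.property _ (fun g => @Cfsg.Agent.Lib.F2Mat.term = @g) _) | rfl | trivial
private noncomputable def _root_.Cfsg.Agent.KOdc9a9a8.k13 : (by first | exact type_of% @Cfsg.Agent.Lib.F2Mat.mulAux | exact Unit : Sort _) := by first | (refine @Subtype.val _ (fun g => @Cfsg.Agent.Lib.F2Mat.mulAux = @g) (@Subtype.mk _ _ (@(fun x0 x1 x2 x3 x4 => @Nat.rec.{1} @(fun x5 => ℕ) (nat_lit 0) @(fun x5 x6 => @Nat.xor @x6 (@Cfsg.Agent.KOdc9a9a8.k12 @x0 @x1 @x2 @x3 @x5)) @x4)) ?_); rewrite [← Cfsg.Agent.KOdc9a9a8.e12]; (try delta Cfsg.Agent.Lib.F2Mat.mulAux); (try generalize @Cfsg.Agent.Lib.F2Mat.term = g0); rfl') | exact @Cfsg.Agent.Lib.F2Mat.mulAux | exact ()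
private theorem _root_.Cfsg.Agent.KOdc9a9a8.e13 : (by first | exact @Cfsg.Agent.Lib.F2Mat.mulAux = @_root_.Cfsg.Agent.KOdc9a9a8.k13 | exact True : Prop) := by first | (delta _root_.Cfsg.Agent.KOdc9a9a8.k13; exact @Subtype.property _ (fun g => @Cfsg.Agent.Lib.F2Mat.mulAux = @g) _) | rfl | trivial
private noncomputable def _root_.Cfsg.Agent.KOdc9a9a8.k14 : (by first | exact type_of% @Cfsg.Agent.Lib.F2Mat.mul | exact Unit : Sort _) := by first | (refine @Subtype.val _ (fun g => @Cfsg.Agent.Lib.F2Mat.mul = @g) (@Subtype.mk _ _ (@(fun x0 x1 x2 => @Cfsg.Agent.KOdc9a9a8.k9.{1} _ @x1 @(fun x3 => @Cfsg.Agent.KOdc9a9a8.k9.{1} _ @x2 @(fun x4 => @Cfsg.Agent.KOdc9a9a8.k9.{1} _ (@Cfsg.Agent.KOdc9a9a8.k11 @x0) @(fun x5 => @Cfsg.Agent.KOdc9a9a8.k13 @x0 @x5 @x3 @x4 @x0))))) ?_); rewrite [← Cfsg.Agent.KOdc9a9a8.e13, ← Cfsg.Agent.KOdc9a9a8.e11, ← Cfsg.Agent.KOdc9a9a8.e9.{1}]; (try delta Cfsg.Agent.Lib.F2Mat.mul); (try generalize @Cfsg.Agent.Lib.F2Mat.force.{1} = g0); (try generalize @Cfsg.Agent.Lib.F2Mat.msk = g1); (try generalize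 @Cfsg.Agent.Lib.F2Mat.mulAux = g2); rfl') | exact @Cfsg.Agent.Lib.F2Mat.mul | exact ()
private theorem _root_.Cfsg.Agent.KOdc9a9a8.e14 : (by first | exact @Cfsg.Agent.Lib.F2Mat.mul = @_root_.Cfsg.Agent.KOdc9a9a8.k14 | exact True : Prop) := by first | (delta _root_.Cfsg.Agent.KOdc9a9a8.k14; exact @Subtype.property _ (fun g => @Cfsg.Agent.Lib.F2Mat.mul = @g) _) | rfl | trivial
private noncomputable def _root_.Cfsg.Agent.KOdc9a9a8.k15 : (by first | exact type_of% @Cfsg.Agent.Lib.F2MatGroup.evW | exact Unit : Sort _) := by first | (refine @Subtype.val _ (fun g => @Cfsg.Agent.Lib.F2MatGroup.evW = @g) (@Subtype.mk _ _ (@(fun x0 x1 x2 => @List.rec.{1, 0} ℕ @(fun x3 => ℕ) (@Cfsg.Agent.KOdc9a9a8.k10 @x0) @(fun x3 x4 x5 => @Cfsg.Agent.KOdc9a9a8.k14 @x0 (@Cfsg.Agent.Lib.F2MatGroup.get (@Cfsg.Agent.KOdc9a9a8.k10 @x0) @x1 @x3) @x5) @x2)) ?_); rewrite [← Cfsg.Agent.KOdc9a9a8.e14, ← Cfsg.Agent.KOdc9a9a8.e10]; (try delta Cfsg.Agent.Lib.F2MatGroup.evW); (try generalize @Cfsg.Agent.Lib.F2Mat.one = g0); (try generalize @Cfsg.Agent.Lib.F2Mat.mul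 = g1); (try generalize @Cfsg.Agent.Lib.F2MatGroup.get = g2); rfl') | exact @Cfsg.Agent.Lib.F2MatGroup.evW | exact ()
private theorem _root_.Cfsg.Agent.KOdc9a9a8.e15 : (by first | exact @Cfsg.Agent.Lib.F2MatGroup.evW = @_root_.Cfsg.Agent.KOdc9a9a8.k15 | exact True : Prop) := by first | (delta _root_.Cfsg.Agent.KOdc9a9a8.k15; exact @Subtype.property _ (fun g => @Cfsg.Agent.Lib.F2MatGroup.evW = @g) _) | rfl | trivial
private noncomputable def _root_.Cfsg.Agent.KOdc9a9a8.k16 : (by first | exact type_of% @Cfsg.Agent.Lib.F2MatGroup.run | exact Unit : Sort _) := by first | (refine @Subtype.val _ (fun g => @Cfsg.Agent.Lib.F2MatGroup.run = @g) (@Subtype.mk _ _ (@(fun x0 x1 x2 x3 => @List.rec.{1, 0} (@List.{0} ℕ) @(fun x4 => (@List.{0} ℕ) → @Bool) @x3 @(fun x4 x5 x6 x7 => @Cfsg.Agent.KOdc9a9a8.k9.{1} _ (@Cfsg.Agent.KOdc9a9a8.k15 @x0 @x7 @x4) @(fun x8 => @x6 (@x8 :: @x7))) @x1 @x2)) ?_); rewrite [← Cfsg.Agent.KOdc9a9a8.e15, ← Cfsg.Agent.KOdc9a9a8.e9.{1}]; (try delta Cfsg.Agent.Lib.F2MatGroup.run); (try generalize @Cfsg.Agent.Lib.F2Mat.force.{1}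 = g0); (try generalize @Cfsg.Agent.Lib.F2MatGroup.evW = g1); rfl') | exact @Cfsg.Agent.Lib.F2MatGroup.run | exact ()
private theorem _root_.Cfsg.Agent.KOdc9a9a8.e16 : (by first | exact @Cfsg.Agent.Lib.F2MatGroup.run = @_root_.Cfsg.Agent.KOdc9a9a8.k16 | exact True : Prop) := by first | (delta _root_.Cfsg.Agent.KOdc9a9a8.k16; exact @Subtype.property _ (fun g => @Cfsg.Agent.Lib.F2MatGroup.run = @g) _) | rfl | trivial
private noncomputable def _root_.Cfsg.Agent.KOdc9a9a8.k22 : (by first | exact type_of% @Cfsg.Agent.Lib.F2MatGroup.eqs | exact Unit : Sort _) := by first | (refine @Subtype.val _ (fun g => @Cfsg.Agent.Lib.F2MatGroup.eqs = @g) (@Subtype.mk _ _ (@(fun x0 x1 x2 => @List.rec.{1, 0} ((@List.{0} ℕ) × (@List.{0} ℕ)) @(fun x3 => @Bool) @Bool.true @(fun x3 x4 x5 => @Bool.rec.{1} @(fun x6 => @Bool) @Bool.false @x5 (@Nat.beq (@Cfsg.Agent.KOdc9a9a8.k15 @x0 @x2 (@Prod.fst.{0, 0} _ _ @x3)) (@Cfsg.Agent.KOdc9a9a8.k15 @x0 @x2 (@Prod.snd.{0, 0} _ _ @x3)))) @x1)) ?_); rewrite [← Cfsg.Agent.KOdc9a9a8.e15]; (try delta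 Cfsg.Agent.Lib.F2MatGroup.eqs); (try generalize @Cfsg.Agent.Lib.F2MatGroup.evW = g0); rfl') | exact @Cfsg.Agent.Lib.F2MatGroup.eqs | exact ()
private theorem _root_.Cfsg.Agent.KOdc9a9a8.e22 : (by first | exact @Cfsg.Agent.Lib.F2MatGroup.eqs = @_root_.Cfsg.Agent.KOdc9a9a8.k22 | exact True : Prop) := by first | (delta _root_.Cfsg.Agent.KOdc9a9a8.k22; exact @Subtype.property _ (fun g => @Cfsg.Agent.Lib.F2MatGroup.eqs = @g) _) | rfl | trivial

theorem checkW : run 112 slpQ codes (fun L => eqs 112 eqsW L) = true := by (first | (rewrite [Cfsg.Agent.KOdc9a9a8.e16, Cfsg.Agent.KOdc9a9a8.e22]; decide +kernel) | decide +kernel)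

/-- the environment -/
noncomputable def LQ : List Cfsg.Spor.J4 := runG slpQ gens

theorem map_LQ : LQ.map rho = runG slpQ mgens := by
  unfold LQ mgens
  rw [runG_map]

theorem soundW : ∀ p ∈ eqsW, evG LQ p.1 = evG LQ p.2 := by
  obtain ⟨L', h', hk⟩ := run_sound codes_gens checkW
  have h'' : List.Forall₂ (Codes 112) (LQ.map rho) L' := by rw [map_LQ]; exact h'
  intro p hp
  apply rho_injective
  rw [← evG_map, ← evG_map]
  exact eqs_sound h'' hk p hp

theorem getG_LQ {k : ℕ} (hk : k < 11) : getG LQ (0 + k) = lJ.getD k 1 := by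
  rw [Nat.zero_add]
  exact getG_take _ 11 k hk

theorem evG_b0 (v : ℕ) : evG LQ (b0 v) = V v := by
  have h := evG_bw LQ lJ 0 v (by rw [lJ_length]; exact fun i hi => getG_LQ hi)
  rwa [lJ_length] at h

theorem q13 : getG LQ 13 = phi m₂ := phi_X.symm
theorem q14 : getG LQ 14 = phi YM := phi_Y.symm
theorem q15 : getG LQ 15 = phi YM⁻¹ := by
  rw [map_inv, phi_Y]; rfl

theorem evG_w1 : evG LQ (w1.map (13 + ·)) = phi m₁ := by
  have h2 : evG LQ (w1.map (13 + ·)) = evG [phi XM, phi YM, phi YM⁻¹] w1 := by
    apply evG_shift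
    intro i hi
    have h3 : i = 0 ∨ i = 1 ∨ i = 2 := by
      have : ∀ i ∈ w1, i = 0 ∨ i = 1 ∨ i = 2 := by decide
      exact this i hi
    rcases h3 with rfl | rfl | rfl
    · exact q13
    · exact q14
    · exact q15
  rw [h2]
  show _ = phi (Cfsg.Agent.SporadicStructure.M24El.el Cfsg.Agent.J4.M24InvolData.P1)
  rw [el_P1, ← evG_map]
  rfl

/-- the first element -/
noncomputable def gA : Cfsg.Spor.J4 := evG LQ wA
/-- the second element -/
noncomputable def gB : Cfsg.Spor.J4 := evG LQ wB

theorem gA_185 : gA * V 185 * gA⁻¹ = V 165 := by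
  have h := soundW (wA ++ b0 185, b0 165 ++ wA) (by decide +kernel)
  simp only [evG_append, evG_b0] at h
  exact mul_inv_eq_of_eq_mul h

theorem gA_262 : gA * V 262 * gA⁻¹ = V 1726 := by
  have h := soundW (wA ++ b0 262, b0 1726 ++ wA) (by decide +kernel)
  simp only [evG_append, evG_b0] at h
  exact mul_inv_eq_of_eq_mul h

theorem gA_m : gA * phi m₁ * gA⁻¹ = V 1497 := by
  have h := soundW (wA ++ w1.map (13 + ·), b0 1497 ++ wA) (by decide +kernel)
  rw [evG_append, evG_append, evG_w1, evG_b0] at h
  exact mul_inv_eq_of_eq_mul h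

theorem gB_20 : gB * V 20 * gB⁻¹ = V 1394 := by
  have h := soundW (wB ++ b0 20, b0 1394 ++ wB) (by decide +kernel)
  simp only [evG_append, evG_b0] at h
  exact mul_inv_eq_of_eq_mul h

theorem gB_170 : gB * V 170 * gB⁻¹ = V 1495 := by
  have h := soundW (wB ++ b0 170, b0 1495 ++ wB) (by decide +kernel)
  simp only [evG_append, evG_b0] at h
  exact mul_inv_eq_of_eq_mul h

theorem gB_m : gB * (V 5 * phi m₂) * gB⁻¹ = V 1942 := by
  have h := soundW (wB ++ (b0 5 ++ [13]), b0 1942 ++ wB) (by decide +kernel)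
  rw [evG_append, evG_append, evG_append, evG_b0, evG_b0, evG_single, q13] at h
  exact mul_inv_eq_of_eq_mul h

/-! ### Elements of `M24` -/

/-- conjugation by a word -/
theorem conj_word {l M : List ℕ} (h : mat l = M) (v : ℕ) :
    phi (wordG l) * V v * (phi (wordG l))⁻¹ = V (lin M v) := by
  rw [← h]
  exact conj_V (isMat_word l) v

/-- word -/
def l7 : List ℕ := [1, 0, 2, 0, 2, 0, 2, 0, 2, 0, 1, 0, 2, 0, 2, 0, 2, 0, 1, 0, 2, 0, 1, 0, 1, 0, 2,
  0, 2, 0, 1, 0, 2, 0, 1, 0, 2, 0, 2, 0, 2, 0, 1, 0]
/-- matrix -/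
def M7 : List ℕ := [284, 1731, 1754, 96, 955, 281, 726, 728, 465, 137, 181]
/-- word -/
def la : List ℕ := [1, 0, 1, 0, 2, 0, 2, 0, 1, 0, 1, 0, 2, 0, 2, 0, 1, 0, 1]
/-- matrix -/
def Ma : List ℕ := [176, 772, 501, 1104, 481, 8, 1996, 2, 1906, 1765, 1957]
/-- word -/
def lb : List ℕ := [1, 0, 2, 0, 1, 0, 2, 0, 1, 0, 2, 0, 1, 0, 2, 0, 1, 0, 2, 0, 1, 0, 2]
/-- matrix -/
def Mb : List ℕ := [1727, 987, 1710, 1403, 1722, 851, 1948, 1369, 1654, 532, 1044]
/-- word -/
def lA : List ℕ := [2, 0, 2, 0, 1, 0, 2, 0, 1, 0, 1, 0, 2, 0, 1, 0, 1, 0, 1]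
/-- matrix -/
def MA : List ℕ := [1157, 1676, 2043, 1780, 359, 771, 188, 945, 833, 158, 1345]
/-- word -/
def lB : List ℕ := [2, 0, 1, 0, 1, 0, 1, 0, 1, 0, 1, 0, 2, 0, 2, 0, 2, 0, 2, 0, 2, 0, 1, 0]
/-- matrix -/
def MB : List ℕ := [990, 714, 1163, 1874, 1526, 885, 352, 1243, 1211, 1118, 606]
/-- word -/
def lC : List ℕ := [2, 0, 1, 0, 2]
/-- matrix -/
def MC : List ℕ := [190, 1240, 1132, 1024, 286, 1039, 1048, 256, 1261, 1, 872]

theorem mat7 : mat l7 = M7 := by decide +kernel
theorem mata : mat la = Ma := by decide +kernel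
theorem matb : mat lb = Mb := by decide +kernel
theorem matA : mat lA = MA := by decide +kernel
theorem matB : mat lB = MB := by decide +kernel
theorem matC : mat lC = MC := by decide +kernel

/-- the word of `m₁` -/
theorem m₁_eq : (m₁ : M24) = wordG w1 := by
  show Cfsg.Agent.SporadicStructure.M24El.el Cfsg.Agent.J4.M24InvolData.P1 = _
  rw [el_P1]
  have key : ∀ w : List ℕ, (∀ i ∈ w, i = 0 ∨ i = 1 ∨ i = 2) →
      evG [XM, YM, YM⁻¹] w = wordG w := by
    intro w
    induction w with
    | nil => intro _; rfl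
    | cons a w ih =>
      intro h
      rw [evG_cons, ih fun i hi => h i (List.mem_cons_of_mem _ hi)]
      have h3 := h a (List.mem_cons_self ..)
      rcases h3 with rfl | rfl | rfl
      · rfl
      · rfl
      · rfl
  exact key w1 (by decide)

theorem m₂_eq : (m₂ : M24) = wordG [0] := by
  show XM = letG 0 * 1
  rw [mul_one, letG0]

theorem comm7 : wordG l7 * m₁ = m₁ * wordG l7 := by
  rw [m₁_eq, ← Cfsg.Agent.H858.M24Norm.wordG_append, ← Cfsg.Agent.H858.M24Norm.wordG_append]
  exact Cfsg.Agent.H858.M24Norm.wordG_eq (by decide +kernel)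

theorem comma : wordG la * m₂ = m₂ * wordG la := by
  rw [m₂_eq, ← Cfsg.Agent.H858.M24Norm.wordG_append, ← Cfsg.Agent.H858.M24Norm.wordG_append]
  exact Cfsg.Agent.H858.M24Norm.wordG_eq (by decide +kernel)

theorem commb : wordG lb * m₂ = m₂ * wordG lb := by
  rw [m₂_eq, ← Cfsg.Agent.H858.M24Norm.wordG_append, ← Cfsg.Agent.H858.M24Norm.wordG_append]
  exact Cfsg.Agent.H858.M24Norm.wordG_eq (by decide +kernel)

end Cfsg.Agent.H41.JM.F9Data
end

-- part: H41/JM/F9Two
section
/-!
# The two representatives of the 2A elements in `2^11 : M24` outside `2^11`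
-/

set_option autoImplicit false

open Cfsg

namespace Cfsg.Agent.H41.JM.Two

open Cfsg.Agent.Lib Cfsg.Agent.Lib.F2MatGroup
open Cfsg.Agent.J4.Rep112 Cfsg.Agent.J4.Pres Cfsg.Agent.J4.M24Hom Cfsg.Agent.J4.Nodes
open Cfsg.Agent.J4.Beta Cfsg.Agent.J4.Classes Cfsg.Agent.J4.Invol
open Cfsg.Agent.J4.ClassesData (Ax Ay A1)
open Cfsg.Agent.J4.Lower Cfsg.Agent.J4.LowerData Cfsg.Agent.J4.ClassesAbs
open Cfsg.Agent.H858.VK
open Cfsg.Agent.H858.Data hiding eqsC
open Cfsg.Agent.H858.Loc7 (Z V_mem_Z conj_s)
open Cfsg.Agent.H858.Norm57 (ms)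
open Cfsg.Agent.H858.Pent (lin_zero lin_xor mem_span)
open Cfsg.Agent.H860.JM
open Cfsg.Agent.H41.JM.Cls Cfsg.Agent.H41.JM.F9Data

/-- the representative of kind A -/
noncomputable def w₁ : Cfsg.Spor.J4 := phi m₁
/-- the representative of kind B -/
noncomputable def w₂ : Cfsg.Spor.J4 := V 5 * phi m₂

theorem A_sq {u : Cfsg.Spor.J4} (h : geo.A u) : u * u = 1 := by
  have h1 : IsConj s u := h
  obtain ⟨g, rfl⟩ := isConj_iff.1 h1
  have e : g * s * g⁻¹ * (g * s * g⁻¹) = g * (s * s) * g⁻¹ := by group
  rw [e, s_eq, V_sq]; group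

theorem V_ne {v : ℕ} (hv : v < 2048) (h0 : v ≠ 0) : V v ≠ 1 := by
  intro h
  exact h0 (V_inj hv (by norm_num) (h.trans V_zero.symm))

theorem A_ne {u : Cfsg.Spor.J4} (h : geo.A u) : u ≠ 1 := by
  have h1 : IsConj s u := h
  obtain ⟨g, rfl⟩ := isConj_iff.1 h1
  intro h2
  have h3 : s = 1 := by
    have e : s = g⁻¹ * (g * s * g⁻¹) * g := by group
    rw [e, h2]; group
  rw [s_eq] at h3
  exact V_ne (by norm_num) (by norm_num) h3

theorem w₁_A : geo.A w₁ := by
  have h := rep1_A
  rwa [V_zero, one_mul] at h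

theorem w₂_A : geo.A w₂ := rep2_A

theorem phi_mem (m : M24) : phi m ∈ Subgroup.normalizer (EJ : Set Cfsg.Spor.J4) :=
  phi_norm ⟨m, rfl⟩

theorem V_mem_norm (v : ℕ) : V v ∈ Subgroup.normalizer (EJ : Set Cfsg.Spor.J4) :=
  Subgroup.le_normalizer (V_mem v)

theorem eq_one_of_mul_mem {v : ℕ} {m : M24} (h : V v * phi m ∈ EJ) : m = 1 := by
  have h1 : phi m ∈ EJ := by
    have h2 := EJ.mul_mem (V_mem v) h
    rwa [← mul_assoc, V_sq, one_mul] at h2
  exact phi_injective ((inf_eq_one _ h1 ⟨m, rfl⟩).trans (map_one phi).symm)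

theorem m₁_ne : (m₁ : M24) ≠ 1 := by
  intro h
  apply A_ne w₁_A
  show phi m₁ = 1
  rw [h, map_one]

theorem m₂_ne : (m₂ : M24) ≠ 1 := by
  intro h
  have h1 := rep2_B
  rw [V_zero, one_mul, h, map_one] at h1
  have h2 : IsConj d 1 := h1
  rw [isConj_one_left] at h2
  rw [d_eq] at h2
  exact V_ne (by norm_num) (by norm_num) h2

theorem act₁ : Act geo EJ w₁ where
  mem := phi_mem _
  not_mem := fun h => m₁_ne (eq_one_of_mul_mem (v := 0) (by rw [V_zero, one_mul]; exact h))
  A := w₁_A

theorem act₂ : Act geo EJ w₂ where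
  mem := Subgroup.mul_mem _ (V_mem_norm 5) (phi_mem _)
  not_mem := fun h => m₂_ne (eq_one_of_mul_mem h)
  A := w₂_A

theorem linA1_lt (v : ℕ) : lin A1 v < 2048 := lin_lt (by decide) v
theorem linAx_lt (v : ℕ) : lin Ax v < 2048 := lin_lt (by decide) v

/-- the commutation of `V v` and `V a * phi m` -/
theorem comm_iff {m : M24} {A : List ℕ} (hA : ∀ v, phi m * V v * (phi m)⁻¹ = V (lin A v))
    (hlt : ∀ v, lin A v < 2048) {v : ℕ} (hv : v < 2048) (a : ℕ) :
    V v * (V a * phi m) = V a * phi m * V v ↔ lin A v = v := by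
  have h1 : V a * phi m * V v = V a * (V (lin A v) * phi m) := by
    rw [← hA]; group
  have h2 : V v * (V a * phi m) = V a * (V v * phi m) := by
    rw [← mul_assoc, V_comm v a, mul_assoc]
  rw [h1, h2]
  constructor
  · intro h
    exact (V_inj hv (hlt v) (mul_right_cancel (mul_left_cancel h))).symm
  · intro h
    rw [h]

/-- the square of `V v * phi m` -/
theorem sq_lin {m : M24} {A : List ℕ} (hA : ∀ v, phi m * V v * (phi m)⁻¹ = V (lin A v))
    (hlt : ∀ v, lin A v < 2048) {v : ℕ} (hv : v < 2048) (hm : m * m = 1)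
    (h : V v * phi m * (V v * phi m) = 1) : lin A v = v := by
  have h0 : phi m * phi m = 1 := by rw [← map_mul, hm, map_one]
  have h1 : V v * phi m * (V v * phi m) = V v * (phi m * V v * (phi m)⁻¹) * (phi m * phi m) := by
    group
  rw [h1, h0, mul_one, hA] at h
  have h2 : V (lin A v) = V v := by
    have h3 := V_sq v
    rw [← h] at h3
    exact (mul_left_cancel h3).symm
  exact V_inj (hlt v) hv h2

/-- the conjugate of an element of `EJ` under `M24` -/
theorem exists_conj (m : M24) (v : ℕ) : ∃ v' < 2048, phi m * V v * (phi m)⁻¹ = V v' :=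
  mem_EJ.1 ((Subgroup.mem_normalizer_iff.1 (phi_mem m) _).1 (V_mem v))

theorem el_P2 : Cfsg.Agent.SporadicStructure.M24El.el Cfsg.Agent.J4.M24InvolData.P2 = XM := by
  apply Subtype.ext
  rw [Cfsg.Agent.SporadicStructure.M24El.coe_el Cfsg.Agent.J4.M24Invol.ok_P2]
  ext1 p
  rw [Cfsg.Agent.SporadicA.GolayPerm.permOf_apply]
  revert p
  decide +kernel

/-- the elements in question are conjugate to `w₁` or `w₂` -/
theorem classify (hN : Subgroup.normalizer (EJ : Set Cfsg.Spor.J4) ≤ Cfsg.Agent.H858.FixJ4.B)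
    {w : Cfsg.Spor.J4} (hw : Act geo EJ w) :
    ∃ c ∈ Subgroup.normalizer (EJ : Set Cfsg.Spor.J4), c * w * c⁻¹ = w₁ ∨ c * w * c⁻¹ = w₂ := by
  obtain ⟨e, he, μ, rfl⟩ := mem_B.1 (hN hw.mem)
  obtain ⟨v, hv, rfl⟩ := mem_EJ.1 he
  have hμ1 : μ ≠ 1 := by
    rintro rfl
    apply hw.not_mem
    rw [map_one, mul_one]; exact he
  have hsq := A_sq hw.A
  have hμ : μ * μ = 1 := by
    obtain ⟨v', -, h1⟩ := exists_conj μ v
    have h2 : V v * phi μ * (V v * phi μ) = V v * (phi μ * V v * (phi μ)⁻¹) * phi (μ * μ) := by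
      rw [map_mul]; group
    rw [h1, ← V_xor] at h2
    rw [h2] at hsq
    exact eq_one_of_mul_mem (by rw [hsq]; exact EJ.one_mem)
  obtain ⟨ν, hν⟩ := Cfsg.Agent.J4.M24Invol.invol_conj μ hμ hμ1
  rw [el_P2] at hν
  obtain ⟨v', hv', h1⟩ := exists_conj ν v
  have key : ∀ m : M24, ν * μ * ν⁻¹ = m →
      phi ν * (V v * phi μ) * (phi ν)⁻¹ = V v' * phi m := by
    rintro m rfl
    rw [← h1, map_mul, map_mul, map_inv]; group
  have hmm : ∀ m : M24, ν * μ * ν⁻¹ = m → m * m = 1 := by
    rintro m rfl
    have : ν * μ * ν⁻¹ * (ν * μ * ν⁻¹) = ν * (μ * μ) * ν⁻¹ := by group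
    rw [this, hμ]; group
  have hA : ∀ m : M24, ν * μ * ν⁻¹ = m → geo.A (V v' * phi m) := by
    intro m hm
    rw [← key m hm]
    exact cInv.A_conj _ _ hw.A
  rcases hν with hν | hν
  · have h2 := sq_lin actV₁ linA1_lt hv' (hmm _ hν) (A_sq (hA _ hν))
    obtain ⟨r, h3⟩ := (over₁ hv' h2).2 ((over₁ hv' h2).1.1 (hA _ hν))
    refine ⟨(V r)⁻¹ * phi ν, Subgroup.mul_mem _ (Subgroup.inv_mem _ (V_mem_norm r)) (phi_mem ν),
      Or.inl ?_⟩
    have e : (V r)⁻¹ * phi ν * (V v * phi μ) * ((V r)⁻¹ * phi ν)⁻¹ =
        (V r)⁻¹ * (phi ν * (V v * phi μ) * (phi ν)⁻¹) * V r := by group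
    rw [e, key _ hν, ← h3]
    show _ = phi m₁
    group
  · have h2 := sq_lin actV₂ linAx_lt hv' (hmm _ hν) (A_sq (hA _ hν))
    obtain ⟨r, h3⟩ := (over₂ hv' h2).2 ((over₂ hv' h2).1.1 (hA _ hν))
    refine ⟨(V r)⁻¹ * phi ν, Subgroup.mul_mem _ (Subgroup.inv_mem _ (V_mem_norm r)) (phi_mem ν),
      Or.inr ?_⟩
    have e : (V r)⁻¹ * phi ν * (V v * phi μ) * ((V r)⁻¹ * phi ν)⁻¹ =
        (V r)⁻¹ * (phi ν * (V v * phi μ) * (phi ν)⁻¹) * V r := by group
    rw [e, key _ hν, ← h3]
    show _ = V 5 * phi m₂
    group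

/-- the 2A elements of the coset of `w₂` -/
theorem cent₂ {w : Cfsg.Spor.J4} (hw : Act geo EJ w) (h : w₂⁻¹ * w ∈ EJ) :
    ∃ r ∈ EJ, r * w * r⁻¹ = w₂ := by
  obtain ⟨a, ha, h1⟩ := mem_EJ.1 h
  obtain ⟨b, hb, h2⟩ := exists_conj m₂ a
  have h3 : w = V (5 ^^^ b) * phi m₂ := by
    have e : w = w₂ * (w₂⁻¹ * w) := by group
    rw [e, h1, V_xor, ← h2]
    show V 5 * phi m₂ * V a = _
    group
  have hlt : 5 ^^^ b < 2048 := Nat.xor_lt_two_pow (n := 11) (by norm_num) hb
  have hmm : (m₂ : M24) * m₂ = 1 := by
    have h4 : wordG [0, 0] = wordG [] := Cfsg.Agent.H858.M24Norm.wordG_eq (by decide +kernel)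
    have h5 : wordG [0, 0] = XM * (XM * 1) := rfl
    rw [h5, mul_one] at h4
    exact h4
  have hA := hw.A
  rw [h3] at hA
  have h4 := sq_lin actV₂ linAx_lt hlt hmm (A_sq hA)
  obtain ⟨r, h5⟩ := (over₂ hlt h4).2 ((over₂ hlt h4).1.1 hA)
  refine ⟨(V r)⁻¹, EJ.inv_mem (V_mem r), ?_⟩
  rw [h3, ← h5]
  show _ = V 5 * phi m₂
  group

/-! ### The groups `F_w` -/

/-- the elements for `w₁` -/
def F1 : List ℕ := [0, 119, 185, 206, 262, 369, 447, 456]

theorem mem_Fs₁ {u : Cfsg.Spor.J4} : u ∈ Fs geo EJ w₁ ↔ ∃ v ∈ F1, u = V v := by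
  have hd : ∀ v ∈ C1, cA v = true → v ∈ F1 := by decide +kernel
  have hd2 : ∀ v ∈ F1, v < 2048 ∧ lin A1 v = v ∧ v ∈ C1 ∧ (v = 0 ∨ cA v = true) := by
    decide +kernel
  have hw : w₁ = V 0 * phi m₁ := by rw [V_zero, one_mul]; rfl
  constructor
  · rintro ⟨h1, h2, h3⟩
    obtain ⟨v, hv, rfl⟩ := mem_EJ.1 h1
    rw [hw] at h2 h3
    have h4 := (comm_iff actV₁ linA1_lt hv 0).1 h2
    refine ⟨v, ?_, rfl⟩
    rcases h3 with h3 | ⟨h3, h5⟩
    · have : v = 0 := V_inj hv (by norm_num) (h3.trans V_zero.symm)
      rw [this]; decide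
    · rw [V_zero, one_mul] at h5
      have h6 := (over₁ hv h4).1.1 h5
      have h0 : v ≠ 0 := by
        rintro rfl
        rw [V_zero] at h3
        exact A_ne h3 rfl
      exact hd v h6 ((A_V_iff hv h0).1 h3)
  · rintro ⟨v, hv, rfl⟩
    obtain ⟨h1, h2, h3, h4⟩ := hd2 v hv
    refine ⟨V_mem v, ?_, ?_⟩
    · rw [hw]
      exact (comm_iff actV₁ linA1_lt h1 0).2 h2
    · by_cases h0 : v = 0
      · left; rw [h0]; exact V_zero
      · have h4 : cA v = true := h4.resolve_left h0
        right
        refine ⟨(A_V_iff h1 h0).2 h4, ?_⟩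
        exact (over₁ h1 h2).1.2 h3

theorem mem_Fs₂ {u : Cfsg.Spor.J4} : u ∈ Fs geo EJ w₂ ↔ ∃ v ∈ C2, u = V v := by
  have hd : ∀ v ∈ C2', v ^^^ 5 ∈ C2 := by decide +kernel
  have hd2 : ∀ v ∈ C2, v < 2048 ∧ lin Ax v = v ∧ lin Ax (v ^^^ 5) = v ^^^ 5 ∧ v ^^^ 5 ∈ C2' ∧
      (v = 0 ∨ cA v = true) := by
    decide +kernel
  have h5lin : lin Ax 5 = 5 := by decide
  have hx : ∀ v, V v * w₂ = V (v ^^^ 5) * phi m₂ := by
    intro v
    rw [V_xor]
    show V v * (V 5 * phi m₂) = _
    group
  constructor
  · rintro ⟨h1, h2, h3⟩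
    obtain ⟨v, hv, rfl⟩ := mem_EJ.1 h1
    have h4 := (comm_iff actV₂ linAx_lt hv 5).1 h2
    refine ⟨v, ?_, rfl⟩
    rcases h3 with h3 | ⟨h3, h5⟩
    · have : v = 0 := V_inj hv (by norm_num) (h3.trans V_zero.symm)
      rw [this]; decide
    · rw [hx] at h5
      have hlt : v ^^^ 5 < 2048 := Nat.xor_lt_two_pow (n := 11) hv (by norm_num)
      have h4' : lin Ax (v ^^^ 5) = v ^^^ 5 := by rw [lin_xor, h4, h5lin]
      have h6 := hd _ ((over₂ hlt h4').1.1 h5)
      rwa [Nat.xor_assoc, Nat.xor_self, Nat.xor_zero] at h6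
  · rintro ⟨v, hv, rfl⟩
    obtain ⟨h1, h2, h2', h3, h4⟩ := hd2 v hv
    refine ⟨V_mem v, ?_, ?_⟩
    · exact (comm_iff actV₂ linAx_lt h1 5).2 h2
    · by_cases h0 : v = 0
      · left; rw [h0]; exact V_zero
      · have h4 : cA v = true := h4.resolve_left h0
        right
        refine ⟨(A_V_iff h1 h0).2 h4, ?_⟩
        rw [hx]
        have hlt : v ^^^ 5 < 2048 := Nat.xor_lt_two_pow (n := 11) h1 (by norm_num)
        exact (over₂ hlt h2').1.2 h3

theorem ncard_list {S : Set Cfsg.Spor.J4} {L : List ℕ} (hS : ∀ u, u ∈ S ↔ ∃ v ∈ L, u = V v)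
    (hlt : ∀ v ∈ L, v < 2048) (hnd : L.Nodup) : S.ncard = L.length := by
  classical
  have h : S = (fun v => V v) '' (L.toFinset : Set ℕ) := by
    ext u
    rw [hS]
    constructor
    · rintro ⟨v, hv, rfl⟩
      exact ⟨v, by simpa using hv, rfl⟩
    · rintro ⟨v, hv, rfl⟩
      exact ⟨v, by simpa using hv, rfl⟩
  rw [h, Set.InjOn.ncard_image, Set.ncard_coe_finset, List.toFinset_card_of_nodup hnd]
  intro a ha b hb hab
  exact V_inj (hlt a (by simpa using ha)) (hlt b (by simpa using hb)) hab

theorem card_Fs₁ : (Fs geo EJ w₁).ncard = 8 :=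
  ncard_list (fun _ => mem_Fs₁) (by decide) (by decide)

theorem card_Fs₂ : (Fs geo EJ w₂).ncard = 32 :=
  ncard_list (fun _ => mem_Fs₂) (by decide) (by decide)

end Cfsg.Agent.H41.JM.Two
end
end

-- part: H41/JM/F9Kind
section
set_option linter.all false
open scoped Cfsg.Agent.FastGrp

/-!
# The two representatives are of kind A and of kind B
-/

set_option autoImplicit false

open Cfsg

namespace Cfsg.Agent.H41.JM.Kind

open Cfsg.Agent.Lib Cfsg.Agent.Lib.F2MatGroup
open Cfsg.Agent.J4.Rep112 Cfsg.Agent.J4.Pres Cfsg.Agent.J4.M24Hom Cfsg.Agent.J4.Nodes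
open Cfsg.Agent.J4.Beta Cfsg.Agent.J4.Classes Cfsg.Agent.J4.Invol
open Cfsg.Agent.J4.ClassesData (Ax Ay A1)
open Cfsg.Agent.H858.VK
open Cfsg.Agent.H858.Data hiding eqsC
open Cfsg.Agent.H858.Loc7 (Z V_mem_Z conj_s)
open Cfsg.Agent.H858.Norm57 (ms)
open Cfsg.Agent.H858.Pent (lin_zero lin_xor mem_span lin_mod)
open Cfsg.Agent.H860.JM
open Cfsg.Agent.H41.JM.Cls Cfsg.Agent.H41.JM.F9Data Cfsg.Agent.H41.JM.Two

/-- elements of a conjugate of `Z` -/
theorem tyA_of {g x y : Cfsg.Spor.J4} {a b : ℕ} (ha : ∃ u, lin zl u = a) (hb : ∃ u, lin zl u = b)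
    (hx : g * x * g⁻¹ = V a) (hy : g * y * g⁻¹ = V b) : TyA geo x y := by
  obtain ⟨u, hu⟩ := ha
  obtain ⟨u', hu'⟩ := hb
  refine ⟨cj g⁻¹ Z, ⟨g⁻¹, rfl⟩, ?_, ?_⟩
  · rw [mem_cj, inv_inv, hx]
    exact V_mem_Z u hu
  · rw [mem_cj, inv_inv, hy]
    exact V_mem_Z u' hu'

/-- elements of a conjugate of `EJ` -/
theorem mem_pt_of {g x : Cfsg.Spor.J4} {a : ℕ} (hx : g * x * g⁻¹ = V a) : x ∈ cj g⁻¹ EJ := by
  rw [mem_cj, inv_inv, hx]
  exact V_mem a

theorem tyA_one {x y : Cfsg.Spor.J4} (h : TyA geo x y) : TyA geo 1 y := by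
  obtain ⟨D, h1, -, h2⟩ := h
  exact ⟨D, h1, D.one_mem, h2⟩

theorem tyA_self {x y : Cfsg.Spor.J4} (h : TyA geo x y) : TyA geo x x := by
  obtain ⟨D, h1, h2, -⟩ := h
  exact ⟨D, h1, h2, h2⟩

theorem tyA_symm {x y : Cfsg.Spor.J4} (h : TyA geo x y) : TyA geo y x := by
  obtain ⟨D, h1, h2, h3⟩ := h
  exact ⟨D, h1, h3, h2⟩

/-! ### Kind A -/

theorem tyA_185 : TyA geo (V 185) w₁ := by
  have h := tyA_of (g := phi (wordG lA) * gA) (x := V 185) (y := w₁) (a := 972) (b := 1563)
    ⟨3, by decide⟩ ⟨6, by decide⟩ ?_ ?_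
  · exact h
  · have e : phi (wordG lA) * gA * V 185 * (phi (wordG lA) * gA)⁻¹ =
        phi (wordG lA) * (gA * V 185 * gA⁻¹) * (phi (wordG lA))⁻¹ := by group
    rw [e, gA_185, conj_word matA]
    congr 1
  · have e : phi (wordG lA) * gA * w₁ * (phi (wordG lA) * gA)⁻¹ =
        phi (wordG lA) * (gA * phi m₁ * gA⁻¹) * (phi (wordG lA))⁻¹ := by
      show phi (wordG lA) * gA * phi m₁ * (phi (wordG lA) * gA)⁻¹ = _
      group
    rw [e, gA_m, conj_word matA]
    congr 1

theorem comm7' : phi (wordG l7) * w₁ * (phi (wordG l7))⁻¹ = w₁ := by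
  show phi (wordG l7) * phi m₁ * (phi (wordG l7))⁻¹ = phi m₁
  rw [← map_mul, comm7, map_mul]; group

theorem tyA_step {v : ℕ} (h : TyA geo (V v) w₁) : TyA geo (V (lin M7 v)) w₁ := by
  have h1 := tyA_conj cInv (phi (wordG l7)) h
  rwa [conj_word mat7, comm7'] at h1

theorem iter_step {p : ℕ → Prop} {M : List ℕ} (h : ∀ v, p v → p (lin M v)) (i : ℕ) {v : ℕ}
    (hv : p v) : p ((lin M)^[i] v) := by
  induction i with
  | zero => exact hv
  | succ i ih => rw [Function.iterate_succ_apply']; exact h _ ih

theorem tyA₁ : ∀ v ∈ Fs geo EJ w₁, TyA geo v w₁ := by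
  intro u hu
  obtain ⟨v, hv, rfl⟩ := mem_Fs₁.1 hu
  have h : ∀ v ∈ F1, v = 0 ∨ ∃ i < 7, (lin M7)^[i] 185 = v := by decide +kernel
  rcases h v hv with rfl | ⟨i, -, rfl⟩
  · rw [V_zero]; exact tyA_one tyA_185
  · exact iter_step (p := fun v => TyA geo (V v) w₁) (fun _ => tyA_step) i tyA_185

/-- two elements of `EJ` are in a common point with `w₁` -/
def Pp (v v' : ℕ) : Prop := ∃ P', geo.Pt P' ∧ V v ∈ P' ∧ V v' ∈ P' ∧ w₁ ∈ P'

theorem pp_base : ∀ v ∈ [0, 185, 262, 447], ∀ v' ∈ [0, 185, 262, 447], Pp v v' := by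
  have h1 : V 185 ∈ cj gA⁻¹ EJ := mem_pt_of gA_185
  have h2 : V 262 ∈ cj gA⁻¹ EJ := mem_pt_of gA_262
  have h3 : w₁ ∈ cj gA⁻¹ EJ := mem_pt_of gA_m
  have h4 : V 447 ∈ cj gA⁻¹ EJ := by
    have e : V 447 = V 185 * V 262 := by rw [← V_xor]; rfl
    rw [e]; exact Subgroup.mul_mem _ h1 h2
  have h0 : V 0 ∈ cj gA⁻¹ EJ := by rw [V_zero]; exact Subgroup.one_mem _
  have key : ∀ v ∈ [0, 185, 262, 447], V v ∈ cj gA⁻¹ EJ := by
    intro v hv
    simp only [List.mem_cons, List.not_mem_nil, or_false] at hv
    rcases hv with rfl | rfl | rfl | rfl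
    · exact h0
    · exact h1
    · exact h2
    · exact h4
  intro v hv v' hv'
  exact ⟨_, ⟨gA⁻¹, rfl⟩, key v hv, key v' hv', h3⟩

theorem pp_step {v v' : ℕ} (h : Pp v v') : Pp (lin M7 v) (lin M7 v') := by
  obtain ⟨P', h1, h2, h3, h4⟩ := h
  have h5 := conj_mem_cj (g := phi (wordG l7)) h2
  have h6 := conj_mem_cj (g := phi (wordG l7)) h3
  have h7 := conj_mem_cj (g := phi (wordG l7)) h4
  rw [conj_word mat7] at h5 h6
  rw [comm7'] at h7
  exact ⟨_, cInv.Pt_conj _ _ h1, h5, h6, h7⟩

theorem pp_iter (i : ℕ) {v v' : ℕ} (h : Pp v v') : Pp ((lin M7)^[i] v) ((lin M7)^[i] v') := by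
  induction i with
  | zero => exact h
  | succ i ih =>
    rw [Function.iterate_succ_apply', Function.iterate_succ_apply']
    exact pp_step ih

theorem pt₁ : ∀ v ∈ Fs geo EJ w₁, ∀ v' ∈ Fs geo EJ w₁,
    ∃ P', geo.Pt P' ∧ v ∈ P' ∧ v' ∈ P' ∧ w₁ ∈ P' := by
  intro u hu u' hu'
  obtain ⟨v, hv, rfl⟩ := mem_Fs₁.1 hu
  obtain ⟨v', hv', rfl⟩ := mem_Fs₁.1 hu'
  have h : ∀ v ∈ F1, ∀ v' ∈ F1, ∃ i < 7, ∃ a ∈ [0, 185, 262, 447], ∃ a' ∈ [0, 185, 262, 447],
      (lin M7)^[i] a = v ∧ (lin M7)^[i] a' = v' := by decide +kernel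
  obtain ⟨i, -, a, ha, a', ha', rfl, rfl⟩ := h v hv v' hv'
  exact pp_iter i (pp_base a ha a' ha')

/-- `w₁` is of kind A -/
theorem KA₁ : KA geo EJ w₁ where
  act := act₁
  card := card_Fs₁
  tyA := tyA₁
  pt := pt₁
  mul := by
    intro u hu u' hu'
    obtain ⟨v, hv, rfl⟩ := mem_Fs₁.1 hu
    obtain ⟨v', hv', rfl⟩ := mem_Fs₁.1 hu'
    have h : ∀ v ∈ F1, ∀ v' ∈ F1, v ^^^ v' ∈ F1 := by decide
    exact mem_Fs₁.2 ⟨v ^^^ v', h v hv v' hv', (V_xor v v').symm⟩

/-! ### Kind B -/

theorem tyA_20 : TyA geo (V 20) w₂ := by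
  have h := tyA_of (g := phi (wordG lB) * gB) (x := V 20) (y := w₂) (a := 972) (b := 1495)
    ⟨3, by decide⟩ ⟨5, by decide⟩ ?_ ?_
  · exact h
  · have e : phi (wordG lB) * gB * V 20 * (phi (wordG lB) * gB)⁻¹ =
        phi (wordG lB) * (gB * V 20 * gB⁻¹) * (phi (wordG lB))⁻¹ := by group
    rw [e, gB_20, conj_word matB]
    congr 1
  · have e : phi (wordG lB) * gB * w₂ * (phi (wordG lB) * gB)⁻¹ =
        phi (wordG lB) * (gB * (V 5 * phi m₂) * gB⁻¹) * (phi (wordG lB))⁻¹ := by
      show phi (wordG lB) * gB * (V 5 * phi m₂) * (phi (wordG lB) * gB)⁻¹ = _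
      group
    rw [e, gB_m, conj_word matB]
    congr 1

theorem tyA_20_170 : TyA geo (V 20) (V 170) := by
  refine tyA_of (g := phi (wordG lC)) (a := 1394) (b := 1495) ⟨4, by decide⟩ ⟨5, by decide⟩ ?_ ?_
  · rw [conj_word matC]; congr 1
  · rw [conj_word matC]; congr 1

/-- an element of the centralizer of `w₂` mapping `V 170` to `V v` -/
def Tr (v : ℕ) : Prop := ∃ c : Cfsg.Spor.J4, c * w₂ * c⁻¹ = w₂ ∧ c * V 20 * c⁻¹ = V 20 ∧
  c * V 170 * c⁻¹ = V v

theorem tr_step {l M : List ℕ} (hM : mat l = M) (hc : wordG l * m₂ = m₂ * wordG l)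
    (h5 : lin M 5 ∈ C2') (h20 : lin M 20 = 20) {v : ℕ} (h : Tr v) : Tr (lin M v) := by
  obtain ⟨c, h1, h2, h3⟩ := h
  have hd : ∀ v ∈ C2', v < 2048 ∧ lin Ax v = v := by decide +kernel
  obtain ⟨r, hr⟩ := (over₂ (hd _ h5).1 (hd _ h5).2).2 h5
  have h4 : phi (wordG l) * w₂ * (phi (wordG l))⁻¹ = V r * w₂ * (V r)⁻¹ := by
    have e : phi (wordG l) * (V 5 * phi m₂) * (phi (wordG l))⁻¹ =
        (phi (wordG l) * V 5 * (phi (wordG l))⁻¹) *
          (phi (wordG l) * phi m₂ * (phi (wordG l))⁻¹) := by group
    have e2 : phi (wordG l) * phi m₂ * (phi (wordG l))⁻¹ = phi m₂ := by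
      rw [← map_mul, hc, map_mul]; group
    show phi (wordG l) * (V 5 * phi m₂) * (phi (wordG l))⁻¹ = V r * (V 5 * phi m₂) * (V r)⁻¹
    rw [e, e2, conj_word hM, hr]
  have h6 : ∀ a, (V r)⁻¹ * V a * V r = V a := by
    intro a
    rw [mul_assoc, V_comm a r]; group
  refine ⟨(V r)⁻¹ * phi (wordG l) * c, ?_, ?_, ?_⟩
  · have e : (V r)⁻¹ * phi (wordG l) * c * w₂ * ((V r)⁻¹ * phi (wordG l) * c)⁻¹ =
        (V r)⁻¹ * (phi (wordG l) * (c * w₂ * c⁻¹) * (phi (wordG l))⁻¹) * V r := by group
    rw [e, h1, h4]; group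
  · have e : (V r)⁻¹ * phi (wordG l) * c * V 20 * ((V r)⁻¹ * phi (wordG l) * c)⁻¹ =
        (V r)⁻¹ * (phi (wordG l) * (c * V 20 * c⁻¹) * (phi (wordG l))⁻¹) * V r := by group
    rw [e, h2, conj_word hM, h6, h20]
  · have e : (V r)⁻¹ * phi (wordG l) * c * V 170 * ((V r)⁻¹ * phi (wordG l) * c)⁻¹ =
        (V r)⁻¹ * (phi (wordG l) * (c * V 170 * c⁻¹) * (phi (wordG l))⁻¹) * V r := by group
    rw [e, h3, conj_word hM, h6]

/-- run a word in the two matrices -/
def runAB : List Bool → ℕ → ℕ
  | [], v => v
  | b :: l, v => bif b then lin Mb (runAB l v) else lin Ma (runAB l v)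

/-- words -/
def tabAB : List (List Bool) := [
  [false, true, false, false, false], [true, false, false, true, false],
  [true, false, false, false], [], [false, true, false, false, true, false, true, false],
  [false, true, false, true, false, true, false], [true, false, true, false, true, false],
  [false, true, false, true, false, false, false], [false, false, false, false, false],
  [true, false], [true, false, false, true, false, true, false],
  [false, true, false, true, false], [false, false, false, true, false, true, false],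
  [true, false, false, false, false, false],
  [false, true, false, true, false, false, true, false, true, false], [false, false, false],
  [false, false, false, false], [true, false, true, false, false, true, false, true, false],
  [true, false, true, false, false, false],
  [false, true, false, true, false, true, false, false, false], [false, false, true, false],
  [false, false], [false, true, false, false, true, false],
  [true, false, true, false, true, false, false, false], [true, false, true, false], [false],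
  [false, false, true, false, true, false], [true, false, true, false, false, true, false],
  [false, true, false, false, false, false, false], [false, true, false]]

theorem tr_run (l : List Bool) : Tr (runAB l 170) := by
  induction l with
  | nil => exact ⟨1, by group, by group, by rw [runAB]; group⟩
  | cons b l ih =>
    rcases b with _ | _
    · exact tr_step mata comma (by decide +kernel) (by decide +kernel) ih
    · exact tr_step matb commb (by decide +kernel) (by decide +kernel) ih

theorem tr_all {v : ℕ} (hv : v ∈ C2) (h0 : v ≠ 0) (h20 : v ≠ 20) : Tr v := by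
  have h : ∀ v ∈ C2, v = 0 ∨ v = 20 ∨ ∃ l ∈ tabAB, runAB l 170 = v := by decide +kernel
  rcases h v hv with h1 | h1 | ⟨l, -, rfl⟩
  · exact absurd h1 h0
  · exact absurd h1 h20
  · exact tr_run l

/-! ### The pair `V 170`, `w₂` is not in a line -/

theorem not_tyA_pair : ¬ TyA geo (V 1495) (V 1942) := by
  rintro ⟨D, ⟨g, rfl⟩, h1, h2⟩
  rw [mem_cj] at h1 h2
  obtain ⟨u, hu⟩ := mem_span.1 h1
  obtain ⟨u', hu'⟩ := mem_span.1 h2
  rw [← lin_mod] at hu hu'
  have e1 : g * V (lin zl (u % 2 ^ zl.length)) * g⁻¹ = V 1495 := by rw [← hu]; group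
  have e2 : g * V (lin zl (u' % 2 ^ zl.length)) * g⁻¹ = V 1942 := by rw [← hu']; group
  have hl : u % 2 ^ zl.length < 8 := Nat.mod_lt _ (by decide)
  have hl' : u' % 2 ^ zl.length < 8 := Nat.mod_lt _ (by decide)
  generalize u % 2 ^ zl.length = a at *
  generalize u' % 2 ^ zl.length = a' at *
  have ha0 : a ≠ 0 := by
    rintro rfl
    rw [lin_zero, V_zero] at e1
    exact V_ne (v := 1495) (by norm_num) (by norm_num) (by rw [← e1]; group)
  have ha0' : a' ≠ 0 := by
    rintro rfl
    rw [lin_zero, V_zero] at e2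
    exact V_ne (v := 1942) (by norm_num) (by norm_num) (by rw [← e2]; group)
  have hne : a ≠ a' := by
    rintro rfl
    rw [e1] at e2
    exact absurd (V_inj (by norm_num) (by norm_num) e2) (by norm_num)
  have h : ∀ a < 8, ∀ a' < 8, a = 0 ∨ a' = 0 ∨ a = a' ∨
      ∃ i < 7, ∃ z ∈ [165, 873, 972], ∃ z' ∈ [165, 873, 972],
        (lin ms)^[i] z = lin zl a ∧ (lin ms)^[i] z' = lin zl a' := by decide +kernel
  rcases h a hl a' hl' with h | h | h | ⟨i, -, z, hz, z', hz', h3, h4⟩
  · exact ha0 h
  · exact ha0' h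
  · exact hne h
  · obtain ⟨c, hc⟩ : ∃ c : Cfsg.Spor.J4, ∀ v, c * V v * c⁻¹ = V ((lin ms)^[i] v) := by
      clear h3 h4
      induction i with
      | zero => exact ⟨1, fun v => by rw [Function.iterate_zero_apply]; group⟩
      | succ i ih =>
        obtain ⟨c, hc⟩ := ih
        refine ⟨Cfsg.Agent.H858.Elem.s * c, fun v => ?_⟩
        have e : Cfsg.Agent.H858.Elem.s * c * V v * (Cfsg.Agent.H858.Elem.s * c)⁻¹ =
          Cfsg.Agent.H858.Elem.s * (c * V v * c⁻¹) * (Cfsg.Agent.H858.Elem.s)⁻¹ := by group
        rw [e, hc, Function.iterate_succ_apply']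
        exact conj_s _
    refine Rank.not_conj hz hz' (g * c) ?_ ?_
    · have e : g * c * V z * (g * c)⁻¹ = g * (c * V z * c⁻¹) * g⁻¹ := by group
      rw [e, hc, h3, e1]
    · have e : g * c * V z' * (g * c)⁻¹ = g * (c * V z' * c⁻¹) * g⁻¹ := by group
      rw [e, hc, h4, e2]

theorem not_tyA_170 : ¬ TyA geo (V 170) w₂ := by
  intro h
  have h1 := tyA_conj cInv gB h
  rw [gB_170] at h1
  have h2 : gB * w₂ * gB⁻¹ = V 1942 := gB_m
  rw [h2] at h1
  exact not_tyA_pair h1

theorem not_tyA {v : ℕ} (hv : v ∈ C2) (h0 : v ≠ 0) (h20 : v ≠ 20) : ¬ TyA geo (V v) w₂ := by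
  intro h
  obtain ⟨c, h1, -, h3⟩ := tr_all hv h0 h20
  have h4 := tyA_conj cInv c⁻¹ h
  have e1 : c⁻¹ * V v * c⁻¹⁻¹ = V 170 := by rw [← h3]; group
  have e2 : c⁻¹ * w₂ * c⁻¹⁻¹ = w₂ := by
    conv_lhs => rw [← h1]
    group
  rw [e1, e2] at h4
  exact not_tyA_170 h4

theorem isX_20 : IsX geo EJ w₂ (V 20) where
  mem := mem_Fs₂.2 ⟨20, by decide, rfl⟩
  ne := V_ne (by norm_num) (by norm_num)
  tyA := tyA_20

/-- `w₂` is of kind B -/
theorem KB₂ : KB geo EJ w₂ where
  act := act₂
  card := card_Fs₂
  ex := by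
    refine ⟨V 20, isX_20, ?_, ?_⟩
    · intro y hy
      obtain ⟨v, hv, rfl⟩ := mem_Fs₂.1 hy.mem
      by_contra hne
      refine not_tyA hv ?_ ?_ hy.tyA
      · rintro rfl
        exact hy.ne V_zero
      · rintro rfl
        exact hne rfl
    · intro y hy
      obtain ⟨v, hv, rfl⟩ := mem_Fs₂.1 hy
      by_cases h0 : v = 0
      · rw [h0, V_zero]; exact tyA_symm (tyA_one (tyA_symm tyA_20))
      · by_cases h20 : v = 20
        · rw [h20]; exact tyA_self tyA_20
        · obtain ⟨c, -, h2, h3⟩ := tr_all hv h0 h20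
          have h4 := tyA_conj cInv c tyA_20_170
          rwa [h2, h3] at h4

/-- the common points for `w₂` -/
theorem Cp₂ : Cp geo EJ w₂ := by
  intro y hy
  obtain ⟨v, hv, rfl⟩ := mem_Fs₂.1 hy
  have hw : w₂ ∈ cj gB⁻¹ EJ := mem_pt_of gB_m
  by_cases h0 : v = 0
  · exact ⟨_, ⟨gB⁻¹, rfl⟩, by rw [h0, V_zero]; exact Subgroup.one_mem _, hw⟩
  · by_cases h20 : v = 20
    · exact ⟨_, ⟨gB⁻¹, rfl⟩, by rw [h20]; exact mem_pt_of gB_20, hw⟩
    · obtain ⟨c, h1, -, h3⟩ := tr_all hv h0 h20
      have h4 : V 170 ∈ cj gB⁻¹ EJ := mem_pt_of gB_170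
      refine ⟨cj c (cj gB⁻¹ EJ), cInv.Pt_conj _ _ ⟨gB⁻¹, rfl⟩, ?_, ?_⟩
      · rw [← h3]; exact conj_mem_cj h4
      · rw [← h1]; exact conj_mem_cj hw

end Cfsg.Agent.H41.JM.Kind

private theorem dce_ae02abb7d605 : _root_.True := by
  try have : _root_.True := by simp only [_root_.Cfsg.Agent.H41.JM.Kind.runAB.eq_def]
  try have : _root_.True := by simp only [_root_.Cfsg.Agent.H41.JM.Kind.runAB.eq_2]
  try have : _root_.True := by simp only [_root_.Cfsg.Agent.H41.JM.Kind.runAB.eq_1]
  exact _root_.True.intro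
end

-- part: H41/JM/F9Same
section
set_option linter.all false
open scoped Cfsg.Agent.FastGrp

/-!
# The group `F_w` of an element of kind A determines its coset
-/

set_option autoImplicit false

open Cfsg

namespace Cfsg.Agent.H41.JM.Same

open Cfsg.Agent.Lib Cfsg.Agent.Lib.F2MatGroup
open Cfsg.Agent.J4.Rep112 Cfsg.Agent.J4.Pres Cfsg.Agent.J4.M24Hom Cfsg.Agent.J4.Nodes
open Cfsg.Agent.J4.Beta Cfsg.Agent.J4.Classes Cfsg.Agent.J4.Invol
open Cfsg.Agent.J4.ClassesData (Ax Ay A1)
open Cfsg.Agent.SporadicA.GolayBase (idx)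
open Cfsg.Agent.H858.VK
open Cfsg.Agent.H858.Data hiding eqsC
open Cfsg.Agent.H860.JM
open Cfsg.Agent.H41.JM.Cls Cfsg.Agent.H41.JM.F9Data Cfsg.Agent.H41.JM.Two

/-- vectors of the points (the duad `{i, 23}` for the point `i`) -/
def du : List ℕ := [1010, 1084, 653, 1862, 1496, 893, 1850, 1749, 1859, 1527, 275, 499, 27, 482,
  440, 253, 66, 192, 1000, 1529, 346, 341, 315, 0]

/-- the vector of a duad -/
def D (i j : GolayPt) : ℕ := du.getD (idx i) 0 ^^^ du.getD (idx j) 0

theorem D_X : ∀ i j : GolayPt, lin Ax (D i j) = D (X i) (X j) := by decide +kernel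
theorem D_Y : ∀ i j : GolayPt, lin Ay (D (Y i) (Y j)) = D i j := by decide +kernel

theorem conj_swap {G : Type*} [Group G] {a b c : G} (h : c⁻¹ * a * c⁻¹⁻¹ = b) :
    c * b * c⁻¹ = a := by
  rw [← h]; group

/-- the action on the duads -/
theorem conj_D (g : M24) : ∀ i j : GolayPt, phi g * V (D i j) * (phi g)⁻¹ =
    V (D ((g : Equiv.Perm GolayPt) i) ((g : Equiv.Perm GolayPt) j)) := by
  have hg : g ∈ Subgroup.closure ({XM, YM} : Set M24) :=
    (congrArg (fun K : Subgroup M24 => g ∈ K) closure_XYM).mpr (Subgroup.mem_top g)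
  have hY : ∀ v, (phi YM)⁻¹ * V v * ((phi YM)⁻¹)⁻¹ = V (lin Ay v) := by
    intro v
    apply rho_injective
    rw [map_mul, map_mul, map_inv rho ((phi YM)⁻¹), map_inv rho (phi YM), rho_V, rho_V]
    exact hyp.actY v
  induction hg using Subgroup.closure_induction with
  | mem x hx =>
    intro i j
    rcases hx with rfl | rfl
    · have h : phi XM * V (D i j) * (phi XM)⁻¹ = V (lin Ax (D i j)) := actV₂ _
      rw [D_X] at h
      exact h
    · have h := hY (D (Y i) (Y j))
      rw [D_Y] at h
      exact conj_swap h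
  | one =>
    intro i j
    rw [map_one, one_mul, inv_one, mul_one]
    rfl
  | mul x y _ _ hx hy =>
    intro i j
    have e : phi (x * y) * V (D i j) * (phi (x * y))⁻¹ =
        phi x * (phi y * V (D i j) * (phi y)⁻¹) * (phi x)⁻¹ := by rw [map_mul]; group
    rw [e, hy, hx]
    rfl
  | inv x _ hx =>
    intro i j
    have h := hx (((x⁻¹ : M24) : Equiv.Perm GolayPt) i) (((x⁻¹ : M24) : Equiv.Perm GolayPt) j)
    have e : ∀ p : GolayPt, (x : Equiv.Perm GolayPt) (((x⁻¹ : M24) : Equiv.Perm GolayPt) p) = p := by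
      intro p
      show ((x : Equiv.Perm GolayPt) * (x : Equiv.Perm GolayPt)⁻¹) p = p
      rw [mul_inv_cancel]; rfl
    rw [e, e] at h
    rw [map_inv]
    apply conj_swap
    rw [inv_inv]
    exact h

theorem D_lt (i j : GolayPt) : D i j < 2048 := by
  revert i j
  decide +kernel

/-- the relation of the points `i`, `j` (on the numbers) -/
def Rb (i j : GolayPt) : Bool := F1.all fun a =>
  Nat.beq a 0 || (!(cA (a ^^^ D i j)) && !(Nat.beq (a ^^^ D i j) 0))

/-- the relation of the points `i`, `j` -/
def R (i j : GolayPt) : Prop := ∀ a ∈ F1, a ≠ 0 → geo.B (V (a ^^^ D i j))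

theorem xor_lt {a : ℕ} (ha : a ∈ F1) (i j : GolayPt) : a ^^^ D i j < 2048 := by
  have h : ∀ a ∈ F1, a < 2048 := by decide
  exact Nat.xor_lt_two_pow (n := 11) (h a ha) (D_lt i j)

theorem R_iff (i j : GolayPt) : R i j ↔ Rb i j = true := by
  unfold R Rb
  rw [List.all_eq_true]
  constructor
  · intro h a ha
    rw [Bool.or_eq_true, Nat.beq_eq]
    by_cases h0 : a = 0
    · exact Or.inl h0
    · right
      have h1 := h a ha h0
      have h2 : a ^^^ D i j ≠ 0 := by
        intro h3
        rw [h3, V_zero] at h1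
        have h2 : IsConj d 1 := h1
        rw [isConj_one_left, d_eq] at h2
        exact V_ne (by norm_num) (by norm_num) h2
      rw [Bool.and_eq_true, Bool.not_eq_true', Bool.not_eq_true']
      constructor
      · by_contra h3
        rw [Bool.not_eq_false] at h3
        exact not_A_of_B h1 (A_V (xor_lt ha i j) h2 h3)
      · by_contra h3
        rw [Bool.not_eq_false, Nat.beq_eq] at h3
        exact h2 h3
  · intro h a ha h0
    have h1 := h a ha
    rw [Bool.or_eq_true, Nat.beq_eq, Bool.and_eq_true, Bool.not_eq_true', Bool.not_eq_true'] at h1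
    rcases h1 with h1 | ⟨h1, h2⟩
    · exact absurd h1 h0
    · refine B_V (xor_lt ha i j) ?_ h1
      intro h3
      rw [h3] at h2
      exact absurd h2 (by decide)

/-- the permutation of `m₁` -/
def σ₁ (i : GolayPt) : GolayPt :=
  Cfsg.Agent.SporadicA.GolayBase.pt (Cfsg.Agent.SporadicA.GolayPerm.papp
    Cfsg.Agent.J4.M24InvolData.P1 (idx i))

theorem m₁_apply (i : GolayPt) : ((m₁ : M24) : Equiv.Perm GolayPt) i = σ₁ i := by
  show ((Cfsg.Agent.SporadicStructure.M24El.el Cfsg.Agent.J4.M24InvolData.P1 : M24) :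
    Equiv.Perm GolayPt) i = _
  rw [Cfsg.Agent.SporadicStructure.M24El.coe_el Cfsg.Agent.J4.M24Invol.ok_P1]
  rfl

theorem Rb_iff : ∀ i j : GolayPt, i ≠ j → (Rb i j = true ↔ σ₁ i = j) := by decide +kernel

theorem R_iff' {i j : GolayPt} (h : i ≠ j) :
    R i j ↔ ((m₁ : M24) : Equiv.Perm GolayPt) i = j := by
  rw [R_iff, m₁_apply]
  exact Rb_iff i j h

/-- An element of `M24` preserving `F_{w₁}` commutes with `m₁`. -/
theorem comm_of_pres {ν : M24} (h1 : ∀ a ∈ F1, ∃ b ∈ F1, phi ν * V a * (phi ν)⁻¹ = V b)
    (h2 : ∀ b ∈ F1, ∃ a ∈ F1, phi ν * V a * (phi ν)⁻¹ = V b) : ν * m₁ = m₁ * ν := by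
  have hlt : ∀ a ∈ F1, a < 2048 := by decide
  have key : ∀ i j : GolayPt, R i j ↔
      R ((ν : Equiv.Perm GolayPt) i) ((ν : Equiv.Perm GolayPt) j) := by
    intro i j
    have hconj : ∀ a b : ℕ, phi ν * V a * (phi ν)⁻¹ = V b → phi ν * V (a ^^^ D i j) * (phi ν)⁻¹ =
        V (b ^^^ D ((ν : Equiv.Perm GolayPt) i) ((ν : Equiv.Perm GolayPt) j)) := by
      intro a b hab
      rw [V_xor, V_xor, ← conj_D, ← hab]; group
    have hne : ∀ a b : ℕ, a < 2048 → b < 2048 → phi ν * V a * (phi ν)⁻¹ = V b →
        (a = 0 ↔ b = 0) := by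
      intro a b ha hb hab
      constructor
      · rintro rfl
        rw [V_zero] at hab
        refine V_inj hb (by norm_num) ?_
        rw [← hab, V_zero]; group
      · rintro rfl
        rw [V_zero] at hab
        refine V_inj ha (by norm_num) ?_
        rw [V_zero]
        have e : V a = (phi ν)⁻¹ * (phi ν * V a * (phi ν)⁻¹) * phi ν := by group
        rw [e, hab]; group
    constructor
    · intro h b hb hb0
      obtain ⟨a, ha, hab⟩ := h2 b hb
      rw [← hconj a b hab]
      refine B_conj _ (h a ha fun h0 => hb0 ?_)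
      exact (hne a b (hlt a ha) (hlt b hb) hab).1 h0
    · intro h a ha ha0
      obtain ⟨b, hb, hab⟩ := h1 a ha
      have h3 := h b hb fun h0 => ha0 ((hne a b (hlt a ha) (hlt b hb) hab).2 h0)
      rw [← hconj a b hab] at h3
      have h4 := B_conj (phi ν)⁻¹ h3
      have e : (phi ν)⁻¹ * (phi ν * V (a ^^^ D i j) * (phi ν)⁻¹) * (phi ν)⁻¹⁻¹ =
          V (a ^^^ D i j) := by group
      rwa [e] at h4
  have hinj : Function.Injective (ν : Equiv.Perm GolayPt) := (ν : Equiv.Perm GolayPt).injective
  have hmain : ∀ i, (ν : Equiv.Perm GolayPt) (((m₁ : M24) : Equiv.Perm GolayPt) i) =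
      ((m₁ : M24) : Equiv.Perm GolayPt) ((ν : Equiv.Perm GolayPt) i) := by
    intro i
    by_cases hi : ((m₁ : M24) : Equiv.Perm GolayPt) i = i
    · rw [hi]
      by_contra hne
      obtain ⟨k, hk⟩ := (ν : Equiv.Perm GolayPt).surjective
        (((m₁ : M24) : Equiv.Perm GolayPt) ((ν : Equiv.Perm GolayPt) i))
      have hik : i ≠ k := by
        rintro rfl
        exact hne hk
      have h3 := (R_iff' (hinj.ne hik)).2 hk.symm
      have h4 := (R_iff' hik).1 ((key i k).2 h3)
      exact hik (hi.symm.trans h4)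
    · have h3 := (R_iff' (Ne.symm hi)).2 rfl
      have h4 := (key _ _).1 h3
      exact ((R_iff' (hinj.ne (Ne.symm hi))).1 h4).symm
  apply Subtype.ext
  apply Equiv.ext
  intro i
  exact hmain i

theorem mem_inv_mul {v : ℕ} {ν : M24} (h : ν * m₁ = m₁ * ν) :
    w₁⁻¹ * (V v * phi ν * w₁ * (V v * phi ν)⁻¹) ∈ EJ := by
  have e : w₁⁻¹ * (V v * phi ν * w₁ * (V v * phi ν)⁻¹) =
      ((phi m₁)⁻¹ * V v * (phi m₁)⁻¹⁻¹) *
        ((phi m₁)⁻¹ * (phi ν * phi m₁ * (phi ν)⁻¹) * (V v)⁻¹) := by
    show (phi m₁)⁻¹ * (V v * phi ν * phi m₁ * (V v * phi ν)⁻¹) = _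
    group
  have e2 : phi ν * phi m₁ * (phi ν)⁻¹ = phi m₁ := by
    rw [← map_mul, h, map_mul]; group
  rw [e, e2, inv_mul_cancel, one_mul]
  refine EJ.mul_mem ?_ (EJ.inv_mem (V_mem v))
  exact (Subgroup.mem_normalizer_iff.1 (Subgroup.inv_mem _ (phi_mem m₁)) _).1 (V_mem v)

/-- the group `F_w` determines the coset -/
theorem same (hN : Subgroup.normalizer (EJ : Set Cfsg.Spor.J4) ≤ Cfsg.Agent.H858.FixJ4.B)
    (c : Cfsg.Spor.J4) (hc : c ∈ Subgroup.normalizer (EJ : Set Cfsg.Spor.J4))
    (h : Fs geo EJ (c * w₁ * c⁻¹) = Fs geo EJ w₁) : w₁⁻¹ * (c * w₁ * c⁻¹) ∈ EJ := by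
  obtain ⟨e, he, ν, rfl⟩ := mem_B.1 (hN hc)
  obtain ⟨v, hv, rfl⟩ := mem_EJ.1 he
  apply mem_inv_mul
  have h1 := Fs_conj_eq cInv EJ w₁ (V v * phi ν)
  rw [cj_eq_of_mem_normalizer hc, h] at h1
  have hVν : ∀ a, V v * phi ν * V a * (V v * phi ν)⁻¹ = phi ν * V a * (phi ν)⁻¹ := by
    intro a
    obtain ⟨b, -, hb⟩ := exists_conj ν a
    have e : V v * phi ν * V a * (V v * phi ν)⁻¹ = V v * (phi ν * V a * (phi ν)⁻¹) * (V v)⁻¹ := by
      group
    rw [e, hb, V_comm v b]; group
  apply comm_of_pres
  · intro a ha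
    have h2 : (V v * phi ν) * V a * (V v * phi ν)⁻¹ ∈ Fs geo EJ w₁ := by
      rw [h1]
      exact ⟨V a, mem_Fs₁.2 ⟨a, ha, rfl⟩, rfl⟩
    obtain ⟨b, hb, h3⟩ := mem_Fs₁.1 h2
    exact ⟨b, hb, by rw [← h3, hVν]⟩
  · intro b hb
    have h2 : V b ∈ Fs geo EJ w₁ := mem_Fs₁.2 ⟨b, hb, rfl⟩
    rw [h1] at h2
    obtain ⟨u, hu, h3⟩ := h2
    obtain ⟨a, ha, rfl⟩ := mem_Fs₁.1 hu
    exact ⟨a, ha, by rw [← hVν]; exact h3⟩

end Cfsg.Agent.H41.JM.Same
end

-- part: H860/JM/Cj
section
set_option linter.all false
open scoped Cfsg.Agent.FastGrp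

/-!
# Conjugates of subgroups
-/

set_option autoImplicit false

namespace Cfsg.Agent.H860.JM

variable {G : Type*} [Group G]

theorem cj_cj (g h : G) (P : Subgroup G) : cj g (cj h P) = cj (g * h) P := by
  rw [cj, cj, cj, Subgroup.map_map]
  refine congrArg (fun f => Subgroup.map f P) (MonoidHom.ext fun u => ?_)
  show g * (h * u * h⁻¹) * g⁻¹ = g * h * u * (g * h)⁻¹
  group

theorem mem_cj {g x : G} {P : Subgroup G} : x ∈ cj g P ↔ g⁻¹ * x * g ∈ P := by
  rw [cj, Subgroup.mem_map]
  constructor
  · rintro ⟨y, hy, rfl⟩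
    have : g⁻¹ * (MulAut.conj g).toMonoidHom y * g = y := by
      show g⁻¹ * (g * y * g⁻¹) * g = y
      group
    rw [this]; exact hy
  · intro h
    refine ⟨_, h, ?_⟩
    show g * (g⁻¹ * x * g) * g⁻¹ = x
    group

theorem card_cj (g : G) (P : Subgroup G) : Nat.card (cj g P) = Nat.card P :=
  (Nat.card_congr (P.equivMapOfInjective (MulAut.conj g).toMonoidHom
    (MulAut.conj g).injective).toEquiv).symm

theorem cj_eq_iff {g : G} {P : Subgroup G} : cj g P = P ↔ g ∈ Subgroup.normalizer (P : Set G) := by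
  constructor
  · intro h
    rw [Subgroup.mem_normalizer_iff]
    intro x
    have h1 := mem_cj (g := g) (x := g * x * g⁻¹) (P := P)
    rw [h] at h1
    have h2 : g⁻¹ * (g * x * g⁻¹) * g = x := by group
    rw [h2] at h1
    exact h1.symm
  · intro h
    ext x
    rw [mem_cj]
    have h1 := (Subgroup.mem_normalizer_iff.1 h) (g⁻¹ * x * g)
    have h2 : g * (g⁻¹ * x * g) * g⁻¹ = x := by group
    rw [h2] at h1
    exact h1

theorem centralizer_cj (g : G) (P : Subgroup G) :
    Subgroup.centralizer (cj g P : Set G) = cj g (Subgroup.centralizer (P : Set G)) := by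
  ext x
  rw [mem_cj, Subgroup.mem_centralizer_iff, Subgroup.mem_centralizer_iff]
  constructor
  · intro h y hy
    have h1 := h (g * y * g⁻¹) (by
      rw [SetLike.mem_coe, mem_cj]
      have : g⁻¹ * (g * y * g⁻¹) * g = y := by group
      rw [this]; exact hy)
    calc y * (g⁻¹ * x * g) = g⁻¹ * (g * y * g⁻¹ * x) * g := by group
      _ = g⁻¹ * (x * (g * y * g⁻¹)) * g := by rw [h1]
      _ = g⁻¹ * x * g * y := by group
  · intro h y hy
    rw [SetLike.mem_coe, mem_cj] at hy
    have h1 := h _ hy
    calc y * x = g * (g⁻¹ * y * g * (g⁻¹ * x * g)) * g⁻¹ := by group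
      _ = g * (g⁻¹ * x * g * (g⁻¹ * y * g)) * g⁻¹ := by rw [h1]
      _ = x * y := by group

theorem normalizer_cj (g : G) (P : Subgroup G) :
    Subgroup.normalizer (cj g P : Set G) = cj g (Subgroup.normalizer (P : Set G)) := by
  ext x
  rw [mem_cj, ← cj_eq_iff, ← cj_eq_iff, cj_cj]
  constructor
  · intro h
    have h1 := congrArg (cj g⁻¹) h
    rw [cj_cj, cj_cj] at h1
    have h2 : g⁻¹ * (x * g) = g⁻¹ * x * g := by group
    have h3 : cj (g⁻¹ * g) P = P := by
      rw [inv_mul_cancel, cj_eq_iff]; exact Subgroup.one_mem _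
    rw [h2, h3] at h1
    exact h1
  · intro h
    have h1 := congrArg (cj g) h
    rw [cj_cj] at h1
    have h2 : g * (g⁻¹ * x * g) = x * g := by group
    rw [h2] at h1
    exact h1

end Cfsg.Agent.H860.JM

private theorem dce_693aa582ccf0 : _root_.True := by
  try have : _root_.True := by simp only [_root_.Cfsg.Agent.H860.JM.cj.eq_1]
  exact _root_.True.intro
end

-- part: H705/JM/BadFacts
section
prune_inst 0x4303004402200000000001020002020500000000008000100a00100010800000000080000200102002088000000004811440010401000000000000000040401002252060200a100200000003001100000000000000000000000000000000000200000000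
set_option linter.all false
open scoped Cfsg.Agent.FastGrp

-- part: H705/JM/BadAbs
section
/-!
# (F18) three commuting 2B elements whose points have trivial intersection: the abstract argument

`R1`, `Z1`, `Z3`, `Be`: what is needed from the concrete geometry of `J4`.
`f18_abs`: (F18) from these and the facts (F1), (F3) to (F7), (F9), (F13).
-/

set_option autoImplicit false

namespace Cfsg.Agent.H705.JM.BadAbs

open Cfsg.Agent.H860.JM

variable {G : Type*} [Group G] {Γ : Geom G}

/-- (R1) a line `D` and a 2A element `x` in a common point -/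
def R1 (Γ : Geom G) : Prop := ∀ (D P : Subgroup G) (x : G), Γ.Ln D → Γ.Pt P → D ≤ P → x ∈ P →
  Γ.A x → 4 ≤ {v | v ∈ D ∧ (v = 1 ∨ Γ.A (v * x))}.ncard

/-- (Z1) two commuting 2B elements whose points have an intersection of order 2 -/
def Z1 (Γ : Geom G) : Prop := ∀ (a b z : G) (P P' : Subgroup G), Γ.B a → Γ.B b → a * b = b * a →
  Γ.Pt P → Γ.Pt P' → a ∈ P → b ∈ P' → P ≠ P' → (∀ x, x ∈ P ⊓ P' ↔ x = 1 ∨ x = z) →
  Γ.A (a * b) ∧ KB Γ P (a * b) ∧ IsX Γ P (a * b) z ∧ Γ.B (a * z)

/-- (Z3) the point of a 2B element `w w'` where `w ∈ P` and `w'` is of kind B -/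
def Z3 (Γ : Geom G) : Prop := ∀ (w w' z : G) (P P' : Subgroup G), Γ.Pt P → KB Γ P w' →
  IsX Γ P w' z → w ∈ P → w * w' = w' * w → Γ.B (w * w') → Γ.Pt P' → w * w' ∈ P' →
  ∀ x, x ∈ P ⊓ P' ↔ x = 1 ∨ x = z

/-- (Be) the case where the three elements normalize a point `P` and are equal modulo `P` -/
def Be (Γ : Geom G) : Prop := ∀ (a b c : G) (Pa Pb Pc P : Subgroup G), Γ.B a → Γ.B b → Γ.B c →
  a * b = b * a → a * c = c * a → b * c = c * b → Γ.Pt Pa → Γ.Pt Pb → Γ.Pt Pc → a ∈ Pa → b ∈ Pb →
  c ∈ Pc → Pa ⊓ Pb ⊓ Pc = ⊥ → Γ.Pt P → a ∈ Subgroup.normalizer (P : Set G) → a ∉ P →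
  a * b ∈ P → a * c ∈ P → ∃ K : Subgroup G, K ≤ P ∧ 32 ≤ Nat.card K ∧ (∃ t ∈ K, Γ.B t) ∧
    ∀ x ∈ K, ∀ y ∈ Subgroup.normalizer (P : Set G), y * a = a * y → y * b = b * y →
      y * c = c * y → x * y = y * x

theorem tyA_symm {z w : G} (h : TyA Γ z w) : TyA Γ w z := by
  obtain ⟨D, h1, h2, h3⟩ := h
  exact ⟨D, h1, h3, h2⟩

/-- the hypotheses -/
structure Hy (Γ : Geom G) : Prop where
  f1 : F1 Γ
  f3 : F3 Γ
  f4 : F4 Γ
  f5 : F5 Γ
  f6 : F6 Γ
  f7 : F7 Γ
  kind : ∀ P w, Γ.Pt P → Act Γ P w → KA Γ P w ∨ KB Γ P w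
  f13 : F13 Γ
  r1 : R1 Γ
  z1 : Z1 Γ
  z3 : Z3 Γ
  be : Be Γ

namespace Hy

variable (H : Hy Γ)
include H

theorem pt_uniq {t : G} {P P' : Subgroup G} (ht : Γ.B t) (hP : Γ.Pt P) (hP' : Γ.Pt P')
    (h : t ∈ P) (h' : t ∈ P') : P = P' := by
  obtain ⟨Q, -, -, h1, -⟩ := H.f4 t ht
  rw [h1 P hP h, h1 P' hP' h']

theorem cent_norm {t y : G} {P : Subgroup G} (ht : Γ.B t) (hP : Γ.Pt P) (h : t ∈ P)
    (hy : y * t = t * y) : y ∈ Subgroup.normalizer (P : Set G) := by
  obtain ⟨Q, -, -, h1, h2⟩ := H.f4 t ht
  rw [h1 P hP h]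
  exact h2 (Subgroup.mem_centralizer_singleton_iff.2 hy)

theorem A_of_mem {x : G} {P P' : Subgroup G} (hP : Γ.Pt P) (hP' : Γ.Pt P') (hne : P ≠ P')
    (hx : x ∈ P) (hx' : x ∈ P') (hx1 : x ≠ 1) : Γ.A x := by
  rcases H.f5 P P' hP hP' hne with h | ⟨z, hz, h⟩ | h
  · exfalso
    apply hx1
    have h1 : x ∈ P ⊓ P' := ⟨hx, hx'⟩
    rwa [h, Subgroup.mem_bot] at h1
  · rcases (h x).1 ⟨hx, hx'⟩ with h1 | h1
    · exact absurd h1 hx1
    · rw [h1]; exact hz
  · exact H.f6.pure _ h x ⟨hx, hx'⟩ hx1

theorem ln_of_two {x y : G} {P P' : Subgroup G} (hP : Γ.Pt P) (hP' : Γ.Pt P') (hne : P ≠ P')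
    (hx : x ∈ P) (hx' : x ∈ P') (hx1 : x ≠ 1) (hy : y ∈ P) (hy' : y ∈ P') (hy1 : y ≠ 1)
    (hxy : x ≠ y) : Γ.Ln (P ⊓ P') := by
  rcases H.f5 P P' hP hP' hne with h | ⟨z, -, h⟩ | h
  · exfalso
    apply hx1
    have h1 : x ∈ P ⊓ P' := ⟨hx, hx'⟩
    rwa [h, Subgroup.mem_bot] at h1
  · exfalso
    rcases (h x).1 ⟨hx, hx'⟩ with h1 | h1
    · exact hx1 h1
    · rcases (h y).1 ⟨hy, hy'⟩ with h2 | h2
      · exact hy1 h2
      · exact hxy (h1.trans h2.symm)
  · exact h

theorem pt_eq_of_two {x y : G} {P P' : Subgroup G} (hP : Γ.Pt P) (hP' : Γ.Pt P')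
    (hx : x ∈ P) (hx' : x ∈ P') (hx1 : x ≠ 1) (hy : y ∈ P) (hy' : y ∈ P') (hy1 : y ≠ 1)
    (hxy : x ≠ y) (hT : ¬ TyA Γ x y) : P' = P := by
  by_contra hne
  exact hT ⟨_, H.ln_of_two hP' hP hne hx' hx hx1 hy' hy hy1 hxy, ⟨hx', hx⟩, ⟨hy', hy⟩⟩

theorem A_of_tyA {x y : G} (hT : TyA Γ x y) (hxy : x ≠ y) (hyy : y * y = 1) : Γ.A (x * y) := by
  obtain ⟨D, hD, hx, hy⟩ := hT
  refine H.f6.pure D hD _ (D.mul_mem hx hy) fun h => hxy ?_
  have h1 : x = x * (y * y) := by rw [hyy, mul_one]
  rw [h1, ← mul_assoc, h, one_mul]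

/-- an element commuting with `x` and `y` normalizes the only point containing `x` and `y` -/
theorem norm_of_two {x y u : G} {P : Subgroup G} (hP : Γ.Pt P)
    (hx : x ∈ P) (hx1 : x ≠ 1) (hy : y ∈ P) (hy1 : y ≠ 1)
    (hxy : x ≠ y) (hT : ¬ TyA Γ x y) (hux : u * x = x * u) (huy : u * y = y * u) :
    u ∈ Subgroup.normalizer (P : Set G) := by
  rw [← cj_eq_iff]
  refine H.pt_eq_of_two hP (H.f1.Pt_conj u P hP) hx ?_ hx1 hy ?_ hy1 hxy hT
  · rw [mem_cj]
    have e : u⁻¹ * x * u = x := by rw [mul_assoc, ← hux, inv_mul_cancel_left]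
    rw [e]; exact hx
  · rw [mem_cj]
    have e : u⁻¹ * y * u = y := by rw [mul_assoc, ← huy, inv_mul_cancel_left]
    rw [e]; exact hy

/-- an element of order 2 of type a with `x` and `y` is in the only point containing them -/
theorem key {x y u : G} {P : Subgroup G} (hP : Γ.Pt P)
    (hx : x ∈ P) (hxA : Γ.A x) (hy : y ∈ P) (hyA : Γ.A y)
    (hxy : x ≠ y) (hT : ¬ TyA Γ x y) (huA : Γ.A u) (hux : u * x = x * u) (huy : u * y = y * u)
    (hTx : TyA Γ x u) (hTy : TyA Γ y u) : u ∈ P := by
  by_contra hu
  have hx1 := (H.f1.A_inv x hxA).1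
  have hy1 := (H.f1.A_inv y hyA).1
  have huu := (H.f1.A_inv u huA).2
  have hact : Act Γ P u := ⟨H.norm_of_two hP hx hx1 hy hy1 hxy hT hux huy, hu, huA⟩
  have hxu : x ≠ u := fun h => hu (h ▸ hx)
  have hyu : y ≠ u := fun h => hu (h ▸ hy)
  have hFx : x ∈ Fs Γ P u := ⟨hx, hux.symm, Or.inr ⟨hxA, H.A_of_tyA hTx hxu huu⟩⟩
  have hFy : y ∈ Fs Γ P u := ⟨hy, huy.symm, Or.inr ⟨hyA, H.A_of_tyA hTy hyu huu⟩⟩
  rcases H.kind P u hP hact with h | h
  · obtain ⟨P', h1, h2, h3, h4⟩ := h.pt x hFx y hFy
    rw [H.pt_eq_of_two hP h1 hx h2 hx1 hy h3 hy1 hxy hT] at h4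
    exact hu h4
  · obtain ⟨v, -, h1, -⟩ := h.ex
    exact hxy ((h1 x ⟨hFx, hx1, hTx⟩).trans (h1 y ⟨hFy, hy1, hTy⟩).symm)

/-- the points of commuting 2B elements meet -/
theorem meet {a b : G} {P P' : Subgroup G} (ha : Γ.B a) (hb : Γ.B b) (hab : a * b = b * a)
    (hP : Γ.Pt P) (hP' : Γ.Pt P') (haP : a ∈ P) (hbP : b ∈ P') : P ⊓ P' ≠ ⊥ :=
  H.f13 P P' b hP hP' (H.cent_norm ha hP haP hab.symm) hb hbP

/-- a fixed element -/
theorem exists_comm {a : G} {P P' : Subgroup G} (hP : Γ.Pt P)
    (haP : a ∈ Subgroup.normalizer (P : Set G)) (haP' : a ∈ Subgroup.normalizer (P' : Set G))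
    (haa : a * a = 1) (h : P ⊓ P' ≠ ⊥) : ∃ x ∈ P ⊓ P', x ≠ 1 ∧ x * a = a * x := by
  obtain ⟨⟨y, hy⟩, hy1'⟩ := Subgroup.ne_bot_iff_exists_ne_one.1 h
  have hy1 : y ≠ 1 := fun h => hy1' (Subtype.ext h)
  have hai : a⁻¹ = a := inv_eq_of_mul_eq_one_left haa
  have hy' : a * y * a⁻¹ ∈ P ⊓ P' :=
    ⟨(Subgroup.mem_normalizer_iff.1 haP y).1 hy.1, (Subgroup.mem_normalizer_iff.1 haP' y).1 hy.2⟩
  by_cases hc : a * y * a⁻¹ = y
  · refine ⟨y, hy, hy1, ?_⟩
    rw [mul_inv_eq_iff_eq_mul] at hc
    exact hc.symm
  · have hel := H.f3.el P hP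
    have hyy := hel.sq y hy.1
    refine ⟨y * (a * y * a⁻¹), (P ⊓ P').mul_mem hy hy', ?_, ?_⟩
    · intro h1
      apply hc
      calc a * y * a⁻¹ = y * y * (a * y * a⁻¹) := by rw [hyy, one_mul]
        _ = y * (y * (a * y * a⁻¹)) := by group
        _ = y := by rw [h1, mul_one]
    · have h2 := hel.comm y hy.1 _ hy'.1
      rw [hai] at h2 ⊢
      calc y * (a * y * a) * a = y * a * y * (a * a) := by group
        _ = y * a * y := by rw [haa, mul_one]
        _ = a * a * (y * a * y) := by rw [haa, one_mul]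
        _ = a * ((a * y * a) * y) := by group
        _ = a * (y * (a * y * a)) := by rw [h2]

omit H in
/-- an element normalizing `P` and `P'` centralizes `P ⊓ P'` of order 2 -/
theorem comm_of_pair {y z : G} {P P' : Subgroup G} (hz1 : z ≠ 1)
    (h : ∀ x, x ∈ P ⊓ P' ↔ x = 1 ∨ x = z) (hy : y ∈ Subgroup.normalizer (P : Set G))
    (hy' : y ∈ Subgroup.normalizer (P' : Set G)) : y * z = z * y := by
  have hz := (h z).2 (Or.inr rfl)
  have h1 : y * z * y⁻¹ ∈ P ⊓ P' :=
    ⟨(Subgroup.mem_normalizer_iff.1 hy z).1 hz.1, (Subgroup.mem_normalizer_iff.1 hy' z).1 hz.2⟩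
  rcases (h _).1 h1 with h2 | h2
  · exfalso
    apply hz1
    calc z = y⁻¹ * (y * z * y⁻¹) * y := by group
      _ = 1 := by rw [h2]; group
  · rwa [mul_inv_eq_iff_eq_mul] at h2

theorem fs_of_line {x v : G} {P P' : Subgroup G} (hP' : Γ.Pt P') (hD : Γ.Ln (P ⊓ P'))
    (hx : x ∈ P') (hv : v ∈ P ⊓ P') (hv2 : v = 1 ∨ Γ.A (v * x)) : v ∈ Fs Γ P x := by
  refine ⟨hv.1, (H.f3.el P' hP').comm v hv.2 x hx, ?_⟩
  by_cases h1 : v = 1
  · exact Or.inl h1
  · refine Or.inr ⟨H.f6.pure _ hD v hv h1, ?_⟩
    rcases hv2 with h2 | h2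
    · exact absurd h2 h1
    · exact h2

/-- one half of case N, kind B -/
theorem caseN_aux [Finite G] {x y : G} {P P' : Subgroup G} (hP : Γ.Pt P) (hP' : Γ.Pt P')
    (hD : Γ.Ln (P ⊓ P')) (hx : x ∈ P') (hxA : Γ.A x) (hxP : x ∉ P)
    (hX : IsX Γ P x y) (huniq : ∀ v, IsX Γ P x v → v = y)
    (hT : ∀ v ∈ Fs Γ P x, TyA Γ y v) : y ∈ P' := by
  have h4 := H.r1 (P ⊓ P') P' x hD hP' inf_le_right hx hxA
  set S : Set G := {v | v ∈ P ⊓ P' ∧ (v = 1 ∨ Γ.A (v * x))} with hS
  have h5 : ∃ v ∈ S, v ∉ ({1, y} : Set G) := by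
    by_contra hcon
    push Not at hcon
    have h6 := Set.ncard_le_ncard (s := S) (t := ({1, y} : Set G)) hcon (Set.toFinite _)
    have h7 := Set.ncard_insert_le (1 : G) {y}
    rw [Set.ncard_singleton] at h7
    omega
  obtain ⟨v, hv, hv1⟩ := h5
  rw [Set.mem_insert_iff, Set.mem_singleton_iff, not_or] at hv1
  have hvF : v ∈ Fs Γ P x := H.fs_of_line hP' hD hx hv.1 hv.2
  have hvA : Γ.A v := H.f6.pure _ hD v hv.1 hv1.1
  have hnT : ¬ TyA Γ v x := fun h => hv1.2 (huniq v ⟨hvF, hv1.1, h⟩)
  have hvx : v ≠ x := fun h => hxP (h ▸ hv.1.1)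
  have hyF := hX.mem
  have hyA : Γ.A y := by
    rcases hyF.2.2 with h | h
    · exact absurd h hX.ne
    · exact h.1
  refine H.key hP' hv.1.2 hvA hx hxA hvx hnT hyA ?_ ?_ ?_ ?_
  · exact (H.f3.el P hP).comm y hyF.1 v hv.1.1
  · exact hyF.2.1
  · exact tyA_symm (hT v hvF)
  · exact tyA_symm hX.tyA

/-- **case N**: no element is in two pairs whose points meet in a line -/
theorem caseN [Finite G] {a b c : G} {Pa Pb Pc : Subgroup G} (ha : Γ.B a) (hb : Γ.B b)
    (hc : Γ.B c) (hab : a * b = b * a) (hac : a * c = c * a) (hbc : b * c = c * b)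
    (hPa : Γ.Pt Pa) (hPb : Γ.Pt Pb) (hPc : Γ.Pt Pc) (haP : a ∈ Pa) (hbP : b ∈ Pb) (hcP : c ∈ Pc)
    (h0 : Pa ⊓ Pb ⊓ Pc = ⊥) (hne : Pb ≠ Pc) (h1 : Γ.Ln (Pa ⊓ Pb)) (h2 : Γ.Ln (Pa ⊓ Pc)) :
    False := by
  obtain ⟨x, hx, hx1, hxa⟩ := H.exists_comm hPb (H.cent_norm hb hPb hbP hab)
    (H.cent_norm hc hPc hcP hac) (H.f1.B_inv a ha).2 (H.meet hb hc hbc hPb hPc hbP hcP)
  have h0' : ∀ u, u ∈ Pa → u ∈ Pb → u ∈ Pc → u = 1 := by
    intro u h1 h2 h3
    have h4 : u ∈ Pa ⊓ Pb ⊓ Pc := ⟨⟨h1, h2⟩, h3⟩
    rwa [h0, Subgroup.mem_bot] at h4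
  have hxA : Γ.A x := H.A_of_mem hPb hPc hne hx.1 hx.2 hx1
  have hxP : x ∉ Pa := fun h => hx1 (h0' x h hx.1 hx.2)
  have hact : Act Γ Pa x := ⟨H.cent_norm ha hPa haP hxa, hxP, hxA⟩
  rcases H.kind Pa x hPa hact with hk | hk
  · -- kind A
    have h4 := H.r1 (Pa ⊓ Pb) Pb x h1 hPb inf_le_right hx.1 hxA
    have h5 := H.r1 (Pa ⊓ Pc) Pc x h2 hPc inf_le_right hx.2 hxA
    set S : Set G := {v | v ∈ Pa ⊓ Pb ∧ (v = 1 ∨ Γ.A (v * x))} with hS
    set T : Set G := {v | v ∈ Pa ⊓ Pc ∧ (v = 1 ∨ Γ.A (v * x))} with hT
    have h6 : (S ×ˢ T).ncard ≤ (Fs Γ Pa x).ncard := by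
      refine Set.ncard_le_ncard_of_injOn (fun p => p.1 * p.2) ?_ ?_ (Set.toFinite _)
      · rintro ⟨u, v⟩ ⟨hu, hv⟩
        exact hk.mul u (H.fs_of_line hPb h1 hx.1 hu.1 hu.2) v (H.fs_of_line hPc h2 hx.2 hv.1 hv.2)
      · rintro ⟨u, v⟩ ⟨hu, hv⟩ ⟨u', v'⟩ ⟨hu', hv'⟩ he
        have he' : u * v = u' * v' := he
        have e1 : u'⁻¹ * u = v' * v⁻¹ := by
          rw [inv_mul_eq_iff_eq_mul, ← mul_assoc, ← he', mul_inv_cancel_right]
        have e2 : u'⁻¹ * u = 1 := by
          refine h0' _ (Pa.mul_mem (Pa.inv_mem hu'.1.1) hu.1.1)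
            (Pb.mul_mem (Pb.inv_mem hu'.1.2) hu.1.2) ?_
          rw [e1]
          exact Pc.mul_mem hv'.1.2 (Pc.inv_mem hv.1.2)
        have e3 : u = u' := (inv_mul_eq_one.1 e2).symm
        rw [e3] at he'
        exact Prod.ext e3 (mul_left_cancel he')
    rw [Set.ncard_prod, hk.card] at h6
    have h7 := Nat.mul_le_mul h4 h5
    omega
  · -- kind B
    obtain ⟨y, hX, huniq, hT⟩ := hk.ex
    exact hX.ne (h0' y hX.mem.1 (H.caseN_aux hPa hPb h1 hx.1 hxA hxP hX huniq hT)
      (H.caseN_aux hPa hPc h2 hx.2 hxA hxP hX huniq hT))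

/-- the data of a pair with intersection of order 2 -/
theorem pair_data {a b c z z' : G} {Pa Pb Pc : Subgroup G} (ha : Γ.B a) (hb : Γ.B b)
    (hc : Γ.B c) (hab : a * b = b * a) (hac : a * c = c * a) (hbc : b * c = c * b)
    (hPa : Γ.Pt Pa) (hPb : Γ.Pt Pb) (hPc : Γ.Pt Pc) (haP : a ∈ Pa) (hbP : b ∈ Pb) (hcP : c ∈ Pc)
    (hne : Pa ≠ Pb) (hne' : Pa ≠ Pc) (hz1 : z ≠ 1) (hz1' : z' ≠ 1) (hzz : z ≠ z')
    (h1 : ∀ x, x ∈ Pa ⊓ Pb ↔ x = 1 ∨ x = z) (h2 : ∀ x, x ∈ Pa ⊓ Pc ↔ x = 1 ∨ x = z') :
    ∃ P0, Γ.Pt P0 ∧ z' ∈ P0 ∧ a * b ∈ P0 ∧ z ∈ P0 ∧ ¬ TyA Γ z' (a * b) ∧ Γ.A (a * b) ∧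
      Γ.A z' ∧ z' ≠ a * b ∧ Γ.A z ∧ Γ.A (z' * (a * b)) ∧ z' * (a * b) = a * b * z' ∧
      IsX Γ Pa (a * b) z := by
  have hz := (h1 z).2 (Or.inr rfl)
  have hz' := (h2 z').2 (Or.inr rfl)
  have hzA : Γ.A z := H.A_of_mem hPa hPb hne hz.1 hz.2 hz1
  have hzA' : Γ.A z' := H.A_of_mem hPa hPc hne' hz'.1 hz'.2 hz1'
  obtain ⟨hA, hKB, hX, -⟩ := H.z1 a b z Pa Pb ha hb hab hPa hPb haP hbP hne h1
  obtain ⟨-, -, -, hB⟩ := H.z1 a c z' Pa Pc ha hc hac hPa hPc haP hcP hne' h2
  have hbz : b * z' = z' * b := comm_of_pair hz1' h2 (H.cent_norm ha hPa haP hab.symm)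
    (H.cent_norm hc hPc hcP hbc)
  have haz : a * z' = z' * a := (H.f3.el Pa hPa).comm a haP z' hz'.1
  have hc1 : a * z' * b = b * (a * z') := by
    rw [mul_assoc, ← hbz, ← mul_assoc, hab, mul_assoc]
  obtain ⟨hA2, -, -, -⟩ := H.z1 (a * z') b z Pa Pb hB hb hc1 hPa hPb (Pa.mul_mem haP hz'.1) hbP
    hne h1
  have e1 : a * z' * b = z' * (a * b) := by rw [haz, mul_assoc]
  have e2 : z' * (a * b) = a * b * z' := by rw [← e1, mul_assoc, ← hbz, mul_assoc]
  rw [e1] at hA2
  have hF : z' ∈ Fs Γ Pa (a * b) := ⟨hz'.1, e2, Or.inr ⟨hzA', hA2⟩⟩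
  obtain ⟨x0, hX0, huniq, hT⟩ := hKB.ex
  have hx0 := huniq z hX
  subst hx0
  have hnT : ¬ TyA Γ z' (a * b) := fun h => hzz (huniq z' ⟨hF, hz1', h⟩).symm
  have hwP : a * b ∉ Pa := by
    intro h
    have h3 : b ∈ Pa := by
      have h4 := Pa.mul_mem (Pa.inv_mem haP) h
      rwa [inv_mul_cancel_left] at h4
    exact hne (H.pt_uniq hb hPa hPb h3 hbP)
  have hzw : z' ≠ a * b := fun h => hwP (h ▸ hz'.1)
  obtain ⟨P0, hP0, h3, h4⟩ := H.f7 z' (a * b) hzA' hA e2 hA2
  refine ⟨P0, hP0, h3, h4, ?_, hnT, hA, hzA', hzw, hzA, hA2, e2, hX⟩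
  refine H.key hP0 h3 hzA' h4 hA hzw hnT hzA ?_ ?_ (tyA_symm (hT z' hF)) (tyA_symm hX.tyA)
  · exact (H.f3.el Pa hPa).comm z hz.1 z' hz'.1
  · exact hX.mem.2.1

/-- the main case -/
theorem main {a b c z z' : G} {Pa Pb Pc : Subgroup G} (ha : Γ.B a) (hb : Γ.B b)
    (hc : Γ.B c) (hab : a * b = b * a) (hac : a * c = c * a) (hbc : b * c = c * b)
    (hPa : Γ.Pt Pa) (hPb : Γ.Pt Pb) (hPc : Γ.Pt Pc) (haP : a ∈ Pa) (hbP : b ∈ Pb) (hcP : c ∈ Pc)
    (h0 : Pa ⊓ Pb ⊓ Pc = ⊥)
    (hne : Pa ≠ Pb) (hne' : Pa ≠ Pc) (hne2 : Pb ≠ Pc) (hz1 : z ≠ 1) (hz1' : z' ≠ 1)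
    (h1 : ∀ x, x ∈ Pa ⊓ Pb ↔ x = 1 ∨ x = z) (h2 : ∀ x, x ∈ Pa ⊓ Pc ↔ x = 1 ∨ x = z') :
    ∃ P K : Subgroup G, Γ.Pt P ∧ K ≤ P ∧ 32 ≤ Nat.card K ∧ (∃ t ∈ K, Γ.B t) ∧
      ∀ x ∈ K, ∀ y, y * a = a * y → y * b = b * y → y * c = c * y → x * y = y * x := by
  have hz := (h1 z).2 (Or.inr rfl)
  have hz' := (h2 z').2 (Or.inr rfl)
  have hzz : z ≠ z' := by
    intro h
    apply hz1
    have h3 : z ∈ Pa ⊓ Pb ⊓ Pc := ⟨hz, by rw [h]; exact hz'.2⟩
    rwa [h0, Subgroup.mem_bot] at h3
  have haa := (H.f1.B_inv a ha).2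
  have hbb := (H.f1.B_inv b hb).2
  have hcc := (H.f1.B_inv c hc).2
  obtain ⟨P0, hP0, m1, m2, m3, nT, hA, hzA', hzw, hzA, hAz, cz, hX⟩ :=
    H.pair_data ha hb hc hab hac hbc hPa hPb hPc haP hbP hcP hne hne' hz1 hz1' hzz h1 h2
  obtain ⟨P1, hP1, k1, k2, k3, kT, kA, -, kzw, -, kAz, kcz, kX⟩ :=
    H.pair_data ha hc hb hac hab hbc.symm hPa hPc hPb haP hcP hbP hne' hne hz1' hz1 hzz.symm h2 h1
  have hw1 : a * b ≠ 1 := (H.f1.A_inv _ hA).1
  have hw1' : a * c ≠ 1 := (H.f1.A_inv _ kA).1
  have hww : a * b * (a * c) = a * c * (a * b) := by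
    calc a * b * (a * c) = a * (b * a) * c := by group
      _ = a * a * (b * c) := by rw [← hab]; group
      _ = a * a * (c * b) := by rw [hbc]
      _ = a * (a * c) * b := by group
      _ = a * (c * a) * b := by rw [hac]
      _ = a * c * (a * b) := by group
  have hwc : a * b * (a * c) = b * c := by
    calc a * b * (a * c) = a * (b * a) * c := by group
      _ = a * a * (b * c) := by rw [← hab]; group
      _ = b * c := by rw [haa, one_mul]
  -- `a c ∈ P0`
  have hmem : a * c ∈ P0 := by
    by_contra hw'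
    have hn : a * c ∈ Subgroup.normalizer (P0 : Set G) := by
      refine H.norm_of_two hP0 m1 hz1' m2 hw1 hzw nT ?_ hww.symm
      exact kX.mem.2.1.symm
    have hact : Act Γ P0 (a * c) := ⟨hn, hw', kA⟩
    have hw0 : a * b ∉ P1 := by
      intro h
      have h3 := H.pt_eq_of_two hP0 hP1 m1 k3 hz1' m2 h hw1 hzw nT
      rw [h3] at k2
      exact hw' k2
    have hn1 : a * b ∈ Subgroup.normalizer (P1 : Set G) := by
      refine H.norm_of_two hP1 k1 hz1 k2 hw1' kzw kT ?_ hww
      exact hX.mem.2.1.symm
    have hact1 : Act Γ P1 (a * b) := ⟨hn1, hw0, hA⟩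
    rcases H.kind P0 _ hP0 hact with hk | hk
    · exact kT (hk.tyA z ⟨m3, kcz, Or.inr ⟨hzA, kAz⟩⟩)
    rcases H.kind P1 _ hP1 hact1 with hk1 | hk1
    · exact nT (hk1.tyA z' ⟨k3, cz, Or.inr ⟨hzA', hAz⟩⟩)
    have hX0 : IsX Γ P0 (a * c) z' := ⟨⟨m1, kX.mem.2.1, kX.mem.2.2⟩, hz1', kX.tyA⟩
    have hX1 : IsX Γ P1 (a * b) z := ⟨⟨k1, hX.mem.2.1, hX.mem.2.2⟩, hz1, hX.tyA⟩
    have ht1 : a * b * (a * c) ≠ 1 := by
      intro h
      rw [hwc] at h
      have h3 : b = c := by
        calc b = b * (c * c) := by rw [hcc, mul_one]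
          _ = b * c * c := by group
          _ = c := by rw [h, one_mul]
      rw [h3] at hb hbP
      exact hne2 (H.pt_uniq hb hPb hPc hbP hcP)
    have ht2 : a * b * (a * c) * (a * b * (a * c)) = 1 := by
      rw [hwc]
      calc b * c * (b * c) = b * (c * b) * c := by group
        _ = b * b * (c * c) := by rw [← hbc]; group
        _ = 1 := by rw [hbb, hcc, one_mul]
    rcases H.f1.invol _ ht1 ht2 with hA2 | hB2
    · obtain ⟨x0, -, huniq, hT⟩ := hk.ex
      have h3 := hT (a * b) ⟨m2, hww, Or.inr ⟨hA, hA2⟩⟩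
      rw [← huniq z' hX0] at h3
      exact nT h3
    · obtain ⟨Pt, hPt, htP, -, -⟩ := H.f4 _ hB2
      have h3 := H.z3 (a * b) (a * c) z' P0 Pt hP0 hk hX0 m2 hww hB2 hPt htP
      have hB3 : Γ.B (a * c * (a * b)) := by rw [← hww]; exact hB2
      have h4 := H.z3 (a * c) (a * b) z P1 Pt hP1 hk1 hX1 k2 hww.symm hB3 hPt
        (by rw [← hww]; exact htP)
      have h5 : z ∈ P1 ⊓ Pt := (h4 z).2 (Or.inr rfl)
      rcases (h3 z).1 ⟨m3, h5.2⟩ with h6 | h6
      · exact hz1 h6
      · exact hzz h6
  -- the elements commuting with `a`, `b`, `c` normalize `P0`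
  have hnorm : ∀ y, y * a = a * y → y * b = b * y → y * c = c * y →
      y ∈ Subgroup.normalizer (P0 : Set G) := by
    intro y hya hyb hyc
    refine H.norm_of_two hP0 m1 hz1' m2 hw1 hzw nT ?_ ?_
    · exact comm_of_pair hz1' h2 (H.cent_norm ha hPa haP hya) (H.cent_norm hc hPc hcP hyc)
    · rw [← mul_assoc, hya, mul_assoc, hyb, mul_assoc]
  have haP0 : a ∉ P0 := by
    intro h
    have h3 := H.pt_uniq ha hP0 hPa h haP
    rw [h3] at m2
    have h4 : b ∈ Pa := by
      have h4 := Pa.mul_mem (Pa.inv_mem haP) m2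
      rwa [inv_mul_cancel_left] at h4
    exact hne (H.pt_uniq hb hPa hPb h4 hbP)
  obtain ⟨K, h3, h4, h5, h6⟩ := H.be a b c Pa Pb Pc P0 ha hb hc hab hac hbc hPa hPb hPc haP hbP
    hcP h0 hP0 (hnorm a rfl hab hac) haP0 m2 hmem
  exact ⟨P0, K, hP0, h3, h4, h5, fun x hx y hya hyb hyc => h6 x hx y (hnorm y hya hyb hyc) hya hyb
    hyc⟩

end Hy

/-- **(F18)** from the concrete facts -/
theorem f18_abs [Finite G] (H : Hy Γ) : F18 Γ := by
  intro a b c ha hb hc hab hac hbc Pa Pb Pc hPa hPb hPc haP hbP hcP h0
  have ha1 := (H.f1.B_inv a ha).1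
  have hb1 := (H.f1.B_inv b hb).1
  have hbot : ∀ {P : Subgroup G} {t : G}, t ≠ 1 → t ∈ P → P ≠ ⊥ := by
    intro P t ht1 ht h
    rw [h, Subgroup.mem_bot] at ht
    exact ht1 ht
  have mab := H.meet ha hb hab hPa hPb haP hbP
  have mac := H.meet ha hc hac hPa hPc haP hcP
  have mbc := H.meet hb hc hbc hPb hPc hbP hcP
  have nab : Pa ≠ Pb := by
    rintro rfl
    rw [inf_idem] at h0
    exact mac h0
  have nac : Pa ≠ Pc := by
    rintro rfl
    rw [inf_right_comm, inf_idem] at h0
    exact mab h0
  have nbc : Pb ≠ Pc := by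
    rintro rfl
    rw [inf_assoc, inf_idem] at h0
    exact mab h0
  have h0' : Pb ⊓ Pa ⊓ Pc = ⊥ := by rw [inf_comm Pb Pa]; exact h0
  have h0'' : Pc ⊓ Pa ⊓ Pb = ⊥ := by
    rw [inf_comm Pc Pa, inf_right_comm]; exact h0
  have hsplit : ∀ {P P' : Subgroup G}, Γ.Pt P → Γ.Pt P' → P ≠ P' → P ⊓ P' ≠ ⊥ →
      (∃ z, z ≠ 1 ∧ ∀ x, x ∈ P ⊓ P' ↔ x = 1 ∨ x = z) ∨ Γ.Ln (P ⊓ P') := by
    intro P P' hP hP' hne hm
    rcases H.f5 P P' hP hP' hne with h | ⟨z, hz, h⟩ | h
    · exact absurd h hm
    · exact Or.inl ⟨z, (H.f1.A_inv z hz).1, h⟩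
    · exact Or.inr h
  rcases hsplit hPa hPb nab mab with ⟨z, hz1, h1⟩ | h1
  · rcases hsplit hPa hPc nac mac with ⟨z', hz1', h2⟩ | h2
    · exact H.main ha hb hc hab hac hbc hPa hPb hPc haP hbP hcP h0 nab nac nbc hz1 hz1' h1 h2
    · rcases hsplit hPb hPc nbc mbc with ⟨z', hz1', h3⟩ | h3
      · have h1' : ∀ x, x ∈ Pb ⊓ Pa ↔ x = 1 ∨ x = z := by
          intro x
          rw [inf_comm]
          exact h1 x
        obtain ⟨P, K, g1, g2, g3, g4, g5⟩ := H.main hb ha hc hab.symm hbc hac hPb hPa hPc hbP haP
          hcP h0' nab.symm nbc nac hz1 hz1' h1' h3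
        exact ⟨P, K, g1, g2, g3, g4, fun x hx y y1 y2 y3 => g5 x hx y y2 y1 y3⟩
      · exfalso
        have h2' : Γ.Ln (Pc ⊓ Pa) := by rw [inf_comm]; exact h2
        have h3' : Γ.Ln (Pc ⊓ Pb) := by rw [inf_comm]; exact h3
        exact H.caseN hc ha hb hac.symm hbc.symm hab hPc hPa hPb hcP haP hbP h0'' nab h2' h3'
  · rcases hsplit hPa hPc nac mac with ⟨z', hz1', h2⟩ | h2
    · rcases hsplit hPb hPc nbc mbc with ⟨z, hz1, h3⟩ | h3
      · have h2' : ∀ x, x ∈ Pc ⊓ Pa ↔ x = 1 ∨ x = z' := by
          intro x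
          rw [inf_comm]
          exact h2 x
        have h3' : ∀ x, x ∈ Pc ⊓ Pb ↔ x = 1 ∨ x = z := by
          intro x
          rw [inf_comm]
          exact h3 x
        obtain ⟨P, K, g1, g2, g3, g4, g5⟩ := H.main hc ha hb hac.symm hbc.symm hab hPc hPa hPb hcP
          haP hbP h0'' nac.symm nbc.symm nab hz1' hz1 h2' h3'
        exact ⟨P, K, g1, g2, g3, g4, fun x hx y y1 y2 y3 => g5 x hx y y3 y1 y2⟩
      · exfalso
        have h1' : Γ.Ln (Pb ⊓ Pa) := by rw [inf_comm]; exact h1
        exact H.caseN hb ha hc hab.symm hbc hac hPb hPa hPc hbP haP hcP h0' nac h1' h3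
    · exfalso
      exact H.caseN ha hb hc hab hac hbc hPa hPb hPc haP hbP hcP h0 nbc h1 h2

end Cfsg.Agent.H705.JM.BadAbs
end

-- part: H705/JM/BadData
section
/-!
# (F18): equations in `J4`

For the representatives `u = V(v) m` (`m` an involution of `M24`) of class 2B the element `g = p w'` satisfies
`u = g V(5) g⁻¹` (equations `eqsC`) and `V(e) g = g V(b)` (equations `eqsB`).
-/

set_option autoImplicit false

namespace Cfsg.Agent.H705.JM.BadData

open Cfsg Cfsg.Agent.Lib Cfsg.Agent.Lib.F2MatGroup Cfsg.Agent.J4.Rep112 Cfsg.Agent.J4.Lower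
open Cfsg.Agent.J4.LowerData Cfsg.Agent.J4.GroupLemmas Cfsg.Agent.J4.Beta
open Cfsg.Agent.J4.ClassesData Cfsg.Agent.J4.M24Hom Cfsg.Agent.J4.Classes Cfsg.Agent.J4.Pres
open Cfsg.Agent.J4.M24InvolData Cfsg.Agent.SporadicStructure.M24El
open Cfsg.Agent.H858.VK (rho_injective)
open Cfsg.Agent.H858.Data (V lJ rho_V map_lJ lJ_length)

/-- the group `Spor.J4` -/
local notation "𝒢" => Cfsg.Spor.J4

/-- the equations -/
def eqsB : List (List ℕ × List ℕ) := [
  ([42, 43, 44, 46, 47, 48, 32, 58, 56, 55, 57], [32, 58, 56, 55, 57, 43, 45, 47, 48, 50, 51]),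
  ([43, 44, 50, 32, 58, 56, 55, 57], [32, 58, 56, 55, 57, 45, 47, 49, 52]),
  ([42, 46, 47, 48, 50, 32, 58, 56, 55, 57], [32, 58, 56, 55, 57, 43, 48, 49, 50, 51, 52]),
  ([42, 43, 44, 46, 47, 48, 28, 58, 56, 58], [28, 58, 56, 58, 44, 45, 48, 49, 51, 52]),
  ([42, 43, 44, 45, 46, 47, 49, 50, 28, 58, 56, 58], [28, 58, 56, 58, 43, 44, 45, 46, 47, 48, 49, 50]),
  ([45, 48, 49, 50, 28, 58, 56, 58], [28, 58, 56, 58, 43, 46, 47, 50, 51, 52]),
  ([42, 43, 44, 46, 47, 48, 24, 57, 58, 55, 57], [24, 57, 58, 55, 57, 43, 45, 46, 47, 48, 50]),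
  ([42, 45, 46, 47, 49, 24, 57, 58, 55, 57], [24, 57, 58, 55, 57, 42, 44, 45, 47, 49, 50, 52]),
  ([43, 44, 45, 48, 49, 24, 57, 58, 55, 57], [24, 57, 58, 55, 57, 42, 43, 44, 46, 48, 49, 52]),
  ([43, 44, 45, 48, 49, 20, 57, 58, 56], [20, 57, 58, 56, 42, 43, 44, 47, 49, 52]),
  ([43, 44, 50, 20, 57, 58, 56], [20, 57, 58, 56, 44, 45, 47, 51, 52]),
  ([45, 48, 49, 50, 20, 57, 58, 56], [20, 57, 58, 56, 42, 43, 45, 49, 51]),
  ([42, 45, 46, 47, 49, 16, 58, 56, 58], [16, 58, 56, 58, 42, 43, 44, 47, 50, 51]),
  ([43, 44, 50, 16, 58, 56, 58], [16, 58, 56, 58, 42, 44, 45, 47]),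
  ([42, 43, 44, 45, 46, 47, 49, 50, 16, 58, 56, 58], [16, 58, 56, 58, 43, 45, 50, 51]),
  ([42, 45, 46, 47, 49, 12, 58, 57, 58, 57, 58, 56],
    [12, 58, 57, 58, 57, 58, 56, 42, 44, 45, 46, 48, 49, 50, 52]),
  ([42, 46, 47, 48, 50, 12, 58, 57, 58, 57, 58, 56], [12, 58, 57, 58, 57, 58, 56, 43, 45, 46, 50]),
  ([45, 48, 49, 50, 12, 58, 57, 58, 57, 58, 56],
    [12, 58, 57, 58, 57, 58, 56, 42, 43, 44, 48, 49, 52]),
  ([43, 44, 45, 48, 49, 8, 58], [8, 58, 43, 44, 48, 49, 51]),
  ([42, 46, 47, 48, 50, 8, 58], [8, 58, 43, 44, 45, 46, 47, 48, 49, 51]),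
  ([42, 43, 44, 45, 46, 47, 49, 50, 8, 58], [8, 58, 45, 46, 47]),
  ([44, 46, 4, 55, 56, 58, 56, 58], [4, 55, 56, 58, 56, 58, 42, 43, 45, 48, 49, 51, 52]),
  ([58, 45, 47, 50, 58], [43, 45, 46, 48, 52, 57, 55, 56, 55, 57, 55, 56, 55, 57, 55, 56]),
  ([58, 58], [])]

theorem checkB : check 112 codes (slpQ ++ slpC) eqsB [] = true := by rw [Cfsg.Agent.Lib.F112.check_eq]; decide +kernel

/-! ### The environment -/

/-- the environment -/
noncomputable def LG : List 𝒢 := runG slpC (runG slpQ gens)

theorem map_LG : LG.map rho = LC := by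
  unfold LG LC mgens
  rw [runG_map, runG_map]

theorem eq_of {E : List (List ℕ × List ℕ)} (h : check 112 codes (slpQ ++ slpC) E [] = true) :
    ∀ p ∈ E, evG LG p.1 = evG LG p.2 := by
  intro p hp
  apply rho_injective
  have h1 := (check_sound (n := 112) (by norm_num) codes_gens h).1 p hp
  rw [runG_append] at h1
  rw [← evG_map, ← evG_map, map_LG]
  exact h1

theorem eqB : ∀ p ∈ eqsB, evG LG p.1 = evG LG p.2 := eq_of checkB
theorem eqC' : ∀ p ∈ eqsC, evG LG p.1 = evG LG p.2 := eq_of checkC

theorem rho_getG (k : ℕ) : rho (getG LG k) = getG LC k := by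
  rw [← map_LG]
  exact (getG_map rho LG k).symm

theorem getG_LG (k : ℕ) (hk : k < 11) : getG LG (42 + k) = lJ.getD k 1 := by
  have h := getG_runG slpC (runG slpQ gens) k
  rw [slpC_length] at h
  exact h.trans (getG_take _ 11 k hk)

theorem bwV (v : ℕ) : evG LG (bw 11 42 v) = V v := by
  have h := evG_bw LG lJ 42 v (by rw [lJ_length]; exact getG_LG)
  rwa [lJ_length] at h

theorem getG55 : getG LG 55 = phi XM := rho_injective (by rw [rho_getG]; exact getX.trans psi_X.symm)
theorem getG56 : getG LG 56 = phi YM := rho_injective (by rw [rho_getG]; exact getYI.trans psi_Y.symm)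
theorem getG57 : getG LG 57 = (phi YM)⁻¹ := rho_injective (by
  rw [rho_getG, map_inv]
  refine getY.trans ?_
  rw [map_inv]
  exact congrArg _ psi_Y.symm)
theorem getG58 : getG LG 58 = t := rfl
theorem getG41 : getG LG 41 = phi (el P1) := rho_injective (by rw [rho_getG]; exact getG_41)
theorem getG52 : getG LG 52 = V 1024 := rho_injective (by rw [rho_getG, rho_V]; exact getG_52)
theorem getG40 : getG LG 40 = V 5 := rho_injective (by rw [rho_getG, rho_V]; exact getG_40)

/-! ### The representatives -/

/-- (v, index of u, index of p, word of `w'`, word of `w'⁻¹`, pairs (e, b)) -/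
abbrev Row := ℕ × ℕ × ℕ × List ℕ × List ℕ × List (ℕ × ℕ)

/-- type 1, class 2B -/
def repsB : List Row := [
  (34, 35, 32, [58, 56, 55, 57], [56, 55, 57, 58], [(119, 874), (262, 1192), (369, 1986)]),
  (517, 31, 28, [58, 56, 58], [58, 57, 58], [(119, 1740), (447, 510), (456, 1842)]),
  (551, 27, 24, [57, 58, 55, 57], [56, 55, 58, 56], [(119, 378), (185, 1453), (206, 1239)]),
  (1047, 23, 20, [57, 58, 56], [57, 58, 56], [(206, 1191), (262, 1580), (456, 651)]),
  (1077, 19, 16, [58, 56, 58], [58, 57, 58], [(185, 807), (262, 45), (447, 778)]),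
  (1554, 15, 12, [58, 57, 58, 57, 58, 56], [57, 58, 56, 58, 56, 58],
    [(185, 1501), (369, 282), (456, 1223)]),
  (1584, 11, 8, [58], [58], [(206, 710), (369, 766), (447, 56)])]

/-- check of a representative -/
def repOkB (E E' : List (List ℕ × List ℕ)) (im tg : ℕ) (r : Row) : Bool :=
  E.contains ([r.2.1], bw 11 42 r.1 ++ [im]) &&
    E.contains ([r.2.1, r.2.2.1], [r.2.2.1] ++ r.2.2.2.1 ++ [tg] ++ r.2.2.2.2.1) &&
    E.contains (r.2.2.2.1 ++ r.2.2.2.2.1, []) &&
    r.2.2.2.2.2.all fun p => E'.contains (bw 11 42 p.1 ++ [r.2.2.1] ++ r.2.2.2.1,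
      [r.2.2.1] ++ r.2.2.2.1 ++ bw 11 42 p.2)

theorem rep_sound {im tg : ℕ} {r : Row} (h : repOkB eqsC eqsB im tg r = true) :
    ∃ g : 𝒢, V r.1 * getG LG im = g * getG LG tg * g⁻¹ ∧
      ∀ p ∈ r.2.2.2.2.2, g⁻¹ * V p.1 * g = V p.2 := by
  unfold repOkB at h
  rw [Bool.and_eq_true, Bool.and_eq_true, Bool.and_eq_true, List.contains_iff_mem,
    List.contains_iff_mem, List.contains_iff_mem, List.all_eq_true] at h
  obtain ⟨⟨⟨h1, h2⟩, h3⟩, h4⟩ := h
  have e1 := eqC' _ h1
  have e2 := eqC' _ h2
  have e3 := eqC' _ h3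
  simp only [evG_append, evG_single, bwV] at e1
  simp only [evG_append, evG_cons, evG_nil, mul_one] at e2
  simp only [evG_append, evG_nil] at e3
  have hw' : evG LG r.2.2.2.2.1 = (evG LG r.2.2.2.1)⁻¹ := eq_inv_of_mul_eq_one_right e3
  rw [hw'] at e2
  refine ⟨getG LG r.2.2.1 * evG LG r.2.2.2.1, ?_, ?_⟩
  · rw [← e1]
    have : getG LG r.2.1 = getG LG r.2.1 * getG LG r.2.2.1 * (getG LG r.2.2.1)⁻¹ := by group
    rw [this, e2]
    group
  · intro p hp
    have h5 := h4 p hp
    rw [List.contains_iff_mem] at h5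
    have e4 := eqB _ h5
    simp only [evG_append, evG_single, bwV] at e4
    rw [mul_assoc, ← mul_assoc (V p.1), e4]
    group

theorem repX : ∃ g : 𝒢, phi XM = g * V 5 * g⁻¹ ∧ g⁻¹ * V 20 * g = V 1739 := by
  obtain ⟨g, h1, h2⟩ := rep_sound (im := 55) (tg := 40)
    (r := (0, 7, 4, [55, 56, 58, 56, 58], [58, 57, 58, 57, 55], [(20, 1739)])) (by decide +kernel)
  refine ⟨g, ?_, h2 (20, 1739) (List.mem_singleton.2 rfl)⟩
  rw [getG55, getG40, Cfsg.Agent.H858.Data.V_zero, one_mul] at h1
  exact h1

theorem repXA : ∃ g : 𝒢, V 5 * phi XM = g * V 1024 * g⁻¹ := by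
  obtain ⟨g, h1, -⟩ := rep_sound (im := 55) (tg := 52)
    (r := (5, 3, 0, [56, 55, 56, 58], [58, 57, 55, 57], [])) (by decide +kernel)
  refine ⟨g, ?_⟩
  rw [getG55, getG52] at h1
  exact h1

theorem rep1A : ∃ g : 𝒢, phi (el P1) = g * V 1024 * g⁻¹ := by
  obtain ⟨g, h1, -⟩ := rep_sound (im := 41) (tg := 52)
    (r := (0, 39, 36, [58, 56], [57, 58], [])) (by decide +kernel)
  refine ⟨g, ?_⟩
  rw [getG41, getG52, Cfsg.Agent.H858.Data.V_zero, one_mul] at h1
  exact h1

theorem t_sq : (t : 𝒢) * t = 1 := by
  have h := eqB ([58, 58], []) (by decide +kernel)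
  simpa only [evG_cons, evG_nil, mul_one, getG58] using h

/-- the word of `c` -/
def cW : List ℕ := [2, 0, 1, 0, 2]

theorem line_eq : (t : 𝒢) * V 296 * t = V 1114 * (phi (Cfsg.Agent.J4.Nodes.wordG cW) * phi XM *
    (phi (Cfsg.Agent.J4.Nodes.wordG cW))⁻¹) := by
  have h := eqB ([58] ++ bw 11 42 296 ++ [58],
    bw 11 42 1114 ++ [57, 55, 56, 55, 57, 55, 56, 55, 57, 55, 56]) (by decide +kernel)
  simp only [evG_append, evG_single, bwV, getG58] at h
  rw [h]
  congr 1
  have e1 : Cfsg.Agent.J4.Nodes.wordG cW = YM⁻¹ * (XM * (YM * (XM * (YM⁻¹ * 1)))) := rfl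
  rw [e1]
  simp only [evG_cons, evG_nil, getG55, getG56, getG57, map_mul, map_inv, mul_one]
  have hX : phi XM = (phi XM)⁻¹ := by
    rw [eq_inv_iff_mul_eq_one, ← map_mul]
    have h3 : XM * XM = 1 := by
      have h4 : Cfsg.Agent.J4.Nodes.wordG [0, 0] = Cfsg.Agent.J4.Nodes.wordG [] :=
        Cfsg.Agent.H858.M24Norm.wordG_eq (by decide +kernel)
      exact h4
    rw [h3, map_one]
  simp only [mul_inv_rev, inv_inv, ← hX, mul_assoc]

end Cfsg.Agent.H705.JM.BadData
end

-- part: H705/JM/BadBase
section
/-!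
# (F18): elements of `N(2^11)` in coordinates
-/

set_option autoImplicit false

namespace Cfsg.Agent.H705.JM.BadBase

open Cfsg Cfsg.Agent.J4.Rep112 Cfsg.Agent.J4.Beta Cfsg.Agent.J4.ClassesAbs
open Cfsg.Agent.J4.ClassesData Cfsg.Agent.J4.M24Hom Cfsg.Agent.J4.Classes Cfsg.Agent.J4.Pres
open Cfsg.Agent.J4.M24InvolData Cfsg.Agent.SporadicStructure.M24El
open Cfsg.Agent.J4.Nodes (wordG)
open Cfsg.Agent.H858.VK (rho_injective phi_injective actG mem_B phi_norm)
open Cfsg.Agent.H858.Data (V rho_V V_xor V_zero V_sq V_inv V_comm V_inj V_mem)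
open Cfsg.Agent.H858.Loc7 (Z) 
open Cfsg.Agent.H825.JM (conj_word normalizer_EJ line_EJ)
open Cfsg.Agent.H860.JM Cfsg.Agent.H705.JM.BadData Cfsg.Agent.H705.JM.BadAbs

/-- the group `Spor.J4` -/
local notation "𝒢" => Cfsg.Spor.J4
/-- the group `2^11` -/
local notation "𝓔" => Cfsg.Agent.J4.Invol.EJ

/-! ### Classes -/

theorem s_eq : Cfsg.Agent.J4.Invol.s = V 1024 :=
  rho_injective (by rw [Cfsg.Agent.J4.Invol.rho_s, rho_V])
theorem d_eq : Cfsg.Agent.J4.Invol.d = V 5 :=
  rho_injective (by rw [Cfsg.Agent.J4.Invol.rho_d, rho_V])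

theorem A_s : geo.A (V 1024) := by
  show IsConj _ _
  rw [s_eq]
theorem B_d : geo.B (V 5) := by
  show IsConj _ _
  rw [d_eq]

theorem A_conj' {g u : 𝒢} (h : geo.A u) : geo.A (g * u * g⁻¹) :=
  IsConj.trans (show IsConj _ _ from h) (isConj_iff.2 ⟨g, rfl⟩)
theorem B_conj' {g u : 𝒢} (h : geo.B u) : geo.B (g * u * g⁻¹) :=
  IsConj.trans (show IsConj _ _ from h) (isConj_iff.2 ⟨g, rfl⟩)
theorem A_of_conj {g u : 𝒢} (h : geo.A (g * u * g⁻¹)) : geo.A u := by
  have h1 := A_conj' (g := g⁻¹) h
  have e : g⁻¹ * (g * u * g⁻¹) * g⁻¹⁻¹ = u := by group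
  rwa [e] at h1
theorem B_of_conj {g u : 𝒢} (h : geo.B (g * u * g⁻¹)) : geo.B u := by
  have h1 := B_conj' (g := g⁻¹) h
  have e : g⁻¹ * (g * u * g⁻¹) * g⁻¹⁻¹ = u := by group
  rwa [e] at h1

theorem not_AB {u : 𝒢} (h : geo.A u) (h' : geo.B u) : False :=
  Cfsg.Agent.J4.Invol.not_isConj_s_d ((show IsConj _ _ from h).trans (show IsConj _ _ from h').symm)

theorem V_ne {v : ℕ} (hv : v < 2048) (h0 : v ≠ 0) : V v ≠ 1 := by
  rw [← V_zero]
  exact fun h => h0 (V_inj hv (by norm_num) h)

theorem A_sq {u : 𝒢} (h : geo.A u) : u * u = 1 := by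
  obtain ⟨g, hg⟩ := isConj_iff.1 (show IsConj _ _ from h)
  rw [← hg, s_eq]
  calc g * V 1024 * g⁻¹ * (g * V 1024 * g⁻¹) = g * (V 1024 * V 1024) * g⁻¹ := by group
    _ = 1 := by rw [V_sq]; group
theorem B_sq {u : 𝒢} (h : geo.B u) : u * u = 1 := by
  obtain ⟨g, hg⟩ := isConj_iff.1 (show IsConj _ _ from h)
  rw [← hg, d_eq]
  calc g * V 5 * g⁻¹ * (g * V 5 * g⁻¹) = g * (V 5 * V 5) * g⁻¹ := by group
    _ = 1 := by rw [V_sq]; group
theorem A_ne {u : 𝒢} (h : geo.A u) : u ≠ 1 := by
  rintro rfl
  obtain ⟨g, hg⟩ := isConj_iff.1 (show IsConj _ _ from h)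
  apply V_ne (v := 1024) (by norm_num) (by norm_num)
  rw [s_eq] at hg
  calc V 1024 = g⁻¹ * (g * V 1024 * g⁻¹) * g := by group
    _ = 1 := by rw [hg]; group
theorem B_ne {u : 𝒢} (h : geo.B u) : u ≠ 1 := by
  rintro rfl
  obtain ⟨g, hg⟩ := isConj_iff.1 (show IsConj _ _ from h)
  apply V_ne (v := 5) (by norm_num) (by norm_num)
  rw [d_eq] at hg
  calc V 5 = g⁻¹ * (g * V 5 * g⁻¹) * g := by group
    _ = 1 := by rw [hg]; group

/-- sextets -/
def sx (q : ℕ) : Bool := Nat.blt (tget pos 11 q) 1771

theorem V_cls {q : ℕ} (hq : q < 2048) (h0 : q ≠ 0) :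
    (sx q = true ∧ geo.A (V q)) ∨ (sx q = false ∧ geo.B (V q)) := by
  have h1 := orb_ok
  unfold orbOk at h1
  rw [Bool.and_eq_true, Bool.and_eq_true, List.all_eq_true, List.all_eq_true] at h1
  have h2 := h1.1.2 q (List.mem_range.mpr hq)
  rw [Bool.or_eq_true, Nat.beq_eq, Bool.and_eq_true, Nat.blt_eq, Nat.beq_eq] at h2
  rcases h2 with h2 | ⟨h2, h3⟩
  · exact absurd h2 h0
  · obtain ⟨m, hm⟩ := Cfsg.Agent.J4.Invol.conj_arr hyp _ h2
    rw [h3] at hm
    by_cases h4 : tget pos 11 q < 1771
    · left
      refine ⟨by unfold sx; rw [Nat.blt_eq]; exact h4, ?_⟩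
      have h5 : V q = phi m * V 1024 * (phi m)⁻¹ := by
        apply rho_injective
        rw [map_mul, map_mul, map_inv, rho_V, rho_V, hm, if_pos h4]
        rfl
      rw [h5]
      exact A_conj' A_s
    · right
      refine ⟨?_, ?_⟩
      · unfold sx
        rw [← Bool.not_eq_true, Nat.blt_eq]
        exact h4
      have h5 : V q = phi m * V 5 * (phi m)⁻¹ := by
        apply rho_injective
        rw [map_mul, map_mul, map_inv, rho_V, rho_V, hm, if_neg h4]
        rfl
      rw [h5]
      exact B_conj' B_d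

theorem A_of_sx {q : ℕ} (hq : q < 2048) (h0 : q ≠ 0) (h : sx q = true) : geo.A (V q) := by
  rcases V_cls hq h0 with h1 | h1
  · exact h1.2
  · rw [h] at h1
    exact absurd h1.1 (by decide)
theorem B_of_sx {q : ℕ} (hq : q < 2048) (h0 : q ≠ 0) (h : sx q = false) : geo.B (V q) := by
  rcases V_cls hq h0 with h1 | h1
  · rw [h] at h1
    exact absurd h1.1 (by decide)
  · exact h1.2
theorem sx_of_A {q : ℕ} (hq : q < 2048) (h : geo.A (V q)) : q ≠ 0 ∧ sx q = true := by
  have h0 : q ≠ 0 := by
    rintro rfl
    exact A_ne h V_zero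
  rcases V_cls hq h0 with h1 | h1
  · exact ⟨h0, h1.1⟩
  · exact absurd h1.2 fun h2 => not_AB h h2
theorem sx_of_B {q : ℕ} (hq : q < 2048) (h : geo.B (V q)) : q ≠ 0 ∧ sx q = false := by
  have h0 : q ≠ 0 := by
    rintro rfl
    exact B_ne h V_zero
  rcases V_cls hq h0 with h1 | h1
  · exact absurd h (fun h2 => not_AB h1.2 h2)
  · exact ⟨h0, h1.1⟩

/-! ### Coordinates -/

theorem actX' (v : ℕ) : phi XM * V v * (phi XM)⁻¹ = V (lin Ax v) := by
  apply rho_injective
  rw [map_mul, map_mul, map_inv, rho_V, rho_V]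
  exact hyp.actX v
theorem act1' (v : ℕ) : phi (el P1) * V v * (phi (el P1))⁻¹ = V (lin A1 v) := by
  apply rho_injective
  rw [map_mul, map_mul, map_inv, rho_V, rho_V]
  exact hyp.act1 v

theorem Ax_lt : ∀ v < 2048, lin Ax v < 2048 := fun v _ =>
  Cfsg.Agent.H858.VK.lin_lt (by decide +kernel) v
theorem A1_lt : ∀ v < 2048, lin A1 v < 2048 := fun v _ =>
  Cfsg.Agent.H858.VK.lin_lt (by decide +kernel) v

theorem sqX : XM * XM = 1 := by
  have h4 : wordG [0, 0] = wordG [] := Cfsg.Agent.H858.M24Norm.wordG_eq (by decide +kernel)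
  exact h4

theorem phiX_sq : phi XM * phi XM = 1 := by rw [← map_mul, sqX, map_one]

theorem phi1_sq : phi (el P1) * phi (el P1) = 1 := by
  have h2 := eqC' ([41, 41], []) (by decide +kernel)
  simpa only [Cfsg.Agent.Lib.F2MatGroup.evG_cons, Cfsg.Agent.Lib.F2MatGroup.evG_nil, mul_one,
    getG41] using h2

section coord

variable {φ : 𝒢} {A : List ℕ}

theorem push (hact : ∀ v, φ * V v * φ⁻¹ = V (lin A v)) (v : ℕ) :
    φ * V v = V (lin A v) * φ := by
  rw [← hact]; group

theorem fix_of_sq (hact : ∀ v, φ * V v * φ⁻¹ = V (lin A v)) (hA : ∀ v < 2048, lin A v < 2048)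
    (hφ : φ * φ = 1) {v : ℕ} (hv : v < 2048) (h : V v * φ * (V v * φ) = 1) : lin A v = v := by
  have h1 : V v * V (lin A v) = 1 := by
    rw [← hact]
    calc V v * (φ * V v * φ⁻¹) = V v * φ * (V v * φ) * (φ * φ)⁻¹ := by group
      _ = 1 := by rw [h, hφ]; group
  have h2 : V (lin A v) = V v := by
    rw [← V_inv v]
    exact (inv_eq_of_mul_eq_one_right h1).symm
  exact V_inj (hA v hv) hv h2

theorem comm_iff (hact : ∀ v, φ * V v * φ⁻¹ = V (lin A v)) (hA : ∀ v < 2048, lin A v < 2048)
    {u v : ℕ} (hv : v < 2048) : V v * (V u * φ) = V u * φ * V v ↔ lin A v = v := by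
  have e1 : V u * φ * V v = V (lin A v) * (V u * φ) := by
    rw [mul_assoc, push hact, ← mul_assoc, V_comm u, mul_assoc]
  rw [e1]
  constructor
  · intro h
    exact (V_inj hv (hA v hv) (mul_right_cancel h)).symm
  · intro h
    rw [h]

theorem conj_r (hact : ∀ v, φ * V v * φ⁻¹ = V (lin A v)) (w r : ℕ) :
    V (w ^^^ r ^^^ lin A r) * φ = V r * (V w * φ) * (V r)⁻¹ := by
  calc V (w ^^^ r ^^^ lin A r) * φ = V w * V r * (V (lin A r) * φ) := by
        rw [V_xor, V_xor]; group
    _ = V w * V r * (φ * V r) := by rw [push hact]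
    _ = V r * V w * (φ * V r) := by rw [V_comm]
    _ = V r * (V w * φ) * (V r)⁻¹ := by rw [V_inv]; group

end coord

theorem cj_V (g : 𝒢) (r : ℕ) : cj (g * V r) 𝓔 = cj g 𝓔 := by
  rw [← cj_cj]
  congr 1
  rw [cj_eq_iff]
  exact Subgroup.le_normalizer (V_mem r)

theorem conj_V_V (g : 𝒢) (r e : ℕ) : g * V r * V e * (g * V r)⁻¹ = g * V e * g⁻¹ := by
  rw [mul_inv_rev, mul_assoc g, V_comm r e]; group

theorem mem_cj_V (g : 𝒢) (e : ℕ) : g * V e * g⁻¹ ∈ cj g 𝓔 := by
  rw [mem_cj]
  have : g⁻¹ * (g * V e * g⁻¹) * g = V e := by group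
  rw [this]
  exact V_mem e

theorem exists_V {g x : 𝒢} (h : x ∈ cj g 𝓔) : ∃ v < 2048, x = g * V v * g⁻¹ := by
  rw [mem_cj] at h
  obtain ⟨v, hv, h1⟩ := Cfsg.Agent.H858.Data.mem_EJ.1 h
  exact ⟨v, hv, by rw [← h1]; group⟩

theorem conj_inj {g x y : 𝒢} (h : g * x * g⁻¹ = g * y * g⁻¹) : x = y :=
  mul_left_cancel (mul_right_cancel h)

/-- an involution normalizing a point and outside it, in coordinates -/
theorem types {g u : 𝒢} (hn : u ∈ Subgroup.normalizer (cj g 𝓔 : Set 𝒢)) (hu : u ∉ cj g 𝓔)
    (huu : u * u = 1) : ∃ h, cj h 𝓔 = cj g 𝓔 ∧ ∃ v < 2048,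
      u = h * (V v * phi (el P1)) * h⁻¹ ∨ u = h * (V v * phi XM) * h⁻¹ := by
  rw [normalizer_cj, mem_cj, normalizer_EJ] at hn
  obtain ⟨e, he, k, hk⟩ := mem_B.1 hn
  have huE : g⁻¹ * u * g ∉ 𝓔 := fun h => hu (mem_cj.2 h)
  have hk1 : k ≠ 1 := by
    rintro rfl
    rw [map_one, mul_one] at hk
    exact huE (hk ▸ he)
  have hsq : e * phi k * (e * phi k) = 1 := by
    rw [← hk]
    calc g⁻¹ * u * g * (g⁻¹ * u * g) = g⁻¹ * (u * u) * g := by group
      _ = 1 := by rw [huu]; group
  have hkk : k * k = 1 := by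
    apply phi_injective
    rw [map_one]
    apply Cfsg.Agent.H858.VK.inf_eq_one
    · have h1 : phi (k * k) = (phi k * e * (phi k)⁻¹)⁻¹ * e⁻¹ := by
        rw [map_mul]
        have : e * phi k * (e * phi k) = e * (phi k * e * (phi k)⁻¹) * (phi k * phi k) := by
          group
        rw [this] at hsq
        rw [← mul_inv_rev]
        exact eq_inv_of_mul_eq_one_right hsq
      rw [h1]
      exact Subgroup.mul_mem _ (Subgroup.inv_mem _
        ((Subgroup.mem_normalizer_iff.1 (phi_norm ⟨k, rfl⟩) e).1 he)) (Subgroup.inv_mem _ he)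
    · exact ⟨_, rfl⟩
  obtain ⟨ν, hν⟩ := Cfsg.Agent.J4.M24Invol.invol_conj k hkk hk1
  obtain ⟨v, hv, hev⟩ := Cfsg.Agent.H858.Data.mem_EJ.1
    ((Subgroup.mem_normalizer_iff.1 (phi_norm ⟨ν, rfl⟩) e).1 he)
  have hX : el P2 = XM := by
    apply Subtype.ext
    rw [coe_el Cfsg.Agent.J4.M24Invol.ok_P2]
    ext1 p
    rw [Cfsg.Agent.SporadicA.GolayPerm.permOf_apply]
    revert p
    decide +kernel
  rw [hX] at hν
  refine ⟨g * (phi ν)⁻¹, ?_, v, hv, ?_⟩
  · rw [← cj_cj]
    congr 1
    rw [cj_eq_iff]
    exact Subgroup.inv_mem _ (phi_norm ⟨ν, rfl⟩)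
  · have key : ∀ m, ν * k * ν⁻¹ = m → u = g * (phi ν)⁻¹ * (V v * phi m) * (g * (phi ν)⁻¹)⁻¹ := by
      rintro m rfl
      have e1 : u = g * (g⁻¹ * u * g) * g⁻¹ := by group
      rw [e1, hk, ← hev, map_mul, map_mul, map_inv]
      group
    rcases hν with hν | hν
    · exact Or.inl (key _ hν)
    · exact Or.inr (key _ hν)

/-! ### Sets of elements of a point -/

theorem le_ncard {S : Set 𝒢} {g : 𝒢} {l : List ℕ} (hnd : l.Nodup) (hlt : ∀ e ∈ l, e < 2048)
    (h : ∀ e ∈ l, g * V e * g⁻¹ ∈ S) : l.length ≤ S.ncard := by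
  classical
  have h1 : ((l.toFinset : Finset ℕ) : Set ℕ).ncard ≤ S.ncard := by
    refine Set.ncard_le_ncard_of_injOn (fun e => g * V e * g⁻¹) ?_ ?_ (Set.toFinite _)
    · intro e he
      exact h e (List.mem_toFinset.1 he)
    · intro e he e' he' hee
      exact V_inj (hlt e (List.mem_toFinset.1 he)) (hlt e' (List.mem_toFinset.1 he')) (conj_inj hee)
  rwa [Set.ncard_coe_finset, List.toFinset_card_of_nodup hnd] at h1

theorem ncard_le {S : Set 𝒢} {g : 𝒢} {l : List ℕ} (h : ∀ x ∈ S, ∃ e ∈ l, x = g * V e * g⁻¹) :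
    S.ncard ≤ l.length := by
  classical
  have h1 : S.ncard ≤ (((l.toFinset.image fun e => g * V e * g⁻¹) : Finset 𝒢) : Set 𝒢).ncard := by
    refine Set.ncard_le_ncard ?_ (Set.toFinite _)
    intro x hx
    obtain ⟨e, he, rfl⟩ := h x hx
    exact Finset.mem_coe.2 (Finset.mem_image.2 ⟨e, List.mem_toFinset.2 he, rfl⟩)
  rw [Set.ncard_coe_finset] at h1
  exact h1.trans (Finset.card_image_le.trans (List.toFinset_card_le l))

theorem tyA_conj {x y : 𝒢} (g : 𝒢) (h : TyA geo x y) : TyA geo (g * x * g⁻¹) (g * y * g⁻¹) := by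
  obtain ⟨_, ⟨k, rfl⟩, hx, hy⟩ := h
  refine ⟨cj (g * k) Z, ⟨g * k, rfl⟩, ?_, ?_⟩
  · rw [← cj_cj, mem_cj]
    have e : g⁻¹ * (g * x * g⁻¹) * g = x := by group
    rw [e]; exact hx
  · rw [← cj_cj, mem_cj]
    have e : g⁻¹ * (g * y * g⁻¹) * g = y := by group
    rw [e]; exact hy

end Cfsg.Agent.H705.JM.BadBase
end

-- part: H705/JM/BadFacts
section
/-!
# (F18): the 2B elements of `N(2^11)` outside `2^11` and their points
-/

set_option autoImplicit false

namespace Cfsg.Agent.H705.JM.BadFacts

open Cfsg Cfsg.Agent.J4.Rep112 Cfsg.Agent.J4.Beta Cfsg.Agent.J4.ClassesAbs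
open Cfsg.Agent.J4.ClassesData Cfsg.Agent.J4.M24Hom Cfsg.Agent.J4.Classes Cfsg.Agent.J4.Pres
open Cfsg.Agent.J4.M24InvolData Cfsg.Agent.SporadicStructure.M24El
open Cfsg.Agent.J4.Nodes (wordG)
open Cfsg.Agent.H858.VK (rho_injective phi_injective actG mem_B phi_norm)
open Cfsg.Agent.H858.Data (V rho_V V_xor V_zero V_sq V_inv V_comm V_inj V_mem)
open Cfsg.Agent.H858.Loc7 (Z)
open Cfsg.Agent.H825.JM (conj_word normalizer_EJ line_EJ)
open Cfsg.Agent.H860.JM Cfsg.Agent.H705.JM.BadData Cfsg.Agent.H705.JM.BadAbs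
open Cfsg.Agent.H705.JM.BadBase

/-- the group `Spor.J4` -/
local notation "𝒢" => Cfsg.Spor.J4
/-- the group `2^11` -/
local notation "𝓔" => Cfsg.Agent.J4.Invol.EJ

/-! ### General lemmas -/

theorem uniq4 (h4 : F4 geo) {t : 𝒢} {P P' : Subgroup 𝒢} (ht : geo.B t) (hP : geo.Pt P)
    (hP' : geo.Pt P') (h : t ∈ P) (h' : t ∈ P') : P = P' := by
  obtain ⟨Q, -, -, h1, -⟩ := h4 t ht
  rw [h1 P hP h, h1 P' hP' h']

theorem norm4 (h4 : F4 geo) {t y : 𝒢} {P : Subgroup 𝒢} (ht : geo.B t) (hP : geo.Pt P) (h : t ∈ P)
    (hy : y * t = t * y) : y ∈ Subgroup.normalizer (P : Set 𝒢) := by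
  obtain ⟨Q, -, -, h1, h2⟩ := h4 t ht
  rw [h1 P hP h]
  exact h2 (Subgroup.mem_centralizer_singleton_iff.2 hy)

/-- an element of order 5 normalizing a group of order 8 centralizes it -/
theorem fix5 {G : Type*} [Group G] [Finite G] {D : Subgroup G} (hD : Nat.card D = 8) {h : G}
    (h5 : h ^ 5 = 1) (hn : h ∈ Subgroup.normalizer (D : Set G)) : ∀ x ∈ D, h * x = x * h := by
  classical
  have : Fintype D := Fintype.ofFinite D
  let f : Function.End D := fun x => ⟨h * x * h⁻¹, (Subgroup.mem_normalizer_iff.1 hn x).1 x.2⟩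
  have hf : ∀ n : ℕ, ∀ x : D, ((f ^ n) x : G) = h ^ n * x * (h ^ n)⁻¹ := by
    intro n
    induction n with
    | zero =>
      intro x
      rw [pow_zero, pow_zero, one_mul, inv_one, mul_one]
      rfl
    | succ n ih =>
      intro x
      rw [pow_succ]
      show ((f ^ n) (f x) : G) = _
      rw [ih]
      show h ^ n * (h * x * h⁻¹) * (h ^ n)⁻¹ = _
      rw [pow_succ]
      group
  have h1 : f ^ 5 ^ 1 = 1 := by
    funext x
    apply Subtype.ext
    rw [pow_one, hf, h5, one_mul, inv_one, mul_one]
    rfl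
  have : Fact (Nat.Prime 5) := ⟨by norm_num⟩
  have h2 := Equiv.Perm.card_fixedPoints_modEq (f := f) (p := 5) (n := 1) h1
  set C : Subgroup D := (Subgroup.centralizer {h}).subgroupOf D with hC
  have h3 : Function.fixedPoints f = (C : Set D) := by
    ext x
    rw [SetLike.mem_coe, hC, Subgroup.mem_subgroupOf, Subgroup.mem_centralizer_singleton_iff]
    show f x = x ↔ _
    rw [Subtype.ext_iff]
    show h * x * h⁻¹ = x ↔ _
    rw [mul_inv_eq_iff_eq_mul]
    exact eq_comm
  have h4 : Fintype.card (Function.fixedPoints f) = Nat.card C := by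
    rw [← Nat.card_eq_fintype_card, h3]
    rfl
  have h6 : Nat.card C ∣ 8 := by
    rw [← hD]
    exact C.card_subgroup_dvd_card
  rw [h4, ← Nat.card_eq_fintype_card, hD] at h2
  have h7 : Nat.card C = 8 := by
    have h8 : Nat.card C ≤ 8 := Nat.le_of_dvd (by norm_num) h6
    generalize Nat.card C = n at h2 h6 h8
    interval_cases n <;> first | rfl | (exfalso; revert h2 h6; decide)
  have h9 : C = ⊤ := by
    apply Subgroup.eq_top_of_card_eq
    rw [h7, hD]
  intro x hx
  have h10 : (⟨x, hx⟩ : D) ∈ C := by rw [h9]; trivial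
  rw [hC, Subgroup.mem_subgroupOf, Subgroup.mem_centralizer_singleton_iff] at h10
  exact h10.symm

/-! ### Type 2 -/

private noncomputable def frB (n : ℕ) (f : ℕ → Bool) : Bool := Nat.rec (f 0) (fun k _ => f (Nat.succ k)) n

private theorem frB_eq (n : ℕ) (f : ℕ → Bool) : frB n f = f n := by cases n <;> rfl

private noncomputable def alB (A : List ℕ) : (ℕ → ℕ → Bool) → Bool :=
  List.rec (fun P => P 0 0) (fun a _ ih P => ih fun u w => frB (Nat.mul 2 u) fun u => frB w fun w =>
    Bool.rec false (P (Nat.succ u) (Nat.xor a w)) (P u w)) A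

private theorem alB_sound (A : List ℕ) : ∀ P : ℕ → ℕ → Bool, alB A P = true → ∀ v < 2 ^ A.length, P v (lin A v) = true := by
  induction A with
  | nil =>
    intro P h v hv
    obtain rfl : v = 0 := Nat.lt_one_iff.1 hv
    exact h
  | cons a A ih =>
    intro P h v hv
    rw [List.length_cons, Nat.pow_succ] at hv
    have h1 := ih _ h (v / 2) (by omega)
    rw [frB_eq, frB_eq] at h1
    have h2 : (Bool.rec false (P (2 * (v / 2) + 1) (a ^^^ lin A (v / 2))) (P (2 * (v / 2)) (lin A (v / 2))) : Bool) = true := h1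
    rw [lin_cons]
    cases h3 : P (2 * (v / 2)) (lin A (v / 2))
    · rw [h3] at h2; exact absurd h2 Bool.false_ne_true
    · rw [h3] at h2
      split_ifs with h4
      · rw [show 2 * (v / 2) + 1 = v by omega] at h2; exact h2
      · rw [show 2 * (v / 2) = v by omega] at h3; exact h3

theorem tabX : ((List.range 2048).all fun v => !(Nat.beq (lin Ax v) v) ||
    fix2.any fun t => Nat.beq (Nat.xor (Nat.xor (5 * (v % 2)) t.2.2) (lin Ax t.2.2)) v) =
    true :=
  List.all_eq_true.2 fun v hv => alB_sound Ax (fun v w => !(Nat.beq w v) ||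
    fix2.any fun t => Nat.beq (Nat.xor (Nat.xor (5 * (v % 2)) t.2.2) (lin Ax t.2.2)) v) (by decide +kernel) v
    (List.mem_range.1 hv)

theorem X_red {v : ℕ} (hv : v < 2048) (hf : lin Ax v = v) :
    ∃ r, v = 5 * (v % 2) ^^^ r ^^^ lin Ax r := by
  have h := tabX
  rw [List.all_eq_true] at h
  have h1 := h v (List.mem_range.2 hv)
  rw [hf, Nat.beq_refl, Bool.not_true, Bool.false_or, List.any_eq_true] at h1
  obtain ⟨t, -, h2⟩ := h1
  rw [Nat.beq_eq] at h2
  exact ⟨t.2.2, h2.symm⟩

theorem B_X : geo.B (phi XM) := by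
  obtain ⟨g, h, -⟩ := repX
  rw [h]
  exact B_conj' B_d

theorem A_X : geo.A (V 5 * phi XM) := by
  obtain ⟨g, h⟩ := repXA
  rw [h]
  exact A_conj' A_s

theorem X_even {v : ℕ} (hv : v < 2048) (hf : lin Ax v = v) (h : v % 2 = 0) :
    ∃ r, V v * phi XM = V r * phi XM * (V r)⁻¹ := by
  obtain ⟨r, hr⟩ := X_red hv hf
  rw [h, Nat.mul_zero] at hr
  refine ⟨r, ?_⟩
  conv_lhs => rw [hr]
  rw [conj_r actX', V_zero, one_mul]

theorem X_odd {v : ℕ} (hv : v < 2048) (hf : lin Ax v = v) (h : v % 2 = 1) :
    ∃ r, V v * phi XM = V r * (V 5 * phi XM) * (V r)⁻¹ := by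
  obtain ⟨r, hr⟩ := X_red hv hf
  rw [h, Nat.mul_one] at hr
  refine ⟨r, ?_⟩
  conv_lhs => rw [hr]
  rw [conj_r actX']

theorem X_A {v : ℕ} (hv : v < 2048) (hf : lin Ax v = v) (h : v % 2 = 1) :
    geo.A (V v * phi XM) := by
  obtain ⟨r, hr⟩ := X_odd hv hf h
  rw [hr]
  exact A_conj' A_X

theorem X_B {v : ℕ} (hv : v < 2048) (hf : lin Ax v = v) (h : v % 2 = 0) :
    geo.B (V v * phi XM) := by
  obtain ⟨r, hr⟩ := X_even hv hf h
  rw [hr]
  exact B_conj' B_X

theorem fixX {v : ℕ} (hv : v < 2048) (h : V v * phi XM * (V v * phi XM) = 1) : lin Ax v = v :=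
  fix_of_sq actX' Ax_lt phiX_sq hv h

theorem parity_A {v : ℕ} (hv : v < 2048) (h : geo.A (V v * phi XM)) :
    lin Ax v = v ∧ v % 2 = 1 := by
  have hf := fixX hv (A_sq h)
  refine ⟨hf, ?_⟩
  rcases Nat.mod_two_eq_zero_or_one v with h1 | h1
  · exact (not_AB h (X_B hv hf h1)).elim
  · exact h1

theorem parity_B {v : ℕ} (hv : v < 2048) (h : geo.B (V v * phi XM)) :
    lin Ax v = v ∧ v % 2 = 0 := by
  have hf := fixX hv (B_sq h)
  refine ⟨hf, ?_⟩
  rcases Nat.mod_two_eq_zero_or_one v with h1 | h1
  · exact h1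
  · exact (not_AB (X_A hv hf h1) h).elim

/-- a 2B element of type 2 is conjugate to `phi XM` by an element of the point -/
theorem X_norm {g : 𝒢} {v : ℕ} (hv : v < 2048) (h : geo.B (g * (V v * phi XM) * g⁻¹)) :
    ∃ k, cj k 𝓔 = cj g 𝓔 ∧ g * (V v * phi XM) * g⁻¹ = k * phi XM * k⁻¹ ∧
      ∀ e, k * V e * k⁻¹ = g * V e * g⁻¹ := by
  obtain ⟨hf, h0⟩ := parity_B hv (B_of_conj h)
  obtain ⟨r, hr⟩ := X_even hv hf h0
  refine ⟨g * V r, cj_V g r, ?_, conj_V_V g r⟩
  rw [hr]
  group

theorem X20 (h4 : F4 geo) {g : 𝒢} {P : Subgroup 𝒢} (hP : geo.Pt P) (h : g * phi XM * g⁻¹ ∈ P) :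
    g * V 20 * g⁻¹ ∈ P := by
  obtain ⟨k, h1, h2⟩ := repX
  have h3 : cj (g * k) 𝓔 = P := by
    refine uniq4 h4 (t := g * phi XM * g⁻¹) (B_conj' B_X) ⟨_, rfl⟩ hP ?_ h
    rw [h1]
    have e : g * (k * V 5 * k⁻¹) * g⁻¹ = g * k * V 5 * (g * k)⁻¹ := by group
    rw [e]
    exact mem_cj_V _ _
  rw [← h3]
  have e : g * V 20 * g⁻¹ = g * k * V 1739 * (g * k)⁻¹ := by
    rw [← h2]; group
  rw [e]
  exact mem_cj_V _ _

theorem phiX_notMem : phi XM ∉ 𝓔 := by
  intro h
  exact B_ne B_X (Cfsg.Agent.H858.VK.inf_eq_one _ h ⟨_, rfl⟩)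

/-- the word of an element of order 5 commuting with `XM` -/
def wh : List ℕ := [0, 1, 0, 2, 0, 1, 0, 1, 0, 2, 0, 1, 0, 1, 0, 1, 0, 1, 0, 2, 0, 2, 0, 2, 0, 2, 0,
  1, 0, 1, 0, 2, 0, 1, 0, 1, 0, 2, 0, 1]

theorem wh_comm : wordG wh * XM = XM * wordG wh := by
  have h : wordG (wh ++ [0]) = wordG ([0] ++ wh) :=
    Cfsg.Agent.H858.M24Norm.wordG_eq (by decide +kernel)
  rw [Cfsg.Agent.H858.M24Norm.wordG_append, Cfsg.Agent.H858.M24Norm.wordG_append] at h
  exact h

theorem wh_five : wordG wh ^ 5 = 1 := by
  have h : wordG (wh ++ (wh ++ (wh ++ (wh ++ wh)))) = wordG [] :=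
    Cfsg.Agent.H858.M24Norm.wordG_eq (by decide +kernel)
  simp only [Cfsg.Agent.H858.M24Norm.wordG_append] at h
  have e : ∀ x : M24, x ^ 5 = x * (x * (x * (x * x))) := fun x => by
    simp only [pow_succ, pow_zero, one_mul, mul_assoc]
  rw [e, h]
  rfl

/-- the matrix of this element -/
def Mh : List ℕ := [161, 1638, 164, 1944, 176, 851, 545, 1369, 1173, 7, 13]

theorem Mh_eq : Cfsg.Agent.H858.VK.mat wh = Mh := by decide +kernel

theorem act_h (v : ℕ) : phi (wordG wh) * V v * (phi (wordG wh))⁻¹ = V (lin Mh v) := by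
  have h := Cfsg.Agent.H858.VK.isMat_word wh
  rw [Mh_eq] at h
  exact Cfsg.Agent.H858.Data.conj_V h v

theorem Mh_lt : ∀ v < 2048, lin Mh v < 2048 := fun v _ =>
  Cfsg.Agent.H858.VK.lin_lt (by decide +kernel) v

theorem fixh : ((List.range 2048).all fun v => !(Nat.beq (lin Ax v) v) ||
    !(Nat.beq (lin Mh v) v) || Nat.beq v 0 || Nat.beq v 20 || !(sx v)) = true :=
  List.all_eq_true.2 fun v hv => alB_sound Ax (fun v w => !(Nat.beq w v) ||
    !(Nat.beq (lin Mh v) v) || Nat.beq v 0 || Nat.beq v 20 || !(sx v)) (by decide +kernel) v (List.mem_range.1 hv)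

/-- the intersection of `2^11` and of the point of a 2B element of type 2 -/
theorem X_upper (h4 : F4 geo) (h5 : F5 geo) (h6 : F6 geo) {g : 𝒢} {P : Subgroup 𝒢}
    (hP : geo.Pt P) (h : g * phi XM * g⁻¹ ∈ P) :
    ∀ x, x ∈ cj g 𝓔 ⊓ P ↔ x = 1 ∨ x = g * V 20 * g⁻¹ := by
  have h20 : g * V 20 * g⁻¹ ∈ cj g 𝓔 ⊓ P := ⟨mem_cj_V _ _, X20 h4 hP h⟩
  have h201 : g * V 20 * g⁻¹ ≠ 1 := A_ne (A_conj' (A_of_sx (by norm_num) (by norm_num)
    (by decide +kernel)))
  intro x
  constructor
  swap
  · rintro (rfl | rfl)
    · exact Subgroup.one_mem _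
    · exact h20
  intro hx
  by_cases hx1 : x = 1
  · exact Or.inl hx1
  have hne : cj g 𝓔 ≠ P := by
    intro h0
    rw [← h0, mem_cj] at h
    apply phiX_notMem
    have e : g⁻¹ * (g * phi XM * g⁻¹) * g = phi XM := by group
    rwa [e] at h
  rcases h5 _ P ⟨g, rfl⟩ hP hne with h0 | ⟨z, -, h0⟩ | h0
  · rw [h0, Subgroup.mem_bot] at hx
    exact absurd hx hx1
  · right
    rcases (h0 _).1 h20 with h1 | h1
    · exact absurd h1 h201
    · rcases (h0 x).1 hx with h2 | h2
      · exact absurd h2 hx1
      · rw [h1, h2]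
  · right
    set η := g * phi (wordG wh) * g⁻¹ with hη
    have hη5 : η ^ 5 = 1 := by
      rw [hη, conj_pow, ← map_pow, wh_five, map_one, mul_one, mul_inv_cancel]
    have hη1 : η ∈ Subgroup.normalizer (cj g 𝓔 : Set 𝒢) := by
      rw [normalizer_cj, mem_cj]
      have e : g⁻¹ * η * g = phi (wordG wh) := by rw [hη]; group
      rw [e]
      exact phi_norm ⟨_, rfl⟩
    have hη2 : η ∈ Subgroup.normalizer (P : Set 𝒢) := by
      refine norm4 h4 (B_conj' B_X) hP h ?_
      rw [hη, conj_mul, conj_mul, ← map_mul, ← map_mul, wh_comm]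
    have hη3 : η ∈ Subgroup.normalizer ((cj g 𝓔 ⊓ P : Subgroup 𝒢) : Set 𝒢) := by
      rw [Subgroup.mem_normalizer_iff]
      intro y
      rw [Subgroup.mem_inf, Subgroup.mem_inf]
      exact and_congr (Subgroup.mem_normalizer_iff.1 hη1 y) (Subgroup.mem_normalizer_iff.1 hη2 y)
    have h7 := fix5 (h6.card _ h0) hη5 hη3 x hx
    obtain ⟨q, hq, rfl⟩ := exists_V hx.1
    have h8 : V q * phi (wordG wh) = phi (wordG wh) * V q := by
      rw [hη, conj_mul, conj_mul] at h7
      exact (conj_inj h7).symm
    have hq1 : lin Mh q = q := by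
      refine (comm_iff (u := 0) act_h Mh_lt hq).1 ?_
      rw [V_zero, one_mul]
      exact h8
    have h9 : V q * phi XM = phi XM * V q := by
      have hcomm : g * V q * g⁻¹ * (g * phi XM * g⁻¹) = g * phi XM * g⁻¹ * (g * V q * g⁻¹) := by
        obtain ⟨k, rfl⟩ := hP
        exact Cfsg.Agent.H825.JM.pt_comm hx.2 h
      rw [conj_mul, conj_mul] at hcomm
      exact conj_inj hcomm
    have hq2 : lin Ax q = q := by
      refine (comm_iff (u := 0) actX' Ax_lt hq).1 ?_
      rw [V_zero, one_mul]
      exact h9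
    have h10 := fixh
    rw [List.all_eq_true] at h10
    have h11 := h10 q (List.mem_range.2 hq)
    rw [hq1, hq2, Nat.beq_refl, Bool.not_true, Bool.false_or, Bool.false_or, Bool.or_eq_true,
      Bool.or_eq_true, Nat.beq_eq, Nat.beq_eq] at h11
    have h12 : geo.A (V q) := A_of_conj (h6.pure _ h0 _ hx hx1)
    rcases h11 with (h11 | h11) | h11
    · exact absurd h11 (sx_of_A hq h12).1
    · rw [h11]
    · rw [(sx_of_A hq h12).2] at h11
      exact absurd h11 (by decide)

/-! #### The line -/

theorem t_V {v : ℕ} (h : v ∈ Cfsg.Agent.H858.Data.zl) : (t : 𝒢) * V v * t = V v := by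
  have h1 := Cfsg.Agent.H858.Data.sound.1
    (Cfsg.Agent.H858.Data.tu v, Cfsg.Agent.H858.Data.bb v) (by
      unfold Cfsg.Agent.H858.Data.eqsX Cfsg.Agent.H858.Data.eqsZ
      exact List.mem_append_left _ (List.mem_map.2 ⟨v, h, rfl⟩))
  unfold Cfsg.Agent.H858.Data.tu at h1
  rw [Cfsg.Agent.H858.Data.evG_bb, Cfsg.Agent.Lib.F2MatGroup.evG_cons, evG_append,
    Cfsg.Agent.H858.Data.evG_bb, Cfsg.Agent.J4.Lower.evG_single] at h1
  rw [mul_assoc]
  exact h1

theorem t_inv : (t : 𝒢)⁻¹ = t := inv_eq_of_mul_eq_one_left t_sq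

theorem line0 : TyA geo (V 20) (V 497 * phi XM) := by
  set c := phi (wordG cW) with hc
  set m := phi (wordG [1, 0, 2]) with hm
  have e1 : c * V 497 * c⁻¹ = V 1114 := by
    rw [hc, conj_word]
    exact congrArg V (by decide +kernel)
  have e2 : c * V 20 * c⁻¹ = V 1394 := by
    rw [hc, conj_word]
    exact congrArg V (by decide +kernel)
  have e3 : m * V 1563 * m⁻¹ = V 296 := by
    rw [hm, conj_word]
    exact congrArg V (by decide +kernel)
  have e4 : m * V 1394 * m⁻¹ = V 1394 := by
    rw [hm, conj_word]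
    exact congrArg V (by decide +kernel)
  have e5 : (t : 𝒢) * V 1394 * t = V 1394 := t_V (by decide)
  refine ⟨cj (c⁻¹ * t * m) Z, ⟨_, rfl⟩, ?_, ?_⟩
  · rw [mem_cj]
    have e : (c⁻¹ * t * m)⁻¹ * V 20 * (c⁻¹ * t * m) = V 1394 := by
      calc (c⁻¹ * t * m)⁻¹ * V 20 * (c⁻¹ * t * m) = m⁻¹ * (t⁻¹ * (c * V 20 * c⁻¹) * t) * m := by
            group
        _ = m⁻¹ * V 1394 * m := by rw [e2, t_inv, e5]
        _ = m⁻¹ * (m * V 1394 * m⁻¹) * m := by rw [e4]
        _ = V 1394 := by group
    rw [e]
    exact Cfsg.Agent.H858.Loc7.V_mem_Z 4 (by decide)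
  · rw [mem_cj]
    have e : (c⁻¹ * t * m)⁻¹ * (V 497 * phi XM) * (c⁻¹ * t * m) = V 1563 := by
      calc (c⁻¹ * t * m)⁻¹ * (V 497 * phi XM) * (c⁻¹ * t * m) =
            m⁻¹ * (t⁻¹ * ((c * V 497 * c⁻¹) * (c * phi XM * c⁻¹)) * t) * m := by
            group
        _ = m⁻¹ * (t * (t * V 296 * t) * t) * m := by rw [e1, t_inv, line_eq]
        _ = m⁻¹ * ((t * t) * V 296 * (t * t)) * m := by group
        _ = m⁻¹ * (m * V 1563 * m⁻¹) * m := by rw [t_sq, one_mul, mul_one, e3]
        _ = V 1563 := by group
    rw [e]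
    exact Cfsg.Agent.H858.Loc7.V_mem_Z 6 (by decide)

theorem X_line {g : 𝒢} {v : ℕ} (hv : v < 2048) (hf : lin Ax v = v) (h : v % 2 = 1) :
    TyA geo (g * V 20 * g⁻¹) (g * (V v * phi XM) * g⁻¹) := by
  obtain ⟨r, hr⟩ := X_odd hv hf h
  obtain ⟨r', hr'⟩ := X_odd (v := 497) (by norm_num) (by decide +kernel) (by norm_num)
  have h1 := tyA_conj (g * V r * V r') line0
  have e1 : g * V r * V r' * V 20 * (g * V r * V r')⁻¹ = g * V 20 * g⁻¹ := by
    rw [conj_V_V, conj_V_V]
  have e2 : g * V r * V r' * (V 497 * phi XM) * (g * V r * V r')⁻¹ =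
      g * (V v * phi XM) * g⁻¹ := by
    rw [hr, hr']
    calc g * V r * V r' * (V r' * (V 5 * phi XM) * (V r')⁻¹) * (g * V r * V r')⁻¹ =
          g * V r * (V r' * V r') * (V 5 * phi XM) * (V r' * V r')⁻¹ * (V r)⁻¹ * g⁻¹ := by group
      _ = _ := by rw [V_sq]; group
  rw [e1, e2] at h1
  exact h1

/-! ### Type 1 -/

/-- the coordinates modulo `[V, σ]` -/
def KK : List ℕ := [0, 0, 0, 0, 0, 4, 4, 4, 0, 2, 1]
/-- the functional `s` -/
def SS : List ℕ := [0, 1, 1, 1, 0, 0, 0, 1, 0, 0, 0]
/-- the representatives -/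
def rp (k : ℕ) : ℕ := [0, 1047, 517, 1554, 34, 1077, 551, 1584].getD k 0
/-- the labels in the point -/
def fano (k : ℕ) : List ℕ := [[], [206, 262, 456], [119, 447, 456], [185, 369, 456],
  [119, 262, 369], [185, 262, 447], [119, 185, 206], [206, 369, 447]].getD k []
/-- the group `F` -/
def F8 : List ℕ := [0, 119, 185, 206, 262, 369, 447, 456]

theorem tab1 : ((List.range 2048).all fun v => !(Nat.beq (lin A1 v) v) ||
    (Nat.blt (lin KK v) 8 && fix1.any fun t => Nat.beq t.1 v &&
      Nat.beq (Nat.xor (Nat.xor (rp (lin KK v)) t.2.2) (lin A1 t.2.2)) v)) = true :=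
  List.all_eq_true.2 fun v hv => alB_sound A1 (fun v w => !(Nat.beq w v) ||
    (Nat.blt (lin KK v) 8 && fix1.any fun t => Nat.beq t.1 v &&
      Nat.beq (Nat.xor (Nat.xor (rp (lin KK v)) t.2.2) (lin A1 t.2.2)) v)) (by decide +kernel) v (List.mem_range.1 hv)

theorem one_red {v : ℕ} (hv : v < 2048) (hf : lin A1 v = v) :
    lin KK v < 8 ∧ ∃ r, v = rp (lin KK v) ^^^ r ^^^ lin A1 r := by
  have h := tab1
  rw [List.all_eq_true] at h
  have h1 := h v (List.mem_range.2 hv)
  rw [hf, Nat.beq_refl, Bool.not_true, Bool.false_or, Bool.and_eq_true, Nat.blt_eq,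
    List.any_eq_true] at h1
  obtain ⟨h0, t, -, h2⟩ := h1
  rw [Bool.and_eq_true, Nat.beq_eq, Nat.beq_eq] at h2
  exact ⟨h0, t.2.2, h2.2.symm⟩

theorem fano_row : ((List.range 8).all fun k => Nat.beq k 0 || repsB.any fun r =>
    Nat.beq r.1 (rp k) && repOkB Cfsg.Agent.J4.ClassesData.eqsC eqsB 41 40 r &&
      (fano k).all fun e => r.2.2.2.2.2.any fun p => Nat.beq p.1 e) = true := by decide +kernel

theorem rep1 {k : ℕ} (hk : k < 8) (h0 : k ≠ 0) : ∃ g : 𝒢, V (rp k) * phi (el P1) = g * V 5 * g⁻¹ ∧
    ∀ e ∈ fano k, ∃ b, g⁻¹ * V e * g = V b := by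
  have h := fano_row
  rw [List.all_eq_true] at h
  have h1 := h k (List.mem_range.2 hk)
  rw [Bool.or_eq_true, Nat.beq_eq, List.any_eq_true] at h1
  rcases h1 with h1 | ⟨r, -, h1⟩
  · exact absurd h1 h0
  · rw [Bool.and_eq_true, Bool.and_eq_true, Nat.beq_eq, List.all_eq_true] at h1
    obtain ⟨⟨h1, h2⟩, h3⟩ := h1
    obtain ⟨g, h4, h5⟩ := rep_sound h2
    refine ⟨g, ?_, ?_⟩
    · rw [h1, getG41, getG40] at h4
      exact h4
    · intro e he
      have h6 := h3 e he
      rw [List.any_eq_true] at h6
      obtain ⟨p, hp, h7⟩ := h6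
      rw [Nat.beq_eq] at h7
      exact ⟨p.2, by rw [← h7]; exact h5 p hp⟩

theorem A_1 : geo.A (phi (el P1)) := by
  obtain ⟨g, h⟩ := rep1A
  rw [h]
  exact A_conj' A_s

theorem one_A {v : ℕ} (hv : v < 2048) (hf : lin A1 v = v) (h : lin KK v = 0) :
    geo.A (V v * phi (el P1)) := by
  obtain ⟨-, r, hr⟩ := one_red hv hf
  rw [h] at hr
  rw [hr, conj_r act1']
  apply A_conj'
  show geo.A (V 0 * _)
  rw [V_zero, one_mul]
  exact A_1

theorem one_B {v : ℕ} (hv : v < 2048) (hf : lin A1 v = v) (h : lin KK v ≠ 0) :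
    geo.B (V v * phi (el P1)) := by
  obtain ⟨h8, r, hr⟩ := one_red hv hf
  obtain ⟨g, h1, -⟩ := rep1 h8 h
  generalize lin KK v = k at hr h1
  rw [hr, conj_r act1', h1]
  exact B_conj' (B_conj' B_d)

theorem fix1' {v : ℕ} (hv : v < 2048) (h : V v * phi (el P1) * (V v * phi (el P1)) = 1) :
    lin A1 v = v :=
  fix_of_sq act1' A1_lt phi1_sq hv h

theorem kap_A {v : ℕ} (hv : v < 2048) (h : geo.A (V v * phi (el P1))) :
    lin A1 v = v ∧ lin KK v = 0 := by
  have hf := fix1' hv (A_sq h)
  refine ⟨hf, ?_⟩
  by_contra h1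
  exact not_AB h (one_B hv hf h1)

theorem kap_B {v : ℕ} (hv : v < 2048) (h : geo.B (V v * phi (el P1))) :
    lin A1 v = v ∧ lin KK v ≠ 0 ∧ lin KK v < 8 := by
  have hf := fix1' hv (B_sq h)
  exact ⟨hf, fun h1 => not_AB (one_A hv hf h1) h, (one_red hv hf).1⟩

/-- elements in the point of a 2B element of type 1 -/
theorem one_pts (h4 : F4 geo) {g : 𝒢} {v : ℕ} {P : Subgroup 𝒢} (hv : v < 2048)
    (hB : geo.B (g * (V v * phi (el P1)) * g⁻¹)) (hP : geo.Pt P)
    (h : g * (V v * phi (el P1)) * g⁻¹ ∈ P) : ∀ e ∈ fano (lin KK v), g * V e * g⁻¹ ∈ P := by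
  obtain ⟨hf, h0, h8⟩ := kap_B hv (B_of_conj hB)
  obtain ⟨-, r, hr⟩ := one_red hv hf
  obtain ⟨k, h1, h2⟩ := rep1 h8 h0
  have h3 : g * (V v * phi (el P1)) * g⁻¹ = g * V r * k * V 5 * (g * V r * k)⁻¹ := by
    have e : V v * phi (el P1) = V r * (V (rp (lin KK v)) * phi (el P1)) * (V r)⁻¹ := by
      conv_lhs => rw [hr]
      rw [conj_r act1']
    rw [e, h1]
    group
  have h5 : cj (g * V r * k) 𝓔 = P := by
    refine uniq4 h4 hB ⟨_, rfl⟩ hP ?_ h
    rw [h3]
    exact mem_cj_V _ _
  intro e he
  obtain ⟨b, hb⟩ := h2 e he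
  rw [← h5]
  have e1 : g * V e * g⁻¹ = g * V r * k * V b * (g * V r * k)⁻¹ := by
    rw [← conj_V_V g r e, ← hb]
    group
  rw [e1]
  exact mem_cj_V _ _

end Cfsg.Agent.H705.JM.BadFacts
end
end

-- part: H541/JM/F13Data
section
set_option linter.all false
open scoped Cfsg.Agent.FastGrp

/-!
# Representatives of the 2B elements of `N(V)` outside `V` (`V = 2^11` in `J4`): data and kernel check

For each representative `u = β(v) m` (`m` an involution of `M24`) of class 2B the element `g = p w⁻¹` satisfies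
`u = g β(5) g⁻¹` (equations `eqsC`) and `β(a) g = g β(b)` (equations `eqsF`).
-/

set_option autoImplicit false

namespace Cfsg.Agent.H541.JM.F13Data

open Cfsg Cfsg.Agent.Lib Cfsg.Agent.Lib.F2MatGroup Cfsg.Agent.J4.Rep112 Cfsg.Agent.J4.Lower
open Cfsg.Agent.J4.LowerData Cfsg.Agent.J4.GroupLemmas Cfsg.Agent.J4.Beta
open Cfsg.Agent.J4.ClassesData Cfsg.Agent.J4.M24Hom Cfsg.Agent.J4.ClassesAbs Cfsg.Agent.J4.Classes
open Cfsg.Agent.J4.M24InvolData Cfsg.Agent.SporadicStructure.M24El

/-- equations `β(a) p w⁻¹ = p w⁻¹ β(b)` -/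
def eqsF : List (List ℕ × List ℕ) := [
  ([43, 44, 50, 32, 58, 56, 55, 57], [32, 58, 56, 55, 57, 45, 47, 49, 52]),
  ([45, 48, 49, 50, 28, 58, 56, 58], [28, 58, 56, 58, 43, 46, 47, 50, 51, 52]),
  ([42, 47, 50, 51, 24, 57, 58, 55, 57], [24, 57, 58, 55, 57, 42, 47, 52]),
  ([43, 44, 50, 20, 57, 58, 56], [20, 57, 58, 56, 44, 45, 47, 51, 52]),
  ([43, 44, 50, 16, 58, 56, 58], [16, 58, 56, 58, 42, 44, 45, 47]),
  ([42, 46, 47, 48, 50, 12, 58, 57, 58, 57, 58, 56], [12, 58, 57, 58, 57, 58, 56, 43, 45, 46, 50]),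
  ([43, 44, 45, 48, 49, 8, 58], [8, 58, 43, 44, 48, 49, 51]),
  ([44, 46, 4, 55, 56, 58, 56, 58], [4, 55, 56, 58, 56, 58, 42, 43, 45, 48, 49, 51, 52])]

/-- (type, v, index of u, index of p, word of `w⁻¹`, word of `w`, a, b) -/
def repsF : List (ℕ × ℕ × ℕ × ℕ × List ℕ × List ℕ × ℕ × ℕ) := [
  (1, 34, 35, 32, [58, 56, 55, 57], [56, 55, 57, 58], 262, 1192),
  (1, 517, 31, 28, [58, 56, 58], [58, 57, 58], 456, 1842),
  (1, 551, 27, 24, [57, 58, 55, 57], [56, 55, 58, 56], 801, 1057),
  (1, 1047, 23, 20, [57, 58, 56], [57, 58, 56], 262, 1580),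
  (1, 1077, 19, 16, [58, 56, 58], [58, 57, 58], 262, 45),
  (1, 1554, 15, 12, [58, 57, 58, 57, 58, 56], [57, 58, 56, 58, 56, 58], 369, 282),
  (1, 1584, 11, 8, [58], [58], 206, 710),
  (2, 0, 7, 4, [55, 56, 58, 56, 58], [58, 57, 58, 57, 55], 20, 1739)]

theorem checkF : check 112 codes (slpQ ++ slpC) eqsF [] = true := by decide +kernel

theorem eqF : ∀ p ∈ eqsF, evG LC p.1 = evG LC p.2 := by
  have h := (check_sound (n := 112) (by norm_num) codes_gens checkF).1
  rw [runG_append] at h
  exact h

/-- check of a representative -/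
def repOkF (E E' : List (List ℕ × List ℕ)) (im v : ℕ)
    (r : ℕ × ℕ × ℕ × ℕ × List ℕ × List ℕ × ℕ × ℕ) : Bool :=
  E.contains ([r.2.2.1], bw 11 42 v ++ [im]) &&
    E.contains ([r.2.2.1, r.2.2.2.1], [r.2.2.2.1] ++ r.2.2.2.2.1 ++ [40] ++ r.2.2.2.2.2.1) &&
    E.contains (r.2.2.2.2.1 ++ r.2.2.2.2.2.1, []) &&
    E'.contains (bw 11 42 r.2.2.2.2.2.2.1 ++ [r.2.2.2.1] ++ r.2.2.2.2.1,
      [r.2.2.2.1] ++ r.2.2.2.2.1 ++ bw 11 42 r.2.2.2.2.2.2.2) &&
    Nat.blt 0 r.2.2.2.2.2.2.1 && Nat.blt r.2.2.2.2.2.2.1 2048

/-- `u` is conjugate to `β(1024)`, or to `β(5)` by an element `g` with `β(a)^g = β(b)`, `a ≠ 0` -/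
def GoodF {G : Type*} [Group G] (l : List G) (R : Subgroup G) (u : G) : Prop :=
  (∃ g ∈ R, g * u * g⁻¹ = beta l 1024) ∨
    ∃ g ∈ R, g * u * g⁻¹ = beta l 5 ∧ ∃ z ∈ Subgroup.closure {q | q ∈ l}, z ≠ 1 ∧
      g * z * g⁻¹ ∈ Subgroup.closure {q | q ∈ l}

section Abs

variable {G : Type*} [Group G] {L l : List G}

theorem goodF_of_conj {R : Subgroup G} {u : G} {n : G} (hn : n ∈ R)
    (hn2 : n ∈ Subgroup.normalizer ((Subgroup.closure {q | q ∈ l} : Subgroup G) : Set G))
    (h : GoodF l R (n * u * n⁻¹)) : GoodF l R u := by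
  rcases h with ⟨g, hg, h1⟩ | ⟨g, hg, h1, z, hz, hz1, h2⟩
  · refine Or.inl ⟨g * n, R.mul_mem hg hn, ?_⟩
    rw [← h1]; group
  · refine Or.inr ⟨g * n, R.mul_mem hg hn, ?_, n⁻¹ * z * n, ?_, ?_, ?_⟩
    · rw [← h1]; group
    · have h3 := (Subgroup.mem_normalizer_iff.1 (Subgroup.inv_mem _ hn2) z).1 hz
      rwa [inv_inv] at h3
    · intro h3
      apply hz1
      calc z = n * (n⁻¹ * z * n) * n⁻¹ := by group
        _ = 1 := by rw [h3]; group
    · have e : g * n * (n⁻¹ * z * n) * (g * n)⁻¹ = g * z * g⁻¹ := by group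
      rwa [e]

theorem abs_repF (hl : l.length = 11) (hL : ∀ k < 11, getG L (42 + k) = l.getD k 1)
    (hsq : ∀ q ∈ l, q * q = 1) (hcomm : ∀ a ∈ l, ∀ b ∈ l, a * b = b * a) (hind : Ind l)
    {R : Subgroup G} (hR : ∀ g ∈ L, g ∈ R)
    {E E' : List (List ℕ × List ℕ)} (hE : ∀ p ∈ E, evG L p.1 = evG L p.2)
    (hE' : ∀ p ∈ E', evG L p.1 = evG L p.2) (hD : getG L 40 = beta l 5)
    {im v : ℕ} {r : ℕ × ℕ × ℕ × ℕ × List ℕ × List ℕ × ℕ × ℕ} (h : repOkF E E' im v r = true) :
    GoodF l R (beta l v * getG L im) := by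
  unfold repOkF at h
  rw [Bool.and_eq_true, Bool.and_eq_true, Bool.and_eq_true, Bool.and_eq_true, Bool.and_eq_true,
    List.contains_iff_mem, List.contains_iff_mem, List.contains_iff_mem, List.contains_iff_mem,
    Nat.blt_eq, Nat.blt_eq] at h
  obtain ⟨⟨⟨⟨⟨h1, h2⟩, h3⟩, h4⟩, h5⟩, h6⟩ := h
  have e1 := hE _ h1
  have e2 := hE _ h2
  have e3 := hE _ h3
  have e4 := hE' _ h4
  simp only [evG_append, evG_single, abs_bw hl hL] at e1
  simp only [evG_append, evG_single, evG_cons, evG_nil, mul_one] at e2
  simp only [evG_append, evG_nil] at e3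
  simp only [evG_append, evG_single, evG_cons, evG_nil, mul_one, abs_bw hl hL] at e4
  rw [← e1]
  have hu : getG L r.2.2.1 ∈ R := getG_mem R hR _
  have hp : getG L r.2.2.2.1 ∈ R := getG_mem R hR _
  have hw : evG L r.2.2.2.2.2.1 ∈ R := evG_mem R hR _
  have hw' : evG L r.2.2.2.2.1 = (evG L r.2.2.2.2.2.1)⁻¹ := eq_inv_of_mul_eq_one_left e3
  rw [hw'] at e2 e4
  generalize getG L r.2.2.1 = u at *
  generalize getG L r.2.2.2.1 = p at *
  generalize evG L r.2.2.2.2.2.1 = w at *
  have hmem : ∀ v, beta l v ∈ Subgroup.closure {q | q ∈ l} := fun v =>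
    beta_mem _ l (fun a ha => Subgroup.subset_closure ha) v
  refine Or.inr ⟨w * p⁻¹, R.mul_mem hw (R.inv_mem hp), ?_, beta l r.2.2.2.2.2.2.1, hmem _, ?_, ?_⟩
  · rw [← hD]
    have : w * p⁻¹ * u * (w * p⁻¹)⁻¹ = w * p⁻¹ * (u * p) * w⁻¹ := by group
    rw [this, e2]; group
  · intro h0
    have h7 : r.2.2.2.2.2.2.1 = 0 := by
      refine beta_inj hsq hcomm hind ?_ ?_ (h0.trans (beta_zero l).symm)
      · rw [hl]; exact h6
      · rw [hl]; norm_num
    omega
  · have : w * p⁻¹ * beta l r.2.2.2.2.2.2.1 * (w * p⁻¹)⁻¹ =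
        w * p⁻¹ * (beta l r.2.2.2.2.2.2.1 * p * w⁻¹) := by group
    rw [this, e4]
    have e5 : w * p⁻¹ * (p * w⁻¹ * beta l r.2.2.2.2.2.2.2) = beta l r.2.2.2.2.2.2.2 := by group
    rw [e5]
    exact hmem _

end Abs

theorem repsFok1 : ([34, 517, 551, 1047, 1077, 1554, 1584].all fun v =>
    repsF.any fun r => repOkF eqsC eqsF 41 v r) = true := by decide +kernel
theorem repsFok2 : ([0].all fun v => repsF.any fun r => repOkF eqsC eqsF 55 v r) = true := by
  decide +kernel
theorem repsAok1 : ([0].all fun v => reps.any fun r =>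
    Nat.beq r.2.2.2.2.2.2 52 && repOk eqsC 41 v r) = true := by decide +kernel
theorem repsAok2 : ([5].all fun v => reps.any fun r =>
    Nat.beq r.2.2.2.2.2.2 52 && repOk eqsC 55 v r) = true := by
  decide +kernel

end Cfsg.Agent.H541.JM.F13Data
end

-- part: H860/JM/PartOne
section
prune_inst 0x4201000300000000000001000002060400000000008000100a0050200010001000000003a000702112088200008000000000019401000002000020040000000002022860000a00020000000b801180c00000000000000000000000000000000000000000
set_option linter.all false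
open scoped Cfsg.Agent.FastGrp

-- part: H322/JM/CaseB
section
/-!
# S5580, the maximal 2-local subgroups of `J4`: case B (helper322, task 3789)

`E = Ω₁(Z(O₂(M)))` contains elements of class 2B.
-/

set_option autoImplicit false

namespace Cfsg.Agent.H322.JM

open Cfsg.Agent.H860.JM Subgroup

section

variable {G : Type*} [Group G] [Finite G]

/-- the product formula -/
theorem card_mul_le {H K L : Subgroup G} (hH : H ≤ L) (hK : K ≤ L) :
    Nat.card H * Nat.card K ≤ Nat.card L * Nat.card (H ⊓ K : Subgroup G) := by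
  have h1 : Nat.card (H ⊓ K : Subgroup G) * K.relIndex H = Nat.card H := by
    rw [← inf_relIndex_left, ← relIndex_bot_left (H ⊓ K), relIndex_mul_relIndex _ _ _ bot_le inf_le_left,
      relIndex_bot_left]
  have h2 : Nat.card K * K.relIndex L = Nat.card L := by
    rw [← relIndex_bot_left K, relIndex_mul_relIndex _ _ _ bot_le hK, relIndex_bot_left]
  have h3 : K.relIndex H ≤ K.relIndex L := relIndex_le_of_le_right hH (index_ne_zero_of_finite (H := K.subgroupOf L))
  rw [← h1, ← h2]
  calc Nat.card (H ⊓ K : Subgroup G) * K.relIndex H * Nat.card K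
      ≤ Nat.card (H ⊓ K : Subgroup G) * K.relIndex L * Nat.card K := by gcongr
    _ = _ := by ring

end

section

variable {G : Type*} [Group G]

/-- `m` normalizes the normalized groups -/
theorem cj_eq {m : G} {H : Subgroup G} (h : m ∈ normalizer (H : Set G)) : cj m H = H := by
  ext x
  rw [Subgroup.mem_map_equiv, MulAut.conj_symm_apply]
  have h1 := (mem_normalizer_iff.1 h) (m⁻¹ * x * m)
  rw [show m * (m⁻¹ * x * m) * m⁻¹ = x by group] at h1
  exact h1

theorem mem_cj {m x : G} {H : Subgroup G} (h : x ∈ H) : m * x * m⁻¹ ∈ cj m H :=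
  ⟨x, h, rfl⟩

theorem card_cj (m : G) (H : Subgroup G) : Nat.card (cj m H) = Nat.card H :=
  Subgroup.card_map_of_injective (MulAut.conj m).injective

theorem cj_inf (m : G) (H K : Subgroup G) : cj m (H ⊓ K) = cj m H ⊓ cj m K :=
  Subgroup.map_inf _ _ _ (MulAut.conj m).injective

/-- the normalizers of the conjugates -/
theorem le_norm_cj {m : G} {Q P : Subgroup G} (hm : m ∈ normalizer (Q : Set G)) (h : Q ≤ normalizer (P : Set G)) :
    Q ≤ normalizer ((cj m P : Subgroup G) : Set G) := by
  intro x hx
  have h1 : m⁻¹ * x * m ∈ Q := by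
    have h2 := (mem_normalizer_iff.1 hm) (m⁻¹ * x * m)
    rw [show m * (m⁻¹ * x * m) * m⁻¹ = x by group] at h2
    exact h2.2 hx
  rw [mem_normalizer_iff]
  intro y
  rw [Subgroup.mem_map_equiv, Subgroup.mem_map_equiv, MulAut.conj_symm_apply, MulAut.conj_symm_apply]
  have h3 := (mem_normalizer_iff.1 (h h1)) (m⁻¹ * y * m)
  rw [h3, show m⁻¹ * x * m * (m⁻¹ * y * m) * (m⁻¹ * x * m)⁻¹ = m⁻¹ * (x * y * x⁻¹) * m by group]

end

variable {G : Type*} [Group G] [Finite G] {Γ : Geom G}

/-- the orders of the lines and the intersections -/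
theorem ne_bot_of_mem {P : Subgroup G} {t : G} (ht : t ∈ P) (h1 : t ≠ 1) : P ≠ ⊥ := by
  rintro rfl
  exact h1 (mem_bot.1 ht)

/-- **case B** -/
theorem caseB (Γ : Geom G) (h : Facts Γ) (_hLL : LL Γ) (hPT : PT Γ) (hL3 : L3 Γ) : CaseB Γ := by
  rintro M Q E hl ⟨t, htE, htB⟩
  -- the points of the 2B elements of `E`
  have hQ : ∀ e P, e ∈ E → Γ.B e → Γ.Pt P → e ∈ P → Q ≤ normalizer (P : Set G) := by
    intro e P he hB hP heP
    obtain ⟨P', -, -, hu, hc⟩ := h.f4 e hB
    rw [hu P hP heP]
    refine le_trans (fun x hx => ?_) hc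
    rw [mem_centralizer_singleton_iff]
    exact hl.cent x hx e he
  have hne : ∀ e, Γ.B e → e ≠ 1 := fun e he => (h.f1.B_inv e he).1
  have hneA : ∀ e, Γ.A e → e ≠ 1 := fun e he => (h.f1.A_inv e he).1
  set BB : Set (Subgroup G) := {P | Γ.Pt P ∧ ∃ e ∈ E, Γ.B e ∧ e ∈ P} with hBB
  have hBBinv : Inv M BB := by
    rintro m hm P ⟨hP, e, he, hB, heP⟩
    exact ⟨h.f1.Pt_conj m P hP, m * e * m⁻¹, (mem_normalizer_iff.1 (hl.normE hm) e).1 he, h.f1.B_conj m e hB,
      mem_cj heP⟩
  have hBBpt : ∀ P ∈ BB, Γ.Pt P := fun P hP => hP.1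
  have hBBQ : ∀ P ∈ BB, Γ.Pt P ∧ Q ≤ normalizer (P : Set G) := by
    rintro P ⟨hP, e, he, hB, heP⟩
    exact ⟨hP, hQ e P he hB hP heP⟩
  have hBBne : BB.Nonempty := by
    obtain ⟨P, hP, ht, -, -⟩ := h.f4 t htB
    exact ⟨P, hP, t, htE, htB, ht⟩
  have hBBbot : ∀ P ∈ BB, P ≠ ⊥ := by
    rintro P ⟨hP, e, he, hB, heP⟩
    exact ne_bot_of_mem heP (hne e hB)
  have hBB2 : ∀ P ∈ BB, ∀ P' ∈ BB, P ⊓ P' ≠ ⊥ := by
    rintro P ⟨hP, e, he, hB, heP⟩ P' ⟨hP', e', he', hB', heP'⟩
    exact h.f13 P P' e' hP hP' (hQ e P he hB hP heP (hl.E_le he')) hB' heP'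
  by_cases hbot : sInf BB ≠ ⊥
  · exact hPT M BB hBBinv hBBpt hBBne hbot
  rw [not_not] at hbot
  by_cases h3 : ∀ P ∈ BB, ∀ P' ∈ BB, ∀ P'' ∈ BB, P ⊓ P' ⊓ P'' ≠ ⊥
  · -- all triples meet
    refine hL3 M Q E hl BB hBBinv hBBQ ?_ h3 ?_ hbot
    · intro P hP P' hP' hPP
      rcases h.f5 P P' hP.1 hP'.1 hPP with h4 | ⟨z, hz, hz'⟩ | h4
      · exact absurd h4 (hBB2 P hP P' hP')
      · exfalso
        have h5 : z ∈ sInf BB := by
          rw [Subgroup.mem_sInf]
          intro P'' hP''
          obtain ⟨⟨x, hx⟩, hx1'⟩ := Subgroup.ne_bot_iff_exists_ne_one.1 (h3 P hP P' hP' P'' hP'')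
          have hx1 : x ≠ 1 := fun e => hx1' (Subtype.ext e)
          rcases (hz' x).1 (Subgroup.mem_inf.1 hx).1 with h6 | h6
          · exact absurd h6 hx1
          · rw [← h6]
            exact (Subgroup.mem_inf.1 hx).2
        rw [hbot] at h5
        exact hneA z hz (mem_bot.1 h5)
      · exact h4
    · by_contra hcon
      push Not at hcon
      obtain ⟨P, hP⟩ := hBBne
      have h4 : BB = {P} := Set.eq_singleton_iff_unique_mem.2 ⟨hP, fun P' hP' => hcon P' hP' P hP⟩
      rw [h4, sInf_singleton] at hbot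
      exact hBBbot P hP hbot
  · -- a triple with trivial intersection
    push Not at h3
    obtain ⟨Pa, ⟨hPa, a, ha, haB, haP⟩, Pb, ⟨hPb, b, hb, hbB, hbP⟩, Pc, ⟨hPc, c, hc, hcB, hcP⟩, habc⟩ := h3
    obtain ⟨P₀, K, hP₀, hKP, hK32, ⟨e₀, he₀, he₀B⟩, hKc⟩ := h.f18 a b c haB hbB hcB (hl.el.comm a ha b hb)
      (hl.el.comm a ha c hc) (hl.el.comm b hb c hc) Pa Pb Pc hPa hPb hPc haP hbP hcP habc
    have hKE : K ≤ E := by
      intro x hx
      refine hl.mem x ((h.f3.el P₀ hP₀).sq x (hKP hx)) fun y hy => ?_
      exact (hKc x hx y (hl.cent y hy a ha) (hl.cent y hy b hb) (hl.cent y hy c hc)).symm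
    set S : Set (Subgroup G) := {P | Γ.Pt P ∧ Q ≤ normalizer (P : Set G) ∧ 32 ≤ Nat.card (E ⊓ P : Subgroup G)} with hS
    have hSinv : Inv M S := by
      rintro m hm P ⟨hP, hPQ, hPE⟩
      refine ⟨h.f1.Pt_conj m P hP, le_norm_cj (hl.normQ hm) hPQ, ?_⟩
      rwa [← cj_eq (hl.normE hm), ← cj_inf, card_cj]
    have hP₀S : P₀ ∈ S := by
      refine ⟨hP₀, hQ e₀ P₀ (hKE he₀) he₀B hP₀ (hKP he₀), hK32.trans ?_⟩
      exact Subgroup.card_le_of_le (le_inf hKE hKP)
    have hSpt : ∀ P ∈ S, Γ.Pt P := fun P hP => hP.1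
    have hSbot : ∀ P ∈ S, P ≠ ⊥ := by
      rintro P ⟨hP, -, h4⟩ rfl
      rw [inf_bot_eq, Subgroup.card_bot] at h4
      omega
    by_cases hSi : sInf S ≠ ⊥
    · exact hPT M S hSinv hSpt ⟨P₀, hP₀S⟩ hSi
    rw [not_not] at hSi
    by_cases h8 : ∃ P ∈ S, 8 * Nat.card (E ⊓ P : Subgroup G) ≤ Nat.card E
    · -- `Q = X`
      obtain ⟨P, ⟨hP, hPQ, hPE⟩, h8⟩ := h8
      obtain ⟨X, hX, hEX⟩ := h.f16 P E hP hl.el (hl.E_le.trans hPQ) hPE h8
      have hQX : Q ≤ X := by
        refine le_trans (fun x hx => ?_) hEX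
        rw [mem_centralizer_iff]
        intro e he
        exact (hl.cent x hx e he).symm
      have hXQ : X ≤ Q := by
        refine le_trans (fun x hx => ?_) hl.self
        rw [mem_centralizer_iff]
        intro y hy
        exact (h.f3.elX X hX).comm y (hQX hy) x hx
      refine Or.inr (Or.inr (Or.inr ⟨X, hX, ?_⟩))
      rw [← le_antisymm hQX hXQ]
      exact hl.normQ
    push Not at h8
    -- two members of `S`
    have key : ∀ P ∈ S, ∀ P' ∈ S, P ≠ P' → Γ.Ln (P ⊓ P') ∧ P ⊓ P' ≤ E ∧ Nat.card (E ⊓ P : Subgroup G) < 64 := by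
      intro P hP P' hP' hPP
      have h4 := card_mul_le (H := E ⊓ P) (K := E ⊓ P') (L := E) inf_le_left inf_le_left
      have h5 := h8 P' hP'
      have h6 : (E ⊓ P) ⊓ (E ⊓ P') = E ⊓ (P ⊓ P') := by
        rw [← inf_inf_distrib_left]
      rw [h6] at h4
      have h7 : Nat.card (E ⊓ P : Subgroup G) < 8 * Nat.card (E ⊓ (P ⊓ P') : Subgroup G) := by
        have h9 : Nat.card (E ⊓ P : Subgroup G) * Nat.card (E ⊓ P' : Subgroup G) <
            8 * Nat.card (E ⊓ (P ⊓ P') : Subgroup G) * Nat.card (E ⊓ P' : Subgroup G) := by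
          refine h4.trans_lt ?_
          calc Nat.card E * Nat.card (E ⊓ (P ⊓ P') : Subgroup G) <
              8 * Nat.card (E ⊓ P' : Subgroup G) * Nat.card (E ⊓ (P ⊓ P') : Subgroup G) :=
                Nat.mul_lt_mul_of_pos_right h5 Nat.card_pos
            _ = _ := by ring
        exact lt_of_mul_lt_mul_right h9 (Nat.zero_le _)
      have h9 := hP.2.2
      have h10 : 4 < Nat.card (E ⊓ (P ⊓ P') : Subgroup G) := by omega
      have h11 : P ⊓ P' ≠ ⊥ := by
        intro h12
        rw [h12, inf_bot_eq, Subgroup.card_bot] at h10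
        omega
      have h12 : Nat.card (E ⊓ (P ⊓ P') : Subgroup G) ∣ Nat.card (P ⊓ P' : Subgroup G) :=
        Subgroup.card_dvd_of_le inf_le_right
      rcases h.f5 P P' hP.1 hP'.1 hPP with h13 | ⟨z, hz, hz'⟩ | h13
      · exact absurd h13 h11
      · exfalso
        have h14 : Nat.card (P ⊓ P' : Subgroup G) ≤ 2 := by
          have h15 : ((P ⊓ P' : Subgroup G) : Set G) ⊆ {1, z} := by
            intro x hx
            exact (hz' x).1 hx
          have h16 := Set.ncard_le_ncard h15 (Set.toFinite _)
          have h17 := Set.ncard_insert_le (1 : G) {z}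
          rw [Set.ncard_singleton] at h17
          have h18 : Nat.card (P ⊓ P' : Subgroup G) = ((P ⊓ P' : Subgroup G) : Set G).ncard := rfl
          omega
        have := Nat.le_of_dvd Nat.card_pos h12
        omega
      · have h14 := h.f6.card _ h13
        have h15 : Nat.card (E ⊓ (P ⊓ P') : Subgroup G) = 8 := by
          rw [h14] at h12
          have h16 := Nat.le_of_dvd (by norm_num) h12
          interval_cases h17 : Nat.card (E ⊓ (P ⊓ P') : Subgroup G) <;> omega
        refine ⟨h13, ?_, by omega⟩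
        have h16 : E ⊓ (P ⊓ P') = P ⊓ P' := Subgroup.eq_of_le_of_card_ge inf_le_right (by rw [h14, h15])
        rw [← h16]
        exact inf_le_left
    have key3 : ∀ P ∈ S, ∀ P' ∈ S, ∀ P'' ∈ S, P ⊓ P' ⊓ P'' ≠ ⊥ := by
      have h2 : ∀ P ∈ S, ∀ P' ∈ S, P ⊓ P' ≠ ⊥ := by
        intro P hP P' hP'
        by_cases hPP : P = P'
        · rw [hPP, inf_idem]
          exact hSbot P' hP'
        · obtain ⟨h4, -, -⟩ := key P hP P' hP' hPP
          intro h5
          have h6 := h.f6.card _ h4
          rw [h5, Subgroup.card_bot] at h6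
          omega
      intro P hP P' hP' P'' hP''
      by_cases h4 : P = P'
      · rw [h4, inf_idem]
        exact h2 P' hP' P'' hP''
      by_cases h5 : P = P''
      · rw [inf_right_comm, h5, inf_idem]
        exact h2 P'' hP'' P' hP'
      obtain ⟨h6, h7, h8⟩ := key P hP P' hP' h4
      obtain ⟨h9, h10, -⟩ := key P hP P'' hP'' h5
      have h11 := card_mul_le (H := P ⊓ P') (K := P ⊓ P'') (L := E ⊓ P) (le_inf h7 inf_le_left)
        (le_inf h10 inf_le_left)
      rw [h.f6.card _ h6, h.f6.card _ h9] at h11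
      intro h12
      have h13 : (P ⊓ P') ⊓ (P ⊓ P'') = ⊥ := by
        rw [← inf_inf_distrib_left, ← inf_assoc, h12]
      rw [h13, Subgroup.card_bot] at h11
      omega
    refine hL3 M Q E hl S hSinv (fun P hP => ⟨hP.1, hP.2.1⟩) (fun P hP P' hP' hPP => (key P hP P' hP' hPP).1) key3
      ?_ hSi
    by_contra hcon
    push Not at hcon
    have h4 : S = {P₀} := Set.eq_singleton_iff_unique_mem.2 ⟨hP₀S, fun P' hP' => hcon P' hP' P₀ hP₀S⟩
    rw [h4, sInf_singleton] at hSi
    exact hSbot P₀ hP₀S hSi

end Cfsg.Agent.H322.JM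
end

-- part: H546/JM/CaseA
section
/-!
# The 2-local geometry of `J4`: case A (helper546, for S5580)

`caseA` : if `E = Ω₁(Z(O₂(M)))` is pure 2A then `M` is in one of the four 2-local subgroups.
-/

set_option autoImplicit false
set_option linter.unusedSectionVars false

namespace Cfsg.Agent.H546.JM

open Cfsg.Agent.H860.JM Subgroup

variable {G : Type*} [Group G] {Γ : Geom G}

theorem mem_cj {g x : G} {H : Subgroup G} : x ∈ cj g H ↔ g⁻¹ * x * g ∈ H := by
  constructor
  · rintro ⟨y, hy, rfl⟩
    have h : g⁻¹ * (MulAut.conj g).toMonoidHom y * g = y := by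
      show g⁻¹ * (g * y * g⁻¹) * g = y
      group
    rw [h]
    exact hy
  · intro h
    refine ⟨_, h, ?_⟩
    show g * (g⁻¹ * x * g) * g⁻¹ = x
    group

theorem conj_mem_cj {g x : G} {H : Subgroup G} (h : x ∈ H) : g * x * g⁻¹ ∈ cj g H := ⟨x, h, rfl⟩

/-- an element commuting with `g` -/
theorem mem_cj_of_comm {g x : G} {H : Subgroup G} (h : x ∈ H) (hc : g * x = x * g) : x ∈ cj g H := by
  have h1 := conj_mem_cj (g := g) h
  rwa [hc, mul_inv_cancel_right] at h1

theorem mem_normalizer_of_cj {g : G} {H : Subgroup G} (h : cj g H = H) : g ∈ normalizer (H : Set G) := by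
  rw [mem_normalizer_iff]
  intro x
  constructor
  · intro hx
    have h1 := conj_mem_cj (g := g) hx
    rwa [h] at h1
  · intro hx
    have h1 : g * x * g⁻¹ ∈ cj g H := by rw [h]; exact hx
    rw [mem_cj] at h1
    have h2 : g⁻¹ * (g * x * g⁻¹) * g = x := by group
    rwa [h2] at h1

theorem cj_of_mem_normalizer {g : G} {H : Subgroup G} (h : g ∈ normalizer (H : Set G)) : cj g H = H := by
  rw [mem_normalizer_iff] at h
  ext x
  rw [mem_cj, h]
  have h2 : g * (g⁻¹ * x * g) * g⁻¹ = x := by group
  rw [h2]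

theorem El.inv_eq {E : Subgroup G} (h : El E) {a : G} (ha : a ∈ E) : a⁻¹ = a :=
  inv_eq_of_mul_eq_one_left (h.sq a ha)

/-- `M` normalizes `E` -/
theorem conj_mem {M E : Subgroup G} (h : M ≤ normalizer (E : Set G)) {m u : G} (hm : m ∈ M) (hu : u ∈ E) :
    m * u * m⁻¹ ∈ E := (mem_normalizer_iff.1 (h hm) u).1 hu

theorem TyA.symm {z w : G} (h : TyA Γ z w) : TyA Γ w z := by
  obtain ⟨D, hD, h1, h2⟩ := h
  exact ⟨D, hD, h2, h1⟩

theorem TyA.conj (f1 : F1 Γ) {z w : G} (h : TyA Γ z w) (g : G) : TyA Γ (g * z * g⁻¹) (g * w * g⁻¹) := by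
  obtain ⟨D, hD, h1, h2⟩ := h
  exact ⟨cj g D, f1.Ln_conj g D hD, conj_mem_cj h1, conj_mem_cj h2⟩

section

variable (h : Facts Γ) {M Q E : Subgroup G} (hl : Loc M Q E) (hE : ∀ u ∈ E, u ≠ 1 → Γ.A u)
include h

/-- two points with two different nontrivial elements in common -/
theorem line_of_two {P P' : Subgroup G} (hP : Γ.Pt P) (hP' : Γ.Pt P') (hne : P ≠ P') {u v : G} (hu : u ≠ 1)
    (hv : v ≠ 1) (huv : u ≠ v) (u1 : u ∈ P) (u2 : u ∈ P') (v1 : v ∈ P) (v2 : v ∈ P') : Γ.Ln (P ⊓ P') := by
  rcases h.f5 P P' hP hP' hne with h1 | ⟨z, -, hz⟩ | h1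
  · exfalso
    have h2 : u ∈ P ⊓ P' := ⟨u1, u2⟩
    rw [h1, mem_bot] at h2
    exact hu h2
  · exfalso
    rcases (hz u).1 ⟨u1, u2⟩ with h2 | h2
    · exact hu h2
    · rcases (hz v).1 ⟨v1, v2⟩ with h3 | h3
      · exact hv h3
      · exact huv (h2.trans h3.symm)
  · exact h1

include hl hE in
theorem mul_ne_one {u v : G} (hu : u ∈ E) (huv : u ≠ v) : u * v ≠ 1 := by
  intro h1
  apply huv
  rw [mul_eq_one_iff_eq_inv] at h1
  rw [← El.inv_eq hl.el hu, h1, inv_inv]

include hl hE in
/-- elements of `E ⊓ P` are in `F_w` -/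
theorem mem_Fs {P : Subgroup G} {u w : G} (hu : u ∈ E) (huP : u ∈ P) (hw : w ∈ E) (hwP : w ∉ P) :
    u ∈ Fs Γ P w := by
  refine ⟨huP, hl.el.comm u hu w hw, ?_⟩
  by_cases h1 : u = 1
  · exact Or.inl h1
  · right
    refine ⟨hE u hu h1, hE (u * w) (E.mul_mem hu hw) (mul_ne_one h hl hE hu ?_)⟩
    rintro rfl
    exact hwP huP

include hl hE in
theorem act {P : Subgroup G} {w : G} (hn : E ≤ normalizer (P : Set G)) (hw : w ∈ E) (hwP : w ∉ P) :
    Act Γ P w :=
  ⟨hn hw, hwP, hE w hw (fun h1 => hwP (h1 ▸ P.one_mem))⟩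

include hl hE in
/-- A1: a pair of type b -/
theorem caseA1 [Finite G] (hno : ∀ P, Γ.Pt P → ¬ E ≤ P) {b b' : G} (hb : b ∈ E) (hb' : b' ∈ E) (hb1 : b ≠ 1)
    (hb1' : b' ≠ 1) (hbb : b ≠ b') (hty : ¬ TyA Γ b b') : Good Γ M := by
  have f1 := h.f1
  obtain ⟨P, hP, hbP, hbP'⟩ := h.f7 b b' (hE b hb hb1) (hE b' hb' hb1') (hl.el.comm b hb b' hb')
    (hE _ (E.mul_mem hb hb') (mul_ne_one h hl hE hb hbb))
  have huniq : ∀ P', Γ.Pt P' → b ∈ P' → b' ∈ P' → P' = P := by
    intro P' hP' h1 h2
    by_contra hne
    exact hty ⟨_, line_of_two h hP' hP hne hb1 hb1' hbb h1 hbP h2 hbP', ⟨h1, hbP⟩, ⟨h2, hbP'⟩⟩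
  have hcomm : ∀ y : G, y * b = b * y → y * b' = b' * y → y ∈ normalizer (P : Set G) := by
    intro y h1 h2
    exact mem_normalizer_of_cj (huniq _ (f1.Pt_conj y P hP) (mem_cj_of_comm hbP h1) (mem_cj_of_comm hbP' h2))
  have hEN : E ≤ normalizer (P : Set G) := fun e he => hcomm e (hl.el.comm e he b hb) (hl.el.comm e he b' hb')
  have hPel := h.f3.el P hP
  -- kind B
  have hKB : ∀ e ∈ E, e ∉ P → KB Γ P e := by
    intro e he heP
    rcases h.f9.kind P e hP (act h hl hE hEN he heP) with hk | hk
    · exfalso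
      obtain ⟨P', hP', h1, h2, h3⟩ := hk.pt b (mem_Fs h hl hE hb hbP he heP) b' (mem_Fs h hl hE hb' hbP' he heP)
      exact heP ((huniq P' hP' h1 h2) ▸ h3)
    · exact hk
  -- the elements `x_e`
  have hx : ∀ e ∈ E, e ∉ P → ∃ x ∈ E, IsX Γ P e x ∧ (∀ y, IsX Γ P e y → y = x) ∧ ∀ v ∈ Fs Γ P e, TyA Γ x v := by
    intro e he heP
    obtain ⟨x, hx, hu, ht⟩ := (hKB e he heP).ex
    refine ⟨x, hl.mem x (hPel.sq x hx.mem.1) ?_, hx, hu, ht⟩
    intro q hq
    have hqe : ∀ u ∈ E, q * u * q⁻¹ = u := by
      intro u hu'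
      rw [hl.cent q hq u hu', mul_inv_cancel_right]
    have hqP : q ∈ normalizer (P : Set G) := hcomm q (hl.cent q hq b hb) (hl.cent q hq b' hb')
    have h1 : IsX Γ P e (q * x * q⁻¹) := by
      refine ⟨⟨(mem_normalizer_iff.1 hqP x).1 hx.mem.1, ?_, ?_⟩, ?_, ?_⟩
      · calc q * x * q⁻¹ * e = q * x * q⁻¹ * (q * e * q⁻¹) := by rw [hqe e he]
          _ = q * (x * e) * q⁻¹ := by group
          _ = q * (e * x) * q⁻¹ := by rw [hx.mem.2.1]
          _ = (q * e * q⁻¹) * (q * x * q⁻¹) := by group
          _ = e * (q * x * q⁻¹) := by rw [hqe e he]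
      · right
        obtain ⟨a1, a2⟩ := hx.mem.2.2.resolve_left hx.ne
        refine ⟨f1.A_conj q x a1, ?_⟩
        have h2 : q * x * q⁻¹ * e = q * (x * e) * q⁻¹ := by
          calc q * x * q⁻¹ * e = q * x * q⁻¹ * (q * e * q⁻¹) := by rw [hqe e he]
            _ = q * (x * e) * q⁻¹ := by group
        rw [h2]
        exact f1.A_conj q _ a2
      · intro h2
        apply hx.ne
        have h3 : x = q⁻¹ * (q * x * q⁻¹) * q := by group
        rw [h3, h2, mul_one, inv_mul_cancel]
      · have h2 := TyA.conj f1 hx.tyA q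
        rwa [hqe e he] at h2
    have h2 := hu _ h1
    exact mul_inv_eq_iff_eq_mul.1 h2
  obtain ⟨e₀, he₀, he₀P⟩ : ∃ e ∈ E, e ∉ P := by
    by_contra hcon
    push Not at hcon
    exact hno P hP hcon
  obtain ⟨x, hxE, hx0, hxu, hxt⟩ := hx e₀ he₀ he₀P
  -- the elements `x_e` are equal
  have hall : ∀ e ∈ E, e ∉ P → IsX Γ P e x := by
    intro e he heP
    obtain ⟨x', hxE', hx', hxu', -⟩ := hx e he heP
    by_cases hee : e₀ * e ∈ P
    · have h1 : e₀⁻¹ * e ∈ P := by rwa [El.inv_eq hl.el he₀]
      have h2 := h.f9.x_eq P e₀ e x x' hP (hKB e₀ he₀ he₀P) (hKB e he heP) h1 hx0 hx'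
      rw [h2]
      exact hx'
    · have heE := E.mul_mem he₀ he
      obtain ⟨x'', hxE'', hx'', -, -⟩ := hx (e₀ * e) heE hee
      have h2 := h.f11 P E hP hl.el hE hEN b b' hb hb' hbP hbP' hb1 hb1' hbb hty e₀ e he₀ he he₀P heP hee
        (hKB e₀ he₀ he₀P) (hKB e he heP) (hKB _ heE hee) x x' x'' hx0 hx' hx'' hxE hxE' hxE''
      rw [h2]
      exact hx'
  have hxP : x ∈ P := hx0.mem.1
  have hty_all : ∀ u ∈ E, TyA Γ x u := by
    intro u hu
    by_cases huP : u ∈ P
    · exact hxt u (mem_Fs h hl hE hu huP he₀ he₀P)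
    · exact (hall u hu huP).tyA
  have hx_uniq : ∀ x' ∈ E, x' ≠ 1 → (∀ u ∈ E, TyA Γ x' u) → x' = x := by
    intro x' hx'E hx'1 hx't
    by_cases hx'P : x' ∈ P
    · exact hxu x' ⟨mem_Fs h hl hE hx'E hx'P he₀ he₀P, hx'1, hx't e₀ he₀⟩
    · exfalso
      obtain ⟨y, -, -, hyu, -⟩ := hx x' hx'E hx'P
      have h1 : b = y := hyu b ⟨mem_Fs h hl hE hb hbP hx'E hx'P, hb1, TyA.symm (hx't b hb)⟩
      have h2 : b' = y := hyu b' ⟨mem_Fs h hl hE hb' hbP' hx'E hx'P, hb1', TyA.symm (hx't b' hb')⟩
      exact hbb (h1.trans h2.symm)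
  refine Or.inl ⟨x, hE x hxE hx0.ne, fun m hm => ?_⟩
  rw [mem_centralizer_singleton_iff]
  have h1 : m * x * m⁻¹ = x := by
    refine hx_uniq _ (conj_mem hl.normE hm hxE) ?_ fun u hu => ?_
    · intro h2
      apply hx0.ne
      have h3 : x = m⁻¹ * (m * x * m⁻¹) * m := by group
      rw [h3, h2, mul_one, inv_mul_cancel]
    · have h2 : m⁻¹ * u * m ∈ E := by
        have h3 := conj_mem hl.normE (M.inv_mem hm) hu
        rwa [inv_inv] at h3
      have h3 := TyA.conj f1 (hty_all _ h2) m
      have h4 : m * (m⁻¹ * u * m) * m⁻¹ = u := by group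
      rwa [h4] at h3
  exact mul_inv_eq_iff_eq_mul.1 h1

/-- a subgroup of exponent two with two different nontrivial elements has at least four elements -/
theorem four_le [Finite G] {K : Subgroup G} (hK : El K) {u v : G} (hu : u ∈ K) (hv : v ∈ K) (hu1 : u ≠ 1)
    (hv1 : v ≠ 1) (huv : u ≠ v) : 4 ≤ Nat.card K := by
  have h2 : 2 ∣ Nat.card K := by
    have h3 : orderOf (⟨u, hu⟩ : K) = 2 := by
      rw [Subgroup.orderOf_mk]
      exact orderOf_eq_prime (by rw [pow_two]; exact hK.sq u hu) hu1
    rw [← h3]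
    exact orderOf_dvd_natCard _
  have h3 : 3 ≤ Nat.card K := by
    let f : Fin 3 → K := ![1, ⟨u, hu⟩, ⟨v, hv⟩]
    have hf : Function.Injective f := by
      intro i j hij
      have hij' := congrArg Subtype.val hij
      fin_cases i <;> fin_cases j <;> simp [f] at hij' ⊢
      · exact hu1 hij'.symm
      · exact hv1 hij'.symm
      · exact hu1 hij'
      · exact huv hij'
      · exact hv1 hij'
      · exact huv hij'.symm
    have h4 := Nat.card_le_card_of_injective f hf
    rwa [Nat.card_eq_fintype_card, Fintype.card_fin] at h4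
  omega

include hl hE in
/-- a point containing `u`, `v` and normalized by `E` -/
theorem exists_start [Finite G] {u v : G} (hu : u ∈ E) (hv : v ∈ E) (hu1 : u ≠ 1) (hv1 : v ≠ 1) (huv : u ≠ v)
    (hty : TyA Γ u v) : ∃ P, Γ.Pt P ∧ E ≤ normalizer (P : Set G) ∧ u ∈ P ∧ v ∈ P := by
  have f1 := h.f1
  obtain ⟨D, hD, huD, hvD⟩ := hty
  have hED : ∀ e ∈ E, cj e D = D := fun e he =>
    h.f6.uniq _ _ (f1.Ln_conj e D hD) hD u v hu1 hv1 huv (mem_cj_of_comm huD (hl.el.comm e he u hu))
      (mem_cj_of_comm hvD (hl.el.comm e he v hv)) huD hvD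
  let T : Type _ := {P : Subgroup G // Γ.Pt P ∧ D ≤ P}
  have hT : Nat.card T = 5 := h.f6.five D hD
  have : Finite T := Nat.finite_of_card_ne_zero (by rw [hT]; norm_num)
  let act : MulAction E T :=
    { smul := fun e P => ⟨cj (e : G) P.1, f1.Pt_conj _ _ P.2.1,
        (hED e e.2).symm.le.trans (Subgroup.map_mono P.2.2)⟩
      one_smul := fun P => by
        apply Subtype.ext
        show cj ((1 : E) : G) P.1 = P.1
        ext x
        rw [mem_cj]
        simp
      mul_smul := fun a b P => by
        apply Subtype.ext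
        show cj ((a * b : E) : G) P.1 = cj (a : G) (cj (b : G) P.1)
        ext x
        rw [mem_cj, mem_cj, mem_cj]
        have h1 : ((a * b : E) : G)⁻¹ * x * ((a * b : E) : G) = (b : G)⁻¹ * ((a : G)⁻¹ * x * a) * b := by
          push_cast
          group
        rw [h1] }
  have hEp : IsPGroup 2 E := hl.pgroup.to_le hl.E_le
  have : Fact (Nat.Prime 2) := ⟨Nat.prime_two⟩
  obtain ⟨P, hP⟩ := hEp.nonempty_fixed_point_of_prime_not_dvd_card T (by rw [hT]; norm_num)
  refine ⟨P.1, P.2.1, fun e he => mem_normalizer_of_cj ?_, P.2.2 huD, P.2.2 hvD⟩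
  have h1 := (MulAction.mem_fixedPoints.1 hP) ⟨e, he⟩
  exact congrArg Subtype.val h1

include hl hE in
/-- A2: all pairs are of type a -/
theorem caseA2 [Finite G] (hno : ∀ P, Γ.Pt P → ¬ E ≤ P)
    (hty : ∀ u ∈ E, ∀ v ∈ E, u ≠ 1 → v ≠ 1 → u ≠ v → TyA Γ u v) : Good Γ M := by
  classical
  have f1 := h.f1
  -- two different elements
  obtain ⟨u, hu, hu1⟩ : ∃ u ∈ E, u ≠ 1 := by
    by_contra hcon
    push Not at hcon
    exact hl.E_ne ((Subgroup.eq_bot_iff_forall E).2 hcon)
  obtain ⟨P₁, hP₁, huP₁⟩ := h.f3.exA u (hE u hu hu1)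
  obtain ⟨v, hv, hvP₁⟩ : ∃ v ∈ E, v ∉ P₁ := by
    by_contra hcon
    push Not at hcon
    exact hno P₁ hP₁ hcon
  have hv1 : v ≠ 1 := fun h1 => hvP₁ (h1 ▸ P₁.one_mem)
  have huv : u ≠ v := fun h1 => hvP₁ (h1 ▸ huP₁)
  obtain ⟨P₀, hP₀, hn₀, huP₀, hvP₀⟩ := exists_start h hl hE hu hv hu1 hv1 huv (hty u hu v hv hu1 hv1 huv)
  -- a point with large intersection
  obtain ⟨P, ⟨hP, hPn⟩, hmax⟩ := Set.exists_max_image {P : Subgroup G | Γ.Pt P ∧ E ≤ normalizer (P : Set G)}
    (fun P => Nat.card (E ⊓ P : Subgroup G)) (Set.toFinite _) ⟨P₀, hP₀, hn₀⟩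
  have hel : ∀ K : Subgroup G, K ≤ E → El K := fun K hK =>
    ⟨fun a ha => hl.el.sq a (hK ha), fun a ha b hb => hl.el.comm a (hK ha) b (hK hb)⟩
  have h4 : 4 ≤ Nat.card (E ⊓ P : Subgroup G) :=
    (four_le h (hel _ inf_le_left) (K := E ⊓ P₀) ⟨hu, huP₀⟩ ⟨hv, hvP₀⟩ hu1 hv1 huv).trans (hmax P₀ ⟨hP₀, hn₀⟩)
  -- two different elements in `E ⊓ P`
  obtain ⟨a, ha, ha1⟩ : ∃ a ∈ E ⊓ P, a ≠ 1 := by
    by_contra hcon
    push Not at hcon
    rw [(Subgroup.eq_bot_iff_forall (E ⊓ P)).2 hcon, Subgroup.card_bot] at h4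
    omega
  obtain ⟨b, hb, hb1, hab⟩ : ∃ b ∈ E ⊓ P, b ≠ 1 ∧ a ≠ b := by
    by_contra hcon
    push Not at hcon
    have h5 : Nat.card (E ⊓ P : Subgroup G) ≤ 2 := by
      let f : (E ⊓ P : Subgroup G) → Fin 2 := fun x => if (x : G) = 1 then 0 else 1
      have hf : Function.Injective f := by
        intro x y hxy
        by_cases hx : (x : G) = 1 <;> by_cases hy : (y : G) = 1
        · exact Subtype.ext (hx.trans hy.symm)
        · have h6 : f x = 0 := if_pos hx
          have h7 : f y = 1 := if_neg hy
          rw [h6, h7] at hxy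
          exact absurd hxy (by decide)
        · have h6 : f x = 1 := if_neg hx
          have h7 : f y = 0 := if_pos hy
          rw [h6, h7] at hxy
          exact absurd hxy (by decide)
        · exact Subtype.ext ((hcon x x.2 hx).symm.trans (hcon y y.2 hy))
      have h6 := Nat.card_le_card_of_injective f hf
      rwa [Nat.card_fin] at h6
    omega
  -- kind A
  have hKA : ∀ w ∈ E, w ∉ P → KA Γ P w := by
    intro w hw hwP
    rcases h.f9.kind P w hP (act h hl hE hPn hw hwP) with hk | hk
    · exact hk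
    · exfalso
      obtain ⟨x, -, hxu, -⟩ := hk.ex
      have haw : a ≠ w := fun h1 => hwP (h1 ▸ ha.2)
      have hbw : b ≠ w := fun h1 => hwP (h1 ▸ hb.2)
      have hw1 : w ≠ 1 := fun h1 => hwP (h1 ▸ P.one_mem)
      have h1 := hxu a ⟨mem_Fs h hl hE ha.1 ha.2 hw hwP, ha1, hty a ha.1 w hw ha1 hw1 haw⟩
      have h2 := hxu b ⟨mem_Fs h hl hE hb.1 hb.2 hw hwP, hb1, hty b hb.1 w hw hb1 hw1 hbw⟩
      exact hab (h1.trans h2.symm)
  obtain ⟨w, hw, hwP⟩ : ∃ w ∈ E, w ∉ P := by
    by_contra hcon
    push Not at hcon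
    exact hno P hP hcon
  have hw1 : w ≠ 1 := fun h1 => hwP (h1 ▸ P.one_mem)
  -- the intersection has order at least 8
  have h8 : 8 ≤ Nat.card (E ⊓ P : Subgroup G) := by
    obtain ⟨P', hP', haP', hbP', hwP'⟩ := (hKA w hw hwP).pt a (mem_Fs h hl hE ha.1 ha.2 hw hwP) b
      (mem_Fs h hl hE hb.1 hb.2 hw hwP)
    have huniq : ∀ P'', Γ.Pt P'' → a ∈ P'' → b ∈ P'' → w ∈ P'' → P'' = P' := by
      intro P'' hP'' h1 h2 h3
      by_contra hne
      have h4 := line_of_two h hP'' hP' hne ha1 hb1 hab h1 haP' h2 hbP'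
      have h5 := h.f6.le _ P h4 hP a b ha1 hb1 hab ⟨h1, haP'⟩ ⟨h2, hbP'⟩ ha.2 hb.2
      exact hwP (h5 ⟨h3, hwP'⟩)
    have hn' : E ≤ normalizer (P' : Set G) := by
      intro e he
      exact mem_normalizer_of_cj (huniq _ (f1.Pt_conj e P' hP') (mem_cj_of_comm haP' (hl.el.comm e he a ha.1))
        (mem_cj_of_comm hbP' (hl.el.comm e he b hb.1)) (mem_cj_of_comm hwP' (hl.el.comm e he w hw)))
    refine le_trans ?_ (hmax P' ⟨hP', hn'⟩)
    set K : Subgroup G := E ⊓ P' with hK
    have h5 : 4 ≤ Nat.card (K ⊓ P : Subgroup G) :=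
      four_le h (hel _ (inf_le_left.trans inf_le_left)) ⟨⟨ha.1, haP'⟩, ha.2⟩ ⟨⟨hb.1, hbP'⟩, hb.2⟩ ha1 hb1 hab
    have h6 := Subgroup.card_subgroup_dvd_card ((K ⊓ P).subgroupOf K)
    rw [Nat.card_congr (Subgroup.subgroupOfEquivOfLe (inf_le_left : K ⊓ P ≤ K)).toEquiv] at h6
    obtain ⟨c, hc⟩ := h6
    have hc1 : c ≠ 1 := by
      rintro rfl
      rw [mul_one] at hc
      have h7 : K ⊓ P = K := Subgroup.eq_of_le_of_card_ge inf_le_left (by rw [hc])
      have h8 : w ∈ K ⊓ P := by
        rw [h7]
        exact ⟨hw, hwP'⟩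
      exact hwP h8.2
    have hc0 : c ≠ 0 := by
      rintro rfl
      rw [mul_zero] at hc
      exact Nat.card_pos.ne' hc
    have hc2 : 2 ≤ c := by omega
    show 8 ≤ Nat.card K
    rw [hc]
    calc 8 = 4 * 2 := by norm_num
      _ ≤ Nat.card (K ⊓ P : Subgroup G) * c := Nat.mul_le_mul h5 hc2
  -- `E ⊓ P` is `F_w` for all `w`
  have hFs : ∀ w ∈ E, w ∉ P → ((E ⊓ P : Subgroup G) : Set G) = Fs Γ P w := by
    intro w hw hwP
    refine Set.eq_of_subset_of_ncard_le (fun x hx => mem_Fs h hl hE hx.1 hx.2 hw hwP) ?_ (Set.toFinite _)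
    rw [(hKA w hw hwP).card]
    exact h8
  have hWs : ∀ x, x ∈ Ws Γ P w ↔ x ∈ E := by
    intro x
    have hmem : ∀ y, y ∈ Fs Γ P w ↔ y ∈ E ⊓ P := by
      intro y
      rw [← hFs w hw hwP]
      rfl
    constructor
    · rintro (h1 | h1)
      · exact ((hmem x).1 h1).1
      · have h2 := ((hmem _).1 h1).1
        have h3 : x = w⁻¹ * (w * x) := by group
        rw [h3]
        exact E.mul_mem (E.inv_mem hw) h2
    · intro hx
      by_cases hxP : x ∈ P
      · exact Or.inl ((hmem x).2 ⟨hx, hxP⟩)
      · right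
        have h1 := h.f9.same P w x hP (hKA w hw hwP) (hKA x hx hxP) ((hFs w hw hwP).symm.trans (hFs x hx hxP))
        rw [El.inv_eq hl.el hw] at h1
        exact (hmem _).2 ⟨E.mul_mem hw hx, h1⟩
  obtain ⟨X, hX, hXn, -⟩ := h.f12 P w hP (hKA w hw hwP)
  refine Or.inr (Or.inr (Or.inr ⟨X, hX, fun m hm => hXn m fun x hx => ?_⟩))
  rw [hWs] at hx ⊢
  exact conj_mem hl.normE hm hx

end

/-- **Case A.** -/
theorem caseA [Finite G] (Γ : Geom G) (h : Facts Γ) (_hLL : LL Γ) (hPT : PT Γ) : CaseA Γ := by
  intro M Q E hl hE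
  have f1 := h.f1
  by_cases hno : ∃ P, Γ.Pt P ∧ E ≤ P
  · obtain ⟨P, hP, hEP⟩ := hno
    refine hPT M {P | Γ.Pt P ∧ E ≤ P} ?_ (fun P hP => hP.1) ⟨P, hP, hEP⟩ ?_
    · intro m hm P' hP'
      refine ⟨f1.Pt_conj m P' hP'.1, ?_⟩
      rw [← cj_of_mem_normalizer (hl.normE hm)]
      exact Subgroup.map_mono hP'.2
    · intro h1
      apply hl.E_ne
      rw [eq_bot_iff, ← h1]
      exact le_sInf fun P' hP' => hP'.2
  · push Not at hno
    by_cases hty : ∀ u ∈ E, ∀ v ∈ E, u ≠ 1 → v ≠ 1 → u ≠ v → TyA Γ u v
    · exact caseA2 h hl hE hno hty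
    · push Not at hty
      obtain ⟨u, hu, v, hv, hu1, hv1, huv, hn⟩ := hty
      exact caseA1 h hl hE hno hu hv hu1 hv1 huv hn

end Cfsg.Agent.H546.JM
end

-- part: H919/JM/L3
section
/-!
# JM-L3 (task 3790, for S5580; helper919)

`l3` : points pairwise meeting in lines, triples meeting, trivial total intersection, `M`-invariant ⟹ `M` normalizes a
group `X`.
-/

set_option autoImplicit false
set_option linter.unusedSectionVars false

namespace Cfsg.Agent.H919.JM

open Cfsg.Agent.H860.JM

variable {G : Type*} [Group G] {Γ : Geom G}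

theorem conj_mem {P : Subgroup G} {x u : G} (hx : x ∈ Subgroup.normalizer (P : Set G)) (hu : u ∈ P) : x * u * x⁻¹ ∈ P :=
  (Subgroup.mem_normalizer_iff.1 hx u).1 hu

/-- an element fixed by `Q` -/
theorem mem_E {M Q E : Subgroup G} (hL : Loc M Q E) {T : Subgroup G}
    (hT : ∀ x ∈ Q, ∀ u ∈ T, x * u * x⁻¹ ∈ T) {z : G} (hz : z ≠ 1) (hzT : z ∈ T) (hsq : z * z = 1)
    (hu : ∀ u ∈ T, u = 1 ∨ u = z) : z ∈ E := by
  refine hL.mem z hsq fun x hx => ?_
  rcases hu _ (hT x hx z hzT) with h | h
  · exfalso
    apply hz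
    have h1 : x * z = x := by
      have := mul_eq_one_iff_eq_inv.1 h
      rwa [inv_inv] at this
    exact mul_eq_left.1 h1
  · exact (mul_inv_eq_iff_eq_mul.1 h)

theorem exists_ne_one {T : Subgroup G} (h : T ≠ ⊥) : ∃ z ∈ T, z ≠ 1 := by
  by_contra hcon
  push Not at hcon
  exact h ((Subgroup.eq_bot_iff_forall T).2 hcon)

/-- three points of a 4-tuple with trivial intersection meet in a group of order two -/
theorem tri (h : Facts Γ) {P₁ P₂ P₃ P₄ : Subgroup G} (hl : Γ.Ln (P₁ ⊓ P₂)) (h3 : Γ.Pt P₃) (h123 : P₁ ⊓ P₂ ⊓ P₃ ≠ ⊥)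
    (h124 : P₁ ⊓ P₂ ⊓ P₄ ≠ ⊥) (h4 : P₁ ⊓ P₂ ⊓ P₃ ⊓ P₄ = ⊥) :
    ∃ z, z ∈ P₁ ⊓ P₂ ⊓ P₃ ∧ z ≠ 1 ∧ ∀ u ∈ P₁ ⊓ P₂ ⊓ P₃, u = 1 ∨ u = z := by
  obtain ⟨z, hz, hz1⟩ := exists_ne_one h123
  refine ⟨z, hz, hz1, fun u hu => ?_⟩
  by_contra hcon
  push Not at hcon
  have h5 := h.f6.le (P₁ ⊓ P₂) P₃ hl h3 u z hcon.1 hz1 hcon.2 hu.1 hz.1 hu.2 hz.2
  apply h124
  rw [eq_bot_iff, ← h4]
  exact fun x hx => ⟨⟨hx.1, h5 hx.1⟩, hx.2⟩

section eight

variable [Finite G]

/-- eight elements of `W_w` -/
theorem eight_le (h : Facts Γ) (hmul : ∀ P w, Γ.Pt P → KA Γ P w → ∀ v ∈ Fs Γ P w, ∀ v' ∈ Fs Γ P w, v * v' ∈ Fs Γ P w)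
    {P P' : Subgroup G} {w v v' : G} (hP : Γ.Pt P) (hk : KA Γ P w) (hw : w ∈ P') (hv : v ∈ Fs Γ P w) (hv' : v' ∈ Fs Γ P w)
    (hvP : v ∈ P') (hvP' : v' ∈ P') (h1 : v ≠ 1) (h1' : v' ≠ 1) (hne : v ≠ v') :
    8 ≤ (Ws Γ P w ∩ (P' : Set G)).ncard := by
  have hel := h.f3.el P hP
  have hww : w * w = 1 := (h.f1.A_inv w hk.act.A).2
  have hone : (1 : G) ∈ Fs Γ P w := ⟨P.one_mem, by rw [one_mul, mul_one], Or.inl rfl⟩
  have hvv : v * v' ∈ Fs Γ P w := hmul P w hP hk v hv v' hv'
  set K : Set G := {1, v, v', v * v'} with hK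
  have hKF : K ⊆ Fs Γ P w := by
    rintro u (rfl | rfl | rfl | rfl)
    · exact hone
    · exact hv
    · exact hv'
    · exact hvv
  have hKP' : K ⊆ (P' : Set G) := by
    rintro u (rfl | rfl | rfl | rfl)
    · exact P'.one_mem
    · exact hvP
    · exact hvP'
    · exact P'.mul_mem hvP hvP'
  have hcard : K.ncard = 4 := by
    have hv2 : v' * v' = 1 := hel.sq v' hv'.1
    have e1 : v ≠ v * v' := fun e => h1' (mul_eq_left.1 e.symm)
    have e2 : v' ≠ v * v' := fun e => h1 (mul_eq_right.1 e.symm)
    have e3 : (1 : G) ≠ v * v' := by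
      intro e
      apply hne
      have : v * v' = v' * v' := by rw [← e, hv2]
      exact mul_right_cancel this
    rw [hK, Set.ncard_insert_of_notMem, Set.ncard_insert_of_notMem, Set.ncard_pair e2]
    · simp only [Set.mem_insert_iff, Set.mem_singleton_iff, not_or]
      exact ⟨hne, e1⟩
    · simp only [Set.mem_insert_iff, Set.mem_singleton_iff, not_or]
      exact ⟨h1.symm, h1'.symm, e3⟩
  have hinj : Function.Injective (fun u : G => w * u) := mul_right_injective w
  have hcard' : ((fun u : G => w * u) '' K).ncard = 4 := by rw [Set.ncard_image_of_injective _ hinj, hcard]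
  have hdis : Disjoint K ((fun u : G => w * u) '' K) := by
    rw [Set.disjoint_left]
    rintro u hu ⟨y, hy, rfl⟩
    apply hk.act.not_mem
    have h2 : w * y ∈ P := (hKF hu).1
    have h3 : y ∈ P := (hKF hy).1
    have := P.mul_mem h2 (P.inv_mem h3)
    rwa [mul_inv_cancel_right] at this
  have hsub : K ∪ ((fun u : G => w * u) '' K) ⊆ Ws Γ P w ∩ (P' : Set G) := by
    rintro u (hu | ⟨y, hy, rfl⟩)
    · exact ⟨Or.inl (hKF hu), hKP' hu⟩
    · refine ⟨Or.inr ?_, P'.mul_mem hw (hKP' hy)⟩
      show w * (w * y) ∈ Fs Γ P w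
      rw [← mul_assoc, hww, one_mul]
      exact hKF hy
  have h8 : (K ∪ ((fun u : G => w * u) '' K)).ncard = 8 := by
    rw [Set.ncard_union_eq hdis (Set.toFinite _) (Set.toFinite _), hcard, hcard']
  rw [← h8]
  exact Set.ncard_le_ncard hsub (Set.toFinite _)

theorem card_mul_relIndex (A T : Subgroup G) (h : A ≤ T) : Nat.card A * A.relIndex T = Nat.card T := by
  have := Subgroup.relIndex_mul_relIndex ⊥ A T bot_le h
  rwa [Subgroup.relIndex_bot_left, Subgroup.relIndex_bot_left] at this

/-- two lines meeting in a group of order two generate at least 32 elements -/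
theorem le_of_lines {A B T : Subgroup G} (hA : A ≤ T) (hB : B ≤ T) (ha : Nat.card A = 8) (hb : Nat.card B = 8)
    (hab : Nat.card (A ⊓ B : Subgroup G) = 2) : 32 ≤ Nat.card T := by
  have h1 := card_mul_relIndex (A ⊓ B) B inf_le_right
  rw [hab, hb, Subgroup.inf_relIndex_right] at h1
  have h3 := card_mul_relIndex A T hA
  have h0 : A.relIndex T ≠ 0 := by
    intro h0
    rw [h0, mul_zero] at h3
    exact Nat.card_pos.ne h3
  have h2 : A.relIndex B ≤ A.relIndex T := Subgroup.relIndex_le_of_le_right hB h0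
  rw [ha] at h3
  omega

/-- the cardinality of a group with exactly two elements -/
theorem card_two {T : Subgroup G} {z : G} (hz : z ∈ T) (h1 : z ≠ 1) (hu : ∀ u ∈ T, u = 1 ∨ u = z) : Nat.card T = 2 := by
  have h2 : (T : Set G) = {1, z} := by
    ext u
    constructor
    · intro h
      exact hu u h
    · rintro (rfl | rfl)
      · exact T.one_mem
      · exact hz
  have h3 : Nat.card T = (T : Set G).ncard := Nat.card_coe_set_eq _
  rw [h3, h2, Set.ncard_pair h1.symm]

/-- uniqueness of `X` -/
theorem X_uniq (h : Facts Γ) {P₁ P₂ P₃ X X' : Subgroup G} (h1 : Γ.Pt P₁) (h2 : Γ.Pt P₂) (h3 : Γ.Pt P₃) (h12 : P₁ ≠ P₂)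
    (h13 : P₁ ≠ P₃) (h23 : P₂ ≠ P₃) (l12 : Γ.Ln (P₁ ⊓ P₂)) (l13 : Γ.Ln (P₁ ⊓ P₃)) (l23 : Γ.Ln (P₂ ⊓ P₃))
    (h123 : Nat.card (P₁ ⊓ P₂ ⊓ P₃ : Subgroup G) = 2) (hX : Γ.Xc X) (hX' : Γ.Xc X')
    (c1 : Nat.card (P₁ ⊓ X : Subgroup G) = 64) (c2 : Nat.card (P₂ ⊓ X : Subgroup G) = 64)
    (c3 : Nat.card (P₃ ⊓ X : Subgroup G) = 64) (c1' : Nat.card (P₁ ⊓ X' : Subgroup G) = 64)
    (c2' : Nat.card (P₂ ⊓ X' : Subgroup G) = 64) (c3' : Nat.card (P₃ ⊓ X' : Subgroup G) = 64) : X = X' := by
  have a12 := h.f14.le _ _ _ h1 h2 h12 hX c1 c2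
  have a13 := h.f14.le _ _ _ h1 h3 h13 hX c1 c3
  have a23 := h.f14.le _ _ _ h2 h3 h23 hX c2 c3
  have a12' := h.f14.le _ _ _ h1 h2 h12 hX' c1' c2'
  have a13' := h.f14.le _ _ _ h1 h3 h13 hX' c1' c3'
  have a23' := h.f14.le _ _ _ h2 h3 h23 hX' c2' c3'
  have e1 : P₁ ⊓ X = P₁ ⊓ X' := by
    refine h.f14.eq _ _ _ h1 hX hX' c1 c1' (le_of_lines (A := P₁ ⊓ P₂) (B := P₁ ⊓ P₃)
      (le_inf (le_inf inf_le_left a12) a12') (le_inf (le_inf inf_le_left a13) a13') (h.f6.card _ l12) (h.f6.card _ l13) ?_)
    rw [← h123]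
    congr 2
    rw [← inf_inf_distrib_left, inf_assoc]
  have e2 : P₂ ⊓ X = P₂ ⊓ X' := by
    refine h.f14.eq _ _ _ h2 hX hX' c2 c2' (le_of_lines (A := P₁ ⊓ P₂) (B := P₂ ⊓ P₃)
      (le_inf (le_inf inf_le_right a12) a12') (le_inf (le_inf inf_le_left a23) a23') (h.f6.card _ l12) (h.f6.card _ l23) ?_)
    rw [← h123]
    congr 2
    rw [inf_assoc, ← inf_assoc P₂ P₂ P₃, inf_idem, inf_assoc]
  exact h.f14.uniq _ _ _ _ h1 h2 h12 hX hX' c1 c2 e1 e2

/-- the setting -/
structure Set4 (Γ : Geom G) (M Q E : Subgroup G) (S : Set (Subgroup G)) : Prop where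
  loc : Loc M Q E
  pt : ∀ P ∈ S, Γ.Pt P
  norm : ∀ P ∈ S, Q ≤ Subgroup.normalizer (P : Set G)
  line : ∀ P ∈ S, ∀ P' ∈ S, P ≠ P' → Γ.Ln (P ⊓ P')
  trip : ∀ P ∈ S, ∀ P' ∈ S, ∀ P'' ∈ S, P ⊓ P' ⊓ P'' ≠ ⊥

/-- **The group `X` of a 4-tuple.** -/
theorem exists_X (h : Facts Γ) (hmul : ∀ P w, Γ.Pt P → KA Γ P w → ∀ v ∈ Fs Γ P w, ∀ v' ∈ Fs Γ P w, v * v' ∈ Fs Γ P w)
    {M Q E : Subgroup G} {S : Set (Subgroup G)} (hS : Set4 Γ M Q E S) {P₁ P₂ P₃ P₄ : Subgroup G} (m1 : P₁ ∈ S)
    (m2 : P₂ ∈ S) (m3 : P₃ ∈ S) (m4 : P₄ ∈ S) (h4 : P₁ ⊓ P₂ ⊓ P₃ ⊓ P₄ = ⊥) :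
    ∃ X, Γ.Xc X ∧ Nat.card (P₁ ⊓ X : Subgroup G) = 64 ∧ Nat.card (P₂ ⊓ X : Subgroup G) = 64 ∧
      Nat.card (P₃ ⊓ X : Subgroup G) = 64 ∧ Nat.card (P₄ ⊓ X : Subgroup G) = 64 ∧
      ∀ P', Γ.Pt P' → P₂ ⊓ P₃ ⊓ P₄ ≤ P' → P₁ ⊓ P₃ ⊓ P₄ ≤ P' → P₁ ⊓ P₂ ⊓ P₄ ≤ P' →
        Nat.card (P' ⊓ X : Subgroup G) = 64 := by
  -- the points are distinct
  have d12 : P₁ ≠ P₂ := by
    rintro rfl
    rw [inf_idem] at h4
    exact hS.trip _ m1 _ m3 _ m4 h4
  have d13 : P₁ ≠ P₃ := by
    rintro rfl
    rw [inf_assoc P₁ P₂ P₁, inf_comm P₂ P₁, ← inf_assoc, inf_idem] at h4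
    exact hS.trip _ m1 _ m2 _ m4 h4
  have d14 : P₁ ≠ P₄ := by
    rintro rfl
    rw [inf_comm, ← inf_assoc, ← inf_assoc, inf_idem] at h4
    exact hS.trip _ m1 _ m2 _ m3 h4
  have d23 : P₂ ≠ P₃ := by
    rintro rfl
    rw [inf_assoc P₁ P₂ P₂, inf_idem] at h4
    exact hS.trip _ m1 _ m2 _ m4 h4
  have d24 : P₂ ≠ P₄ := by
    rintro rfl
    rw [inf_assoc (P₁ ⊓ P₂), inf_comm P₃ P₂, ← inf_assoc, inf_assoc P₁ P₂ P₂, inf_idem] at h4
    exact hS.trip _ m1 _ m2 _ m3 h4
  have d34 : P₃ ≠ P₄ := by
    rintro rfl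
    rw [inf_assoc (P₁ ⊓ P₂), inf_idem] at h4
    exact hS.trip _ m1 _ m2 _ m3 h4
  have l12 := hS.line _ m1 _ m2 d12
  have l13 := hS.line _ m1 _ m3 d13
  have l14 := hS.line _ m1 _ m4 d14
  have l23 := hS.line _ m2 _ m3 d23
  have l24 := hS.line _ m2 _ m4 d24
  have l34 := hS.line _ m3 _ m4 d34
  -- the triple intersections
  obtain ⟨z₁, hz1, n1, u1⟩ := tri (P₁ := P₃) (P₂ := P₄) (P₃ := P₂) (P₄ := P₁) h l34 (hS.pt _ m2) (hS.trip _ m3 _ m4 _ m2)
    (hS.trip _ m3 _ m4 _ m1) (by rw [← h4]; ac_rfl)
  obtain ⟨z₂, hz2, n2, u2⟩ := tri (P₁ := P₃) (P₂ := P₄) (P₃ := P₁) (P₄ := P₂) h l34 (hS.pt _ m1) (hS.trip _ m3 _ m4 _ m1)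
    (hS.trip _ m3 _ m4 _ m2) (by rw [← h4]; ac_rfl)
  obtain ⟨z₃, hz3, n3, u3⟩ := tri (P₁ := P₂) (P₂ := P₄) (P₃ := P₁) (P₄ := P₃) h l24 (hS.pt _ m1) (hS.trip _ m2 _ m4 _ m1)
    (hS.trip _ m2 _ m4 _ m3) (by rw [← h4]; ac_rfl)
  obtain ⟨z₄, hz4, n4, u4⟩ := tri (P₁ := P₂) (P₂ := P₃) (P₃ := P₁) (P₄ := P₄) h l23 (hS.pt _ m1) (hS.trip _ m2 _ m3 _ m1)
    (hS.trip _ m2 _ m3 _ m4) (by rw [← h4]; ac_rfl)
  have tot : ∀ u, u ∈ P₁ → u ∈ P₂ → u ∈ P₃ → u ∈ P₄ → u = 1 := by
    intro u a1 a2 a3 a4
    have : u ∈ P₁ ⊓ P₂ ⊓ P₃ ⊓ P₄ := ⟨⟨⟨a1, a2⟩, a3⟩, a4⟩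
    rwa [h4, Subgroup.mem_bot] at this
  have k1 : z₁ ∉ P₁ := fun h' => n1 (tot _ h' hz1.2 hz1.1.1 hz1.1.2)
  have k2 : z₂ ∉ P₂ := fun h' => n2 (tot _ hz2.2 h' hz2.1.1 hz2.1.2)
  have k3 : z₃ ∉ P₃ := fun h' => n3 (tot _ hz3.2 hz3.1.1 h' hz3.1.2)
  have hE : z₁ ∈ E := by
    refine mem_E hS.loc (T := P₃ ⊓ P₄ ⊓ P₂) (fun x hx u hu => ?_) n1 hz1 ((h.f3.el _ (hS.pt _ m2)).sq _ hz1.2) u1
    exact ⟨⟨conj_mem (hS.norm _ m3 hx) hu.1.1, conj_mem (hS.norm _ m4 hx) hu.1.2⟩, conj_mem (hS.norm _ m2 hx) hu.2⟩
  have A1 : Γ.A z₁ := h.f6.pure _ l34 z₁ hz1.1 n1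
  have hact : Act Γ P₁ z₁ := ⟨hS.norm _ m1 (hS.loc.E_le hE), k1, A1⟩
  have hww : z₁ * z₁ = 1 := (h.f1.A_inv _ A1).2
  -- membership in `Fs`
  have hFs : ∀ (D P : Subgroup G) (z : G), Γ.Ln D → Γ.Pt P → D ≤ P → z ∈ D → z₁ ∈ D → z ≠ 1 → z ∈ P₁ →
      IsX Γ P₁ z₁ z := by
    intro D P z hD hP hDP hz hz1D hz0 hzP
    refine ⟨⟨hzP, (h.f3.el P hP).comm _ (hDP hz) _ (hDP hz1D), Or.inr ⟨h.f6.pure D hD z hz hz0, ?_⟩⟩, hz0, D, hD, hz, hz1D⟩
    refine h.f6.pure D hD _ (D.mul_mem hz hz1D) fun e => k1 ?_
    have : z = z₁ := by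
      have h1 : z * z₁ = z₁ * z₁ := by rw [e, hww]
      exact mul_right_cancel h1
    rwa [← this]
  have X2 := hFs (P₃ ⊓ P₄) P₃ z₂ l34 (hS.pt _ m3) inf_le_left hz2.1 hz1.1 n2 hz2.2
  have X3 := hFs (P₂ ⊓ P₄) P₂ z₃ l24 (hS.pt _ m2) inf_le_left hz3.1 ⟨hz1.2, hz1.1.2⟩ n3 hz3.2
  have X4 := hFs (P₂ ⊓ P₃) P₂ z₄ l23 (hS.pt _ m2) inf_le_left hz4.1 ⟨hz1.2, hz1.1.1⟩ n4 hz4.2
  have hk : KA Γ P₁ z₁ := by
    rcases h.f9.kind P₁ z₁ (hS.pt _ m1) hact with hk | hk
    · exact hk
    · exfalso
      obtain ⟨x, -, hx, -⟩ := hk.ex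
      apply k3
      rw [hx _ X3, ← hx _ X2]
      exact hz2.1.1
  obtain ⟨X, hX, -, hcard⟩ := h.f12 P₁ z₁ (hS.pt _ m1) hk
  refine ⟨X, hX, ?_, ?_, ?_, ?_, ?_⟩
  · refine hcard P₁ (hS.pt _ m1) ?_
    rw [← hk.card]
    exact Set.ncard_le_ncard (fun u hu => ⟨Or.inl hu, hu.1⟩) (Set.toFinite _)
  · exact hcard P₂ (hS.pt _ m2) (eight_le h hmul (hS.pt _ m1) hk hz1.2 X3.mem X4.mem hz3.1.1 hz4.1.1 n3 n4
      fun e => k3 (e ▸ hz4.1.2))
  · exact hcard P₃ (hS.pt _ m3) (eight_le h hmul (hS.pt _ m1) hk hz1.1.1 X2.mem X4.mem hz2.1.1 hz4.1.2 n2 n4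
      fun e => k2 (e ▸ hz4.1.1))
  · exact hcard P₄ (hS.pt _ m4) (eight_le h hmul (hS.pt _ m1) hk hz1.1.2 X2.mem X3.mem hz2.1.2 hz3.1.2 n2 n3
      fun e => k2 (e ▸ hz3.1.1))
  · intro P' hP' e1 e2 e3
    exact hcard P' hP' (eight_le h hmul (hS.pt _ m1) hk (e1 ⟨⟨hz1.2, hz1.1.1⟩, hz1.1.2⟩) X2.mem X3.mem
      (e2 ⟨⟨hz2.2, hz2.1.1⟩, hz2.1.2⟩) (e3 ⟨⟨hz3.2, hz3.1.1⟩, hz3.1.2⟩) n2 n3 fun e => k2 (e ▸ hz3.1.1))

/-- the order of a triple intersection -/
theorem card_tri (h : Facts Γ) {M Q E : Subgroup G} {S : Set (Subgroup G)} (hS : Set4 Γ M Q E S)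
    {P₁ P₂ P₃ P₄ : Subgroup G} (m1 : P₁ ∈ S) (m2 : P₂ ∈ S) (m3 : P₃ ∈ S) (m4 : P₄ ∈ S)
    (h4 : P₁ ⊓ P₂ ⊓ P₃ ⊓ P₄ = ⊥) : P₁ ≠ P₂ ∧ Nat.card (P₁ ⊓ P₂ ⊓ P₃ : Subgroup G) = 2 := by
  have d12 : P₁ ≠ P₂ := by
    rintro rfl
    rw [inf_idem] at h4
    exact hS.trip _ m1 _ m3 _ m4 h4
  obtain ⟨z, hz, hz1, hu⟩ := tri h (hS.line _ m1 _ m2 d12) (hS.pt _ m3) (hS.trip _ m1 _ m2 _ m3)
    (hS.trip _ m1 _ m2 _ m4) h4
  exact ⟨d12, card_two hz hz1 hu⟩

/-- two groups `X` with large intersection with three points agree -/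
theorem X_uniq' (h : Facts Γ) {M Q E : Subgroup G} {S : Set (Subgroup G)} (hS : Set4 Γ M Q E S)
    {P₁ P₂ P₃ P₄ : Subgroup G} (m1 : P₁ ∈ S) (m2 : P₂ ∈ S) (m3 : P₃ ∈ S) (m4 : P₄ ∈ S)
    (h4 : P₁ ⊓ P₂ ⊓ P₃ ⊓ P₄ = ⊥) {X X' : Subgroup G} (hX : Γ.Xc X) (hX' : Γ.Xc X')
    (c1 : Nat.card (P₁ ⊓ X : Subgroup G) = 64) (c2 : Nat.card (P₂ ⊓ X : Subgroup G) = 64)
    (c3 : Nat.card (P₃ ⊓ X : Subgroup G) = 64) (c1' : Nat.card (P₁ ⊓ X' : Subgroup G) = 64)
    (c2' : Nat.card (P₂ ⊓ X' : Subgroup G) = 64) (c3' : Nat.card (P₃ ⊓ X' : Subgroup G) = 64) : X = X' := by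
  obtain ⟨d12, hc⟩ := card_tri h hS m1 m2 m3 m4 h4
  have d13 := (card_tri h hS m1 m3 m2 m4 (by rw [← h4]; ac_rfl)).1
  have d23 := (card_tri h hS m2 m3 m1 m4 (by rw [← h4]; ac_rfl)).1
  exact X_uniq h (hS.pt _ m1) (hS.pt _ m2) (hS.pt _ m3) d12 d13 d23 (hS.line _ m1 _ m2 d12) (hS.line _ m1 _ m3 d13)
    (hS.line _ m2 _ m3 d23) hc hX hX' c1 c2 c3 c1' c2' c3'

/-- a point not containing the triple intersection gives a new 4-tuple with the same `X` -/
theorem step (h : Facts Γ) (hmul : ∀ P w, Γ.Pt P → KA Γ P w → ∀ v ∈ Fs Γ P w, ∀ v' ∈ Fs Γ P w, v * v' ∈ Fs Γ P w)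
    {M Q E : Subgroup G} {S : Set (Subgroup G)} (hS : Set4 Γ M Q E S) {P₁ P₂ P₃ P₄ P : Subgroup G} (m1 : P₁ ∈ S)
    (m2 : P₂ ∈ S) (m3 : P₃ ∈ S) (m4 : P₄ ∈ S) (mP : P ∈ S) (h4 : P₁ ⊓ P₂ ⊓ P₃ ⊓ P₄ = ⊥) {X : Subgroup G}
    (hX : Γ.Xc X) (c1 : Nat.card (P₁ ⊓ X : Subgroup G) = 64) (c2 : Nat.card (P₂ ⊓ X : Subgroup G) = 64)
    (c3 : Nat.card (P₃ ⊓ X : Subgroup G) = 64) (hP : ¬ P₁ ⊓ P₂ ⊓ P₃ ≤ P) : Nat.card (P ⊓ X : Subgroup G) = 64 := by
  obtain ⟨d12, hc⟩ := card_tri h hS m1 m2 m3 m4 h4
  have h5 : P₁ ⊓ P₂ ⊓ P₃ ⊓ P = ⊥ := by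
    by_contra hne
    obtain ⟨u, hu, hu1⟩ := exists_ne_one hne
    obtain ⟨z, hz, hz1, hz'⟩ := tri h (hS.line _ m1 _ m2 d12) (hS.pt _ m3) (hS.trip _ m1 _ m2 _ m3)
      (hS.trip _ m1 _ m2 _ m4) h4
    apply hP
    intro x hx
    rcases hz' x hx with rfl | rfl
    · exact P.one_mem
    · rcases hz' u hu.1 with h6 | h6
      · exact absurd h6 hu1
      · rw [← h6]
        exact hu.2
  obtain ⟨X', hX', e1, e2, e3, e4, -⟩ := exists_X h hmul hS m1 m2 m3 mP h5
  rw [X_uniq' h hS m1 m2 m3 m4 h4 hX hX' c1 c2 c3 e1 e2 e3]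
  exact e4

/-- **All the points of `S` meet `X` in a group of order 64.** -/
theorem exists_all (h : Facts Γ) (hmul : ∀ P w, Γ.Pt P → KA Γ P w → ∀ v ∈ Fs Γ P w, ∀ v' ∈ Fs Γ P w, v * v' ∈ Fs Γ P w)
    {M Q E : Subgroup G} {S : Set (Subgroup G)} (hS : Set4 Γ M Q E S) {P₁ P₂ P₃ P₄ : Subgroup G} (m1 : P₁ ∈ S)
    (m2 : P₂ ∈ S) (m3 : P₃ ∈ S) (m4 : P₄ ∈ S) (h4 : P₁ ⊓ P₂ ⊓ P₃ ⊓ P₄ = ⊥) :
    ∃ X, Γ.Xc X ∧ ∀ P ∈ S, Nat.card (P ⊓ X : Subgroup G) = 64 := by
  obtain ⟨X, hX, c1, c2, c3, c4, hc⟩ := exists_X h hmul hS m1 m2 m3 m4 h4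
  refine ⟨X, hX, fun P mP => ?_⟩
  by_cases a1 : P₂ ⊓ P₃ ⊓ P₄ ≤ P
  · by_cases a2 : P₁ ⊓ P₃ ⊓ P₄ ≤ P
    · by_cases a3 : P₁ ⊓ P₂ ⊓ P₄ ≤ P
      · exact hc P (hS.pt _ mP) a1 a2 a3
      · exact step h hmul hS m1 m2 m4 m3 mP (by rw [← h4]; ac_rfl) hX c1 c2 c4 a3
    · exact step h hmul hS m1 m3 m4 m2 mP (by rw [← h4]; ac_rfl) hX c1 c3 c4 a2
  · exact step h hmul hS m2 m3 m4 m1 mP (by rw [← h4]; ac_rfl) hX c2 c3 c4 a1

theorem cj_cj (a b : G) (H : Subgroup G) : cj a (cj b H) = cj (a * b) H := by
  ext x
  constructor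
  · rintro ⟨y, ⟨u, hu, rfl⟩, rfl⟩
    refine ⟨u, hu, ?_⟩
    simp [mul_assoc]
  · rintro ⟨u, hu, rfl⟩
    refine ⟨b * u * b⁻¹, ⟨u, hu, rfl⟩, ?_⟩
    simp [mul_assoc]

theorem cj_one (H : Subgroup G) : cj (1 : G) H = H := by
  ext x
  constructor
  · rintro ⟨u, hu, rfl⟩
    simpa using hu
  · intro hx
    exact ⟨x, hx, by simp⟩

theorem card_cj_inf (m : G) (P X : Subgroup G) :
    Nat.card (P ⊓ cj m X : Subgroup G) = Nat.card (cj m⁻¹ P ⊓ X : Subgroup G) := by
  have h1 : P ⊓ cj m X = cj m (cj m⁻¹ P ⊓ X) := by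
    have h2 : cj m (cj m⁻¹ P ⊓ X) = cj m (cj m⁻¹ P) ⊓ cj m X :=
      Subgroup.map_inf _ _ (MulAut.conj m).toMonoidHom (MulAut.conj m).injective
    rw [h2, cj_cj, mul_inv_cancel, cj_one]
  rw [h1]
  exact Nat.card_congr ((cj m⁻¹ P ⊓ X).equivMapOfInjective _ (MulAut.conj m).injective).toEquiv.symm

theorem mem_normalizer_of_cj {m : G} {X : Subgroup G} (h : cj m X = X) : m ∈ Subgroup.normalizer (X : Set G) := by
  rw [Subgroup.mem_normalizer_iff]
  intro u
  constructor
  · intro hu
    rw [← h]
    exact ⟨u, hu, rfl⟩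
  · intro hu
    rw [← h] at hu
    obtain ⟨y, hy, e⟩ := hu
    have : y = u := (MulAut.conj m).injective e
    rwa [← this]

/-- **JM-L3**, with the closure of `F_w` for kind A as an extra hypothesis -/
theorem l3' (h : Facts Γ) (hmul : ∀ P w, Γ.Pt P → KA Γ P w → ∀ v ∈ Fs Γ P w, ∀ v' ∈ Fs Γ P w, v * v' ∈ Fs Γ P w) :
    L3 Γ := by
  intro M Q E hL S hinv hpt hline htrip hex hS0
  have hS : Set4 Γ M Q E S := ⟨hL, fun P hP => (hpt P hP).1, fun P hP => (hpt P hP).2, hline, htrip⟩
  obtain ⟨P₁, m1, P₂, m2, d12⟩ := hex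
  have l12 := hline _ m1 _ m2 d12
  have hcard := h.f6.card _ l12
  obtain ⟨P₃, m3, a3⟩ : ∃ P₃ ∈ S, ¬ P₁ ⊓ P₂ ≤ P₃ := by
    by_contra hcon
    push Not at hcon
    have h1 : P₁ ⊓ P₂ ≤ sInf S := le_sInf hcon
    rw [hS0, le_bot_iff] at h1
    rw [h1, Subgroup.card_bot] at hcard
    omega
  obtain ⟨z, hz, hz1⟩ := exists_ne_one (htrip _ m1 _ m2 _ m3)
  obtain ⟨P₄, m4, a4⟩ : ∃ P₄ ∈ S, z ∉ P₄ := by
    by_contra hcon
    push Not at hcon
    have h1 : z ∈ sInf S := Subgroup.mem_sInf.2 hcon
    rw [hS0, Subgroup.mem_bot] at h1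
    exact hz1 h1
  have h4 : P₁ ⊓ P₂ ⊓ P₃ ⊓ P₄ = ⊥ := by
    by_contra hne
    obtain ⟨u, hu, hu1⟩ := exists_ne_one hne
    have huz : u ≠ z := fun e => a4 (e ▸ hu.2)
    exact a3 (h.f6.le _ _ l12 (hS.pt _ m3) u z hu1 hz1 huz hu.1.1 hz.1 hu.1.2 hz.2)
  obtain ⟨X, hX, hall⟩ := exists_all h hmul hS m1 m2 m3 m4 h4
  refine Or.inr (Or.inr (Or.inr ⟨X, hX, fun m hm => mem_normalizer_of_cj ?_⟩))
  have hall' : ∀ P ∈ S, Nat.card (P ⊓ cj m X : Subgroup G) = 64 := fun P hP => by
    rw [card_cj_inf]
    exact hall _ (hinv _ (M.inv_mem hm) P hP)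
  exact X_uniq' h hS m1 m2 m3 m4 h4 (h.f1.Xc_conj m X hX) hX (hall' _ m1) (hall' _ m2) (hall' _ m3) (hall _ m1)
    (hall _ m2) (hall _ m3)

end eight

end Cfsg.Agent.H919.JM
end

-- part: H172/JM/Top
section
/-!
# Maximal 2-local subgroups of `J4`: the top part of the abstract argument

`ll : Facts Γ → LL Γ`, `pt : Facts Γ → PT Γ` and `two_local` (the reduction to the cases A and B).
-/

set_option autoImplicit false

namespace Cfsg.Agent.H172.JM

open Subgroup Cfsg Cfsg.Agent.H860.JM

variable {G : Type*} [Group G]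

theorem conj_mem {M R : Subgroup G} (h : M ≤ normalizer (R : Set G)) {m x : G} (hm : m ∈ M)
    (hx : x ∈ R) : m * x * m⁻¹ ∈ R :=
  (mem_normalizer_iff.1 (h hm) x).1 hx

theorem conj_mem' {M R : Subgroup G} (h : M ≤ normalizer (R : Set G)) {m x : G} (hm : m ∈ M)
    (hx : x ∈ R) : m⁻¹ * x * m ∈ R := by
  have := conj_mem h (M.inv_mem hm) hx
  rwa [inv_inv] at this

/-- a group `M` normalizing `{1, z}` centralizes `z` -/
theorem le_centralizer_of {M R : Subgroup G} (h : M ≤ normalizer (R : Set G)) {z : G} (hz : z ∈ R)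
    (hz1 : z ≠ 1) (hR : ∀ x ∈ R, x = 1 ∨ x = z) : M ≤ centralizer {z} := by
  intro m hm
  rw [mem_centralizer_singleton_iff]
  rcases hR _ (conj_mem h hm hz) with h1 | h1
  · exfalso
    apply hz1
    calc z = m⁻¹ * (m * z * m⁻¹) * m := by group
      _ = 1 := by rw [h1]; group
  · calc m * z = m * z * m⁻¹ * m := by group
      _ = z * m := by rw [h1]

theorem mem_normalizer_of_cj {D : Subgroup G} {m : G} (h : D = cj m D) :
    m ∈ normalizer (D : Set G) := by
  rw [mem_normalizer_iff]
  intro x
  constructor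
  · intro hx
    rw [h]
    exact ⟨x, hx, rfl⟩
  · intro hx
    rw [h] at hx
    obtain ⟨y, hy, hxy⟩ := hx
    have h1 : m * y * m⁻¹ = m * x * m⁻¹ := hxy
    have h2 : y = x := mul_left_cancel (mul_right_cancel h1)
    rw [← h2]
    exact hy

/-- **(LL)** -/
theorem ll (Γ : Geom G) (h : Facts Γ) : LL Γ := by
  intro M R D hD hRD hR hM
  by_cases h2 : ∃ u ∈ R, ∃ v ∈ R, u ≠ 1 ∧ v ≠ 1 ∧ u ≠ v
  · obtain ⟨u, hu, v, hv, hu1, hv1, huv⟩ := h2
    refine Or.inr (Or.inr (Or.inl ⟨D, hD, ?_⟩))
    intro m hm
    apply mem_normalizer_of_cj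
    have h3 : ∀ x ∈ R, x ∈ cj m D := by
      intro x hx
      refine ⟨m⁻¹ * x * m, hRD (conj_mem' hM hm hx), ?_⟩
      change m * (m⁻¹ * x * m) * m⁻¹ = x
      group
    exact h.f6.uniq D (cj m D) hD (h.f1.Ln_conj m D hD) u v hu1 hv1 huv (hRD hu) (hRD hv)
      (h3 u hu) (h3 v hv)
  · push Not at h2
    obtain ⟨z, hz'⟩ := Subgroup.ne_bot_iff_exists_ne_one.1 hR
    have hz := z.2
    have hz1 : (z : G) ≠ 1 := fun h1 => hz' (Subtype.ext h1)
    refine Or.inl ⟨z, h.f6.pure D hD z (hRD hz) hz1, ?_⟩
    refine le_centralizer_of hM hz hz1 ?_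
    intro x hx
    by_cases hx1 : x = 1
    · exact Or.inl hx1
    · exact Or.inr (h2 x hx z hz hx1 hz1)

/-- `M` normalizes the intersection of an `M`-invariant set -/
theorem le_normalizer_sInf {M : Subgroup G} {S : Set (Subgroup G)} (hI : Inv M S) :
    M ≤ normalizer ((sInf S : Subgroup G) : Set G) := by
  have h1 : ∀ m ∈ M, ∀ x ∈ sInf S, m * x * m⁻¹ ∈ sInf S := by
    intro m hm x hx
    rw [mem_sInf] at hx ⊢
    intro P hP
    obtain ⟨y, hy⟩ : ∃ y, y = x := ⟨x, rfl⟩
    have h2 := hx _ (hI m⁻¹ (M.inv_mem hm) P hP)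
    obtain ⟨p, hp, hpx⟩ := h2
    have h3 : m⁻¹ * p * (m⁻¹)⁻¹ = x := hpx
    have h4 : m * x * m⁻¹ = p := by
      rw [← h3]; group
    rw [h4]
    exact hp
  intro m hm
  rw [mem_normalizer_iff]
  intro x
  refine ⟨h1 m hm x, fun hx => ?_⟩
  have h2 := h1 m⁻¹ (M.inv_mem hm) _ hx
  have h3 : m⁻¹ * (m * x * m⁻¹) * (m⁻¹)⁻¹ = x := by group
  rwa [h3] at h2

/-- **(PT)** -/
theorem pt (Γ : Geom G) (h : Facts Γ) : PT Γ := by
  intro M S hI hP hne hbot
  have hN := le_normalizer_sInf hI
  by_cases h2 : ∃ P ∈ S, ∃ P' ∈ S, P ≠ P'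
  · obtain ⟨P, hPS, P', hPS', hPP⟩ := h2
    have hle : sInf S ≤ P ⊓ P' := le_inf (sInf_le hPS) (sInf_le hPS')
    rcases h.f5 P P' (hP P hPS) (hP P' hPS') hPP with h3 | ⟨z, hz, h3⟩ | h3
    · exact absurd (le_bot_iff.1 (h3 ▸ hle)) hbot
    · obtain ⟨x, hx⟩ := Subgroup.ne_bot_iff_exists_ne_one.1 hbot
      have hx1 : (x : G) ≠ 1 := fun h1 => hx (Subtype.ext h1)
      have hxz : (x : G) = z := ((h3 x).1 (hle x.2)).resolve_left hx1
      refine Or.inl ⟨z, hz, ?_⟩
      rw [← hxz]
      refine le_centralizer_of hN x.2 hx1 ?_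
      intro y hy
      rw [hxz]
      exact (h3 y).1 (hle hy)
    · exact ll Γ h M (sInf S) (P ⊓ P') h3 hle hbot hN
  · push Not at h2
    obtain ⟨P, hPS⟩ := hne
    refine Or.inr (Or.inl ⟨P, hP P hPS, ?_⟩)
    have h3 : sInf S = P := by
      apply le_antisymm (sInf_le hPS)
      apply le_sInf
      intro P' hPS'
      exact (h2 P hPS P' hPS').le
    rwa [h3] at hN

section Local

/-- a finite subgroup without nontrivial elements of odd order is a 2-group -/
theorem isPGroup_two_of [Finite G] {C : Subgroup G} (h : ∀ x ∈ C, Odd (orderOf x) → x = 1) :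
    IsPGroup 2 C := by
  rintro ⟨x, hx⟩
  have h0 : orderOf x ≠ 0 := (orderOf_pos x).ne'
  obtain ⟨k, m, hm, hkm⟩ := Nat.exists_eq_two_pow_mul_odd h0
  refine ⟨k, Subtype.ext ?_⟩
  change x ^ 2 ^ k = 1
  apply h _ (C.pow_mem hx _)
  have h1 : orderOf (x ^ 2 ^ k) = m := by
    rw [orderOf_pow' x (pow_ne_zero k two_ne_zero), hkm, Nat.gcd_eq_right (Dvd.intro _ rfl),
      Nat.mul_div_cancel_left _ (pow_pos two_pos k)]
  rw [h1]
  exact hm

/-- `Ω₁(Z(Q))` for a 2-group `Q` -/
def om (Q : Subgroup G) : Subgroup G where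
  carrier := {e | e ∈ Q ∧ e * e = 1 ∧ ∀ x ∈ Q, x * e = e * x}
  mul_mem' := by
    rintro a b ⟨ha, ha2, hac⟩ ⟨hb, hb2, hbc⟩
    refine ⟨Q.mul_mem ha hb, ?_, ?_⟩
    · calc a * b * (a * b) = a * (b * a) * b := by group
        _ = a * (a * b) * b := by rw [hac b hb]
        _ = (a * a) * (b * b) := by group
        _ = 1 := by rw [ha2, hb2, one_mul]
    · intro x hx
      calc x * (a * b) = (x * a) * b := by group
        _ = a * (x * b) := by rw [hac x hx]; group
        _ = a * b * x := by rw [hbc x hx]; group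
  one_mem' := ⟨Q.one_mem, one_mul 1, fun x _ => by rw [mul_one, one_mul]⟩
  inv_mem' := by
    rintro a ⟨ha, ha2, hac⟩
    have h1 : a⁻¹ = a := inv_eq_of_mul_eq_one_left ha2
    exact ⟨Q.inv_mem ha, by rw [h1]; exact ha2, by rw [h1]; exact hac⟩

theorem mem_om {Q : Subgroup G} {e : G} :
    e ∈ om Q ↔ e ∈ Q ∧ e * e = 1 ∧ ∀ x ∈ Q, x * e = e * x := Iff.rfl

theorem om_ne_bot [Finite G] {Q : Subgroup G} (h : IsPGroup 2 Q) (h1 : Q ≠ ⊥) : om Q ≠ ⊥ := by
  have : Fact (Nat.Prime 2) := ⟨Nat.prime_two⟩
  have : Nontrivial Q := (Subgroup.nontrivial_iff_ne_bot Q).2 h1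
  have h2 : Nontrivial (Subgroup.center Q) := h.center_nontrivial
  have h3 : 2 ∣ Nat.card (Subgroup.center Q) := by
    have h4 : IsPGroup 2 (Subgroup.center Q) := h.to_subgroup _
    obtain ⟨n, hn⟩ := IsPGroup.iff_card.1 h4
    rw [hn]
    apply dvd_pow_self
    rintro rfl
    rw [pow_zero] at hn
    have h5 := Finite.one_lt_card_iff_nontrivial.2 h2
    omega
  obtain ⟨z, hz⟩ := exists_prime_orderOf_dvd_card' (G := Subgroup.center Q) 2 h3
  intro h5
  have h6 : ((z : Q) : G) ∈ om Q := by
    refine ⟨(z : Q).2, ?_, ?_⟩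
    · have h7 : z * z = 1 := by rw [← pow_two, ← hz, pow_orderOf_eq_one]
      exact congrArg (fun t : Subgroup.center Q => ((t : Q) : G)) h7
    · intro x hx
      exact congrArg Subtype.val (Subgroup.mem_center_iff.1 z.2 ⟨x, hx⟩)
  rw [h5, mem_bot] at h6
  have h8 : z = 1 := Subtype.ext (Subtype.ext h6)
  rw [h8, orderOf_one] at hz
  omega

theorem le_normalizer_om {M Q : Subgroup G} (h : M ≤ normalizer (Q : Set G)) :
    M ≤ normalizer (om Q : Set G) := by
  have h1 : ∀ m ∈ M, ∀ e ∈ om Q, m * e * m⁻¹ ∈ om Q := by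
    rintro m hm e ⟨he, he2, hec⟩
    refine ⟨conj_mem h hm he, ?_, ?_⟩
    · calc m * e * m⁻¹ * (m * e * m⁻¹) = m * (e * e) * m⁻¹ := by group
        _ = 1 := by rw [he2]; group
    · intro x hx
      have h2 := hec _ (conj_mem' h hm hx)
      calc x * (m * e * m⁻¹) = m * ((m⁻¹ * x * m) * e) * m⁻¹ := by group
        _ = m * (e * (m⁻¹ * x * m)) * m⁻¹ := by rw [h2]
        _ = m * e * m⁻¹ * x := by group
  intro m hm
  rw [mem_normalizer_iff]
  intro x
  refine ⟨h1 m hm x, fun hx => ?_⟩
  have h2 := h1 m⁻¹ (M.inv_mem hm) _ hx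
  have h3 : m⁻¹ * (m * x * m⁻¹) * (m⁻¹)⁻¹ = x := by group
  rwa [h3] at h2

/-- (I.0) `C(O₂(M)) ≤ O₂(M)` for a maximal 2-local subgroup `M = N(O₂(M))` -/
theorem centralizer_le_core [Finite G] {Γ : Geom G} (h : Facts Γ) {M Q : Subgroup G}
    (hQ : Q = (pCore 2 M).map M.subtype) (hbot : Q ≠ ⊥) (hN : normalizer (Q : Set G) = M) :
    centralizer (Q : Set G) ≤ Q := by
  have : Fact (Nat.Prime 2) := ⟨Nat.prime_two⟩
  have hQ2 : IsPGroup 2 Q := by rw [hQ]; exact Lib.LocalCore.isPGroup_map_pCore 2 M
  have hCM : centralizer (Q : Set G) ≤ M := by rw [← hN]; exact centralizer_le_normalizer _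
  have hMC : M ≤ normalizer ((centralizer (Q : Set G) : Subgroup G) : Set G) := by
    intro m hm
    have h1 : ∀ m ∈ M, ∀ c ∈ centralizer (Q : Set G), m * c * m⁻¹ ∈ centralizer (Q : Set G) := by
      intro m hm c hc
      rw [mem_centralizer_iff] at hc ⊢
      intro q hq
      have h2 := hc _ (conj_mem' hN.ge hm hq)
      calc q * (m * c * m⁻¹) = m * ((m⁻¹ * q * m) * c) * m⁻¹ := by group
        _ = m * (c * (m⁻¹ * q * m)) * m⁻¹ := by rw [h2]
        _ = m * c * m⁻¹ * q := by group
    rw [mem_normalizer_iff]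
    intro x
    refine ⟨h1 m hm x, fun hx => ?_⟩
    have h3 := h1 m⁻¹ (M.inv_mem hm) _ hx
    have h4 : m⁻¹ * (m * x * m⁻¹) * (m⁻¹)⁻¹ = x := by group
    rwa [h4] at h3
  obtain ⟨e, he⟩ := Subgroup.ne_bot_iff_exists_ne_one.1 (om_ne_bot hQ2 hbot)
  have he1 : (e : G) ≠ 1 := fun h1 => he (Subtype.ext h1)
  obtain ⟨heQ, he2, hec⟩ := mem_om.1 e.2
  obtain ⟨R, hR2, hRe, heR, hRR⟩ := h.f0 e (h.f1.invol e he1 he2)
  have hCe : centralizer (Q : Set G) ≤ centralizer {(e : G)} := by
    apply Subgroup.centralizer_le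
    rw [Set.singleton_subset_iff]
    exact heQ
  have hQe : Q ≤ centralizer {(e : G)} := by
    intro x hx
    rw [mem_centralizer_singleton_iff]
    exact hec x hx
  have hCR : centralizer (Q : Set G) ≤ normalizer (R : Set G) := hCe.trans heR
  have hQR : Q ≤ normalizer (R : Set G) := hQe.trans heR
  -- `R ∩ C(Q)` lies in `Q`
  have key : R ⊓ centralizer (Q : Set G) ≤ Q := by
    have h1 : R ⊓ centralizer (Q : Set G) ≤
        (pCore 2 (centralizer (Q : Set G) : Subgroup G)).map (centralizer (Q : Set G)).subtype := by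
      apply Lib.LocalCore.le_map_pCore inf_le_right (hR2.to_le inf_le_left)
      intro c hc
      have h2 : ∀ c ∈ centralizer (Q : Set G), ∀ x ∈ R ⊓ centralizer (Q : Set G),
          c * x * c⁻¹ ∈ R ⊓ centralizer (Q : Set G) := fun c hc x hx =>
        ⟨conj_mem hCR hc hx.1, (centralizer (Q : Set G)).mul_mem
          ((centralizer (Q : Set G)).mul_mem hc hx.2) ((centralizer (Q : Set G)).inv_mem hc)⟩
      rw [mem_normalizer_iff]
      intro x
      refine ⟨h2 c hc x, fun hx => ?_⟩
      have h3 := h2 c⁻¹ ((centralizer (Q : Set G)).inv_mem hc) _ hx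
      have h4 : c⁻¹ * (c * x * c⁻¹) * (c⁻¹)⁻¹ = x := by group
      rwa [h4] at h3
    have h5 : (pCore 2 (centralizer (Q : Set G) : Subgroup G)).map (centralizer (Q : Set G)).subtype ≤ Q := by
      rw [hQ]
      rw [← hQ]
      refine Lib.LocalCore.le_map_pCore ((map_subtype_le _).trans hCM)
        (Lib.LocalCore.isPGroup_map_pCore 2 _) ?_ |>.trans hQ.ge
      -- `M` normalizes `O₂(C(Q))`
      intro m hm
      have h6 : ∀ m ∈ M, ∀ x ∈ (pCore 2 (centralizer (Q : Set G) : Subgroup G)).map
          (centralizer (Q : Set G)).subtype, m * x * m⁻¹ ∈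
          (pCore 2 (centralizer (Q : Set G) : Subgroup G)).map (centralizer (Q : Set G)).subtype := by
        intro m hm x hx
        have h7 : (pCore 2 (centralizer (Q : Set G) : Subgroup G)).map (centralizer (Q : Set G)).subtype ≤
            centralizer (Q : Set G) := map_subtype_le _
        have h8 : cj m ((pCore 2 (centralizer (Q : Set G) : Subgroup G)).map
            (centralizer (Q : Set G)).subtype) ≤ (pCore 2 (centralizer (Q : Set G) : Subgroup G)).map
            (centralizer (Q : Set G)).subtype := by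
          apply Lib.LocalCore.le_map_pCore
          · rintro _ ⟨y, hy, rfl⟩
            exact conj_mem hMC hm (h7 hy)
          · exact (Lib.LocalCore.isPGroup_map_pCore 2 _).map _
          · -- `C(Q)` normalizes the conjugate
            have h9 := Lib.LocalCore.le_normalizer_map_pCore 2 (centralizer (Q : Set G))
            intro c hc
            have h10 : ∀ c ∈ centralizer (Q : Set G), ∀ y ∈ cj m ((pCore 2
                (centralizer (Q : Set G) : Subgroup G)).map (centralizer (Q : Set G)).subtype),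
                c * y * c⁻¹ ∈ cj m ((pCore 2 (centralizer (Q : Set G) : Subgroup G)).map
                (centralizer (Q : Set G)).subtype) := by
              rintro c hc _ ⟨y, hy, rfl⟩
              refine ⟨(m⁻¹ * c * m) * y * (m⁻¹ * c * m)⁻¹, conj_mem h9 (conj_mem' hMC hm hc) hy, ?_⟩
              change m * ((m⁻¹ * c * m) * y * (m⁻¹ * c * m)⁻¹) * m⁻¹ = c * (m * y * m⁻¹) * c⁻¹
              group
            rw [mem_normalizer_iff]
            intro x
            refine ⟨h10 c hc x, fun hx => ?_⟩
            have h3 := h10 c⁻¹ ((centralizer (Q : Set G)).inv_mem hc) _ hx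
            have h4 : c⁻¹ * (c * x * c⁻¹) * (c⁻¹)⁻¹ = x := by group
            rwa [h4] at h3
        exact h8 ⟨x, hx, rfl⟩
      rw [mem_normalizer_iff]
      intro x
      refine ⟨h6 m hm x, fun hx => ?_⟩
      have h3 := h6 m⁻¹ (M.inv_mem hm) _ hx
      have h4 : m⁻¹ * (m * x * m⁻¹) * (m⁻¹)⁻¹ = x := by group
      rwa [h4] at h3
    exact h1.trans h5
  have h2C : IsPGroup 2 (centralizer (Q : Set G) : Subgroup G) := by
    apply isPGroup_two_of
    intro x hx hodd
    have hxQ : Q ≤ centralizer ((zpowers x : Subgroup G) : Set G) := by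
      intro q hq
      rw [mem_centralizer_iff]
      intro b hb
      obtain ⟨k, rfl⟩ := mem_zpowers_iff.1 hb
      exact ((show Commute q x from (mem_centralizer_iff.1 hx q hq)).symm.zpow_left k)
    have h1 := Lib.ThompsonPQ.thompson_p_times_q (G := G) 2 Q (zpowers x) R hQ2
      (by rw [Nat.card_zpowers]; exact hodd.coprime_two_right) hR2 hxQ hQR
      (by rw [zpowers_le]; exact hCR hx) (key.trans hxQ)
    have h2 : x ∈ R := hRR (h1 (mem_zpowers x))
    obtain ⟨k, hk⟩ := hR2 ⟨x, h2⟩
    have hk' : x ^ 2 ^ k = 1 := congrArg Subtype.val hk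
    have h4 : orderOf x ∣ 2 ^ k := orderOf_dvd_of_pow_eq_one hk'
    have h5 : Nat.Coprime (orderOf x) (2 ^ k) := Nat.Coprime.pow_right k hodd.coprime_two_right
    have h6 : orderOf x = 1 := Nat.Coprime.eq_one_of_dvd h5 h4
    exact orderOf_eq_one_iff.1 h6
  have h3 := Lib.LocalCore.le_map_pCore hCM h2C hMC
  rw [← hQ] at h3
  exact h3

/-- **the reduction to the cases A and B** -/
theorem two_local {G : Type*} [Group G] [Finite G] [IsSimpleGroup G] (_hna : ¬ IsMulCommutative G)
    (Γ : Geom G) (h : Facts Γ) (hA : CaseA Γ) (hB : CaseB Γ) (M : Subgroup G) (hM : IsCoatom M)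
    (Q₀ : Subgroup G) (h0 : Q₀ ≠ ⊥) (h2 : IsPGroup 2 Q₀) (hle : Q₀ ≤ M)
    (hn : M ≤ normalizer (Q₀ : Set G)) : Good Γ M := by
  obtain ⟨Q, hQ⟩ : ∃ Q : Subgroup G, Q = (pCore 2 M).map M.subtype := ⟨_, rfl⟩
  have hQ2 : IsPGroup 2 Q := by rw [hQ]; exact Lib.LocalCore.isPGroup_map_pCore 2 M
  have hQM : Q ≤ M := by rw [hQ]; exact map_subtype_le _
  have hMQ : M ≤ normalizer (Q : Set G) := by rw [hQ]; exact Lib.LocalCore.le_normalizer_map_pCore 2 M
  have hQ0 : Q₀ ≤ Q := by rw [hQ]; exact Lib.LocalCore.le_map_pCore hle h2 hn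
  have hbot : Q ≠ ⊥ := by
    rintro rfl
    exact h0 (le_bot_iff.1 hQ0)
  have hN : normalizer (Q : Set G) = M := by
    rcases hM.le_iff.1 hMQ with h1 | h1
    · exfalso
      have h3 : Q.Normal := Subgroup.normalizer_eq_top_iff.1 h1
      rcases h3.eq_bot_or_eq_top with h4 | h4
      · exact hbot h4
      · exact hM.1 (top_le_iff.1 (h4 ▸ hQM))
    · exact h1
  have hself := centralizer_le_core h hQ hbot hN
  have hloc : Loc M Q (om Q) :=
    { pgroup := hQ2
      E_ne := om_ne_bot hQ2 hbot
      E_le := fun x hx => hx.1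
      el := ⟨fun a ha => ha.2.1, fun a ha b hb => hb.2.2 a ha.1⟩
      cent := fun x hx e he => he.2.2 x hx
      self := hself
      mem := by
        intro e he hc
        refine ⟨hself ?_, he, hc⟩
        rw [mem_centralizer_iff]
        exact hc
      normQ := hMQ
      normE := le_normalizer_om hMQ }
  by_cases hE : ∀ u ∈ om Q, u ≠ 1 → Γ.A u
  · exact hA M Q (om Q) hloc hE
  · push Not at hE
    obtain ⟨u, hu, hu1, huA⟩ := hE
    exact hB M Q (om Q) hloc ⟨u, hu, (h.f1.invol u hu1 hu.2.1).resolve_left huA⟩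

end Local

end Cfsg.Agent.H172.JM
end

-- part: H860/JM/PartOne
section
/-!
# Part I: the maximal 2-local subgroups, abstract form
-/

set_option autoImplicit false

namespace Cfsg.Agent.H860.JM

theorem l3 {G : Type*} [Group G] [Finite G] (Γ : Geom G) (h : Facts Γ) : L3 Γ :=
  H919.JM.l3' h (fun _ _ _ hk => hk.mul)

/-- **a maximal subgroup with a nontrivial normal 2-subgroup is in one of the four classes** -/
theorem good {G : Type*} [Group G] [Finite G] [IsSimpleGroup G] (hna : ¬ IsMulCommutative G)
    (Γ : Geom G) (h : Facts Γ) (M : Subgroup G) (hM : IsCoatom M) (Q₀ : Subgroup G) (h0 : Q₀ ≠ ⊥)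
    (h2 : IsPGroup 2 Q₀) (hle : Q₀ ≤ M) (hn : M ≤ Subgroup.normalizer (Q₀ : Set G)) : Good Γ M :=
  H172.JM.two_local hna Γ h (H546.JM.caseA Γ h (H172.JM.ll Γ h) (H172.JM.pt Γ h))
    (H322.JM.caseB Γ h (H172.JM.ll Γ h) (H172.JM.pt Γ h) (l3 Γ h)) M hM Q₀ h0 h2 hle hn

end Cfsg.Agent.H860.JM
end
end
end
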